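import Mathlib
import Groth.Statements.S2493
import Groth.Agent.H8.Coh

/-!
# Quasi-flat morphisms: generization lifting and consequences
-/

set_option autoImplicit false
universe u
open CategoryTheory AlgebraicGeometry TopologicalSpace

namespace Groth.Agent.H70.QuasiFlat

section CA
open TensorProduct

/-- A local homomorphism of local rings `A → B` such that some nonzero finite `B`-module is flat
over `A` induces a surjection on prime spectra. -/
theorem comap_surjective_of_flat_module {A B : Type u} [CommRing A] [CommRing B]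
    [IsLocalRing A] [IsLocalRing B] (φ : A →+* B) [IsLocalHom φ]
    (M : Type u) [AddCommGroup M] [Module B M] [Module.Finite B M] [Nontrivial M]
    (hflat : @Module.Flat A M _ _ (Module.compHom M φ)) :
    Function.Surjective (PrimeSpectrum.comap φ) := by
  letI algAB : Algebra A B := φ.toAlgebra
  letI modAM : Module A M := Module.compHom M φ
  haveI tower : IsScalarTower A B M := ⟨fun a b m => by
    show (φ a * b) • m = φ a • (b • m)
    exact mul_smul _ _ _⟩
  haveI : Module.Flat A M := hflat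
  haveI ff : Module.FaithfullyFlat A M := by
    refine ⟨fun 𝔪 h𝔪 htop => ?_⟩
    have h𝔪' : 𝔪 = IsLocalRing.maximalIdeal A := IsLocalRing.eq_maximalIdeal h𝔪
    have hle : (⊤ : Submodule B M) ≤ IsLocalRing.maximalIdeal B • (⊤ : Submodule B M) := by
      intro m _
      have hm : m ∈ 𝔪 • (⊤ : Submodule A M) := by rw [htop]; exact Submodule.mem_top
      refine Submodule.smul_induction_on hm ?_ ?_
      · intro a ha n _
        have hφa : φ a ∈ IsLocalRing.maximalIdeal B := by
          rw [IsLocalRing.mem_maximalIdeal, mem_nonunits_iff]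
          intro hu
          have hau : IsUnit a := isUnit_of_map_unit φ a hu
          rw [h𝔪'] at ha
          exact (IsLocalRing.mem_maximalIdeal a).mp ha hau
        exact Submodule.smul_mem_smul hφa Submodule.mem_top
      · intro x y hx hy
        exact Submodule.add_mem _ hx hy
    have hbot := Submodule.eq_bot_of_le_smul_of_le_jacobson_bot (IsLocalRing.maximalIdeal B)
      (⊤ : Submodule B M) Module.Finite.fg_top hle (IsLocalRing.maximalIdeal_le_jacobson _)
    exact top_ne_bot hbot
  intro p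
  rw [← Set.mem_range]
  show p ∈ Set.range (PrimeSpectrum.comap (algebraMap A B))
  rw [← PrimeSpectrum.nontrivial_iff_mem_rangeComap]
  by_contra hnt
  rw [not_nontrivial_iff_subsingleton] at hnt
  have hnt2 : Nontrivial (p.asIdeal.ResidueField ⊗[A] M) := inferInstance
  apply not_subsingleton (p.asIdeal.ResidueField ⊗[A] M)
  have key : ∀ z : p.asIdeal.ResidueField ⊗[A] M, z = 0 := by
    intro z
    induction z using TensorProduct.induction_on with
    | zero => rfl
    | tmul k m =>
      have h1 : (LinearMap.lTensor p.asIdeal.ResidueField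
          ((LinearMap.toSpanSingleton B M m).restrictScalars A)) (k ⊗ₜ[A] (1 : B)) =
          k ⊗ₜ[A] m := by
        rw [LinearMap.lTensor_tmul]
        simp
      rw [← h1, Subsingleton.elim (k ⊗ₜ[A] (1 : B)) 0, map_zero]
    | add x y hx hy => rw [hx, hy, add_zero]
  exact ⟨fun x y => by rw [key x, key y]⟩

end CA

/-- Quasi-flat morphisms are generalizing. -/
theorem generalizingMap_of_isQuasiFlat {X Y : Scheme.{u}} (f : X ⟶ Y)
    (hf : FDesc.IsQuasiFlat f) : GeneralizingMap f.base := by
  obtain ⟨M, hcoh, hflat, hnt⟩ := hf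
  intro x y' hy'
  have hy'' : y' ∈ Set.range (Y.fromSpecStalk (f.base x)) := by
    rw [Scheme.range_fromSpecStalk]; exact hy'
  obtain ⟨p, rfl⟩ := hy''
  haveI := Groth.Agent.H8.finite_stalk_of_isCoh M hcoh x
  haveI := hnt x
  obtain ⟨q, hq⟩ := comap_surjective_of_flat_module (f.stalkMap x).hom
    (M.presheaf.stalk x) (hflat x) p
  refine ⟨X.fromSpecStalk x q, ?_, ?_⟩
  · have : X.fromSpecStalk x q ∈ Set.range (X.fromSpecStalk x) := ⟨q, rfl⟩
    rw [Scheme.range_fromSpecStalk] at this
    exact this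
  · have h1 : (Spec.map (f.stalkMap x) ≫ Y.fromSpecStalk (f.base x)) q =
        (X.fromSpecStalk x ≫ f) q := by
      rw [Scheme.SpecMap_stalkMap_fromSpecStalk]
    rw [Scheme.Hom.comp_apply, Scheme.Hom.comp_apply] at h1
    rw [← hq]
    exact h1.symm

/-- For a quasi-compact morphism, every point of the closure of the image is a specialization of
a point of the image. -/
theorem exists_specializes_of_mem_closure_range {Y' Y : Scheme.{u}} (g : Y' ⟶ Y)
    [QuasiCompact g] (y : Y) (hy : y ∈ closure (Set.range g.base)) :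
    ∃ z ∈ Set.range g.base, z ⤳ y := by
  obtain ⟨V, hV, hyV, -⟩ : ∃ V : Y.Opens, IsAffineOpen V ∧ y ∈ V ∧ V ≤ (⊤ : Y.Opens) :=
    Opens.isBasis_iff_nbhd.mp Y.isBasis_affineOpens (Opens.mem_top y)
  have hc : IsCompact ((g ⁻¹ᵁ V : Y'.Opens) : Set Y') := g.isCompact_preimage hV.isCompact
  obtain ⟨R, h, hh⟩ := isCompact_iff_exists.mp hc
  have hk : Set.range (h ≫ g).base ⊆ Set.range hV.fromSpec.base := by
    rw [hV.range_fromSpec]
    rintro _ ⟨t, rfl⟩
    have : h.base t ∈ ((g ⁻¹ᵁ V : Y'.Opens) : Set Y') := by rw [← hh]; exact ⟨t, rfl⟩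
    exact this
  let ℓ : Spec R ⟶ Spec Γ(Y, V) := IsOpenImmersion.lift hV.fromSpec (h ≫ g) hk
  have hℓ : ℓ ≫ hV.fromSpec = h ≫ g := IsOpenImmersion.lift_fac _ _ _
  obtain ⟨𝔭, h𝔭⟩ : ∃ 𝔭, hV.fromSpec.base 𝔭 = y := by
    have : y ∈ Set.range hV.fromSpec.base := by rw [hV.range_fromSpec]; exact hyV
    exact this
  have h1 : 𝔭 ∈ closure (hV.fromSpec.base ⁻¹' Set.range g.base) :=
    hV.fromSpec.isOpenEmbedding.isOpenMap.preimage_closure_subset_closure_preimage (by
      show hV.fromSpec.base 𝔭 ∈ closure (Set.range g.base)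
      rw [h𝔭]; exact hy)
  have h2 : hV.fromSpec.base ⁻¹' Set.range g.base ⊆ Set.range ℓ.base := by
    rintro 𝔮 ⟨t', ht'⟩
    have ht'V : t' ∈ ((g ⁻¹ᵁ V : Y'.Opens) : Set Y') := by
      show g.base t' ∈ (V : Set Y)
      rw [ht', ← hV.range_fromSpec]; exact ⟨𝔮, rfl⟩
    rw [← hh] at ht'V
    obtain ⟨t, rfl⟩ := ht'V
    refine ⟨t, ?_⟩
    apply hV.fromSpec.isOpenEmbedding.injective
    rw [← ht']
    show (ℓ ≫ hV.fromSpec).base t = g.base (h.base t)
    rw [hℓ]; rfl
  have h3 : 𝔭 ∈ closure (Set.range ℓ.base) := closure_mono h2 h1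
  obtain ⟨ψ, hψ⟩ : ∃ ψ : Γ(Y, V) ⟶ R, Spec.map ψ = ℓ :=
    ⟨Spec.preimage ℓ, Spec.map_preimage ℓ⟩
  have h4 : 𝔭 ∈ closure (Set.range (PrimeSpectrum.comap ψ.hom)) := by
    rw [← hψ] at h3; exact h3
  rw [PrimeSpectrum.closure_range_comap] at h4
  have h4' := (PrimeSpectrum.mem_zeroLocus (𝔭 : PrimeSpectrum Γ(Y, V)) _).mp h4
  obtain ⟨Q, -, hQ, hQle⟩ := Ideal.exists_ideal_comap_le_prime
    (𝔭 : PrimeSpectrum Γ(Y, V)).asIdeal (⊥ : Ideal R)
    (f := ψ.hom) (by rw [← RingHom.ker_eq_comap_bot]; exact h4')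
  let 𝔮 : PrimeSpectrum R := ⟨Q, hQ⟩
  have hspec : PrimeSpectrum.comap ψ.hom 𝔮 ⤳ 𝔭 :=
    (PrimeSpectrum.le_iff_specializes _ _).mp hQle
  refine ⟨g.base (h.base 𝔮), ⟨_, rfl⟩, ?_⟩
  have h5 : g.base (h.base 𝔮) = hV.fromSpec.base (PrimeSpectrum.comap ψ.hom 𝔮) := by
    have : (h ≫ g).base 𝔮 = (ℓ ≫ hV.fromSpec).base 𝔮 := by rw [hℓ]
    rw [← hψ] at this
    exact this
  rw [h5, ← h𝔭]
  exact hspec.map hV.fromSpec.continuous

/-- A quasi-compact surjective generalizing morphism is a quotient map. -/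
theorem isQuotientMap_of_generalizingMap {X Y : Scheme.{u}} (f : X ⟶ Y)
    (hgen : GeneralizingMap f.base) [Surjective f] [QuasiCompact f] :
    Topology.IsQuotientMap f.base := by
  rw [Topology.isQuotientMap_iff_isClosed]
  refine ⟨f.surjective, fun s => ⟨fun hs => hs.preimage f.continuous, fun hs => ?_⟩⟩
  have hstable : StableUnderSpecialization s := by
    rw [← stableUnderGeneralization_compl_iff]
    have := hgen.stableUnderGeneralization_image (hs.isOpen_compl.stableUnderGeneralization)
    rwa [← Set.preimage_compl, Set.image_preimage_eq _ f.surjective] at this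
  rw [← closure_subset_iff_isClosed]
  intro y hy
  let I := Scheme.IdealSheafData.vanishingIdeal ⟨f.base ⁻¹' s, hs⟩
  have hrange : Set.range (I.subschemeι ≫ f).base = s := by
    rw [Scheme.Hom.comp_base, TopCat.coe_comp, Set.range_comp, I.range_subschemeι,
      Scheme.IdealSheafData.coe_support_vanishingIdeal]
    exact Set.image_preimage_eq _ f.surjective
  obtain ⟨z, hz, hzy⟩ := exists_specializes_of_mem_closure_range (I.subschemeι ≫ f) y
    (by rw [hrange]; exact hy)
  rw [hrange] at hz
  exact hstable hzy hz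

/-- Preimage of the closure of a quasi-compact image under a generalizing morphism. -/
theorem preimage_closure_eq {X Y Y' : Scheme.{u}} (f : X ⟶ Y)
    (hgen : GeneralizingMap f.base) (g : Y' ⟶ Y) [QuasiCompact g] :
    f.base ⁻¹' closure (Set.range g.base) = closure (f.base ⁻¹' Set.range g.base) := by
  apply subset_antisymm
  · intro x hx
    obtain ⟨z, hz, hzx⟩ := exists_specializes_of_mem_closure_range g (f.base x) hx
    obtain ⟨x', hx'x, hx'⟩ := hgen hzx
    have : x' ∈ f.base ⁻¹' Set.range g.base := by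
      show f.base x' ∈ Set.range g.base
      rw [hx']; exact hz
    exact closure_mono (Set.singleton_subset_iff.mpr this) (hx'x.mem_closure)
  · exact f.continuous.closure_preimage_subset _

end Groth.Agent.H70.QuasiFlat
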