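import Mathlib

/-!
# Topological lemmas on locally finite sets of "generic points"
-/

set_option autoImplicit false

namespace Groth.Agent.H70.GenPoints

variable {X : Type*} [TopologicalSpace X]

/-- If `F` is locally finite, the set of specializations of points of `F` is closed. -/
theorem isClosed_specClosure (F : Set X)
    (hF : ∀ x : X, ∃ W : Set X, IsOpen W ∧ x ∈ W ∧ (F ∩ W).Finite) :
    IsClosed {x | ∃ x' ∈ F, x' ⤳ x} := by
  rw [← isOpen_compl_iff, isOpen_iff_forall_mem_open]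
  intro x hx
  obtain ⟨W, hWo, hxW, hfin⟩ := hF x
  refine ⟨W ∩ ⋂ x' ∈ (F ∩ W), (closure {x'})ᶜ, ?_, ?_, ?_⟩
  · rintro u ⟨huW, hu⟩ ⟨x'', hx''F, hx''u⟩
    have hx''W : x'' ∈ W := hx''u.mem_open hWo huW
    have h1 := Set.mem_iInter₂.mp hu x'' ⟨hx''F, hx''W⟩
    exact h1 (specializes_iff_mem_closure.mp hx''u)
  · exact hWo.inter (hfin.isOpen_biInter (fun x' _ => isClosed_closure.isOpen_compl))
  · refine ⟨hxW, Set.mem_iInter₂.mpr fun x' hx' hmem => ?_⟩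
    exact hx ⟨x', hx'.1, specializes_iff_mem_closure.mpr hmem⟩

theorem isClopen_closure_singleton (F : Set X)
    (hF : ∀ x : X, ∃ W : Set X, IsOpen W ∧ x ∈ W ∧ (F ∩ W).Finite)
    (hgen : ∀ x : X, ∃ x' ∈ F, x' ⤳ x)
    (huniq : ∀ x : X, ∀ x1 ∈ F, ∀ x2 ∈ F, x1 ⤳ x → x2 ⤳ x → x1 = x2)
    (ξ : X) (hξ : ξ ∈ F) : IsClopen (closure ({ξ} : Set X)) := by
  refine ⟨isClosed_closure, ?_⟩
  rw [isOpen_iff_forall_mem_open]
  intro x hx
  obtain ⟨W, hWo, hxW, hfin⟩ := hF x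
  refine ⟨W ∩ ⋂ x' ∈ ((F ∩ W) \ {ξ}), (closure {x'})ᶜ, ?_, ?_, ?_⟩
  · rintro u ⟨huW, hu⟩
    obtain ⟨x'', hx''F, hx''u⟩ := hgen u
    have hx''W : x'' ∈ W := hx''u.mem_open hWo huW
    by_cases h : x'' = ξ
    · rw [← h]
      exact specializes_iff_mem_closure.mp hx''u
    · exact absurd (specializes_iff_mem_closure.mp hx''u)
        (Set.mem_iInter₂.mp hu x'' ⟨⟨hx''F, hx''W⟩, h⟩)
  · exact hWo.inter ((hfin.subset Set.sdiff_subset).isOpen_biInter
      (fun x' _ => isClosed_closure.isOpen_compl))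
  · refine ⟨hxW, Set.mem_iInter₂.mpr fun x' hx' hmem => ?_⟩
    exact hx'.2 (Set.mem_singleton_iff.mpr (huniq x x' hx'.1.1 ξ hξ
      (specializes_iff_mem_closure.mpr hmem) (specializes_iff_mem_closure.mpr hx)))

theorem irreducibleSpace_of_genericPoints [ConnectedSpace X] (F : Set X)
    (hF : ∀ x : X, ∃ W : Set X, IsOpen W ∧ x ∈ W ∧ (F ∩ W).Finite)
    (hgen : ∀ x : X, ∃ x' ∈ F, x' ⤳ x)
    (huniq : ∀ x : X, ∀ x1 ∈ F, ∀ x2 ∈ F, x1 ⤳ x → x2 ⤳ x → x1 = x2) :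
    IrreducibleSpace X := by
  obtain ⟨x0⟩ := (inferInstance : Nonempty X)
  obtain ⟨ξ, hξ, -⟩ := hgen x0
  have hcl := isClopen_closure_singleton F hF hgen huniq ξ hξ
  have huniv : closure ({ξ} : Set X) = Set.univ := hcl.eq_univ ⟨ξ, subset_closure rfl⟩
  have hirr : IsIrreducible (closure ({ξ} : Set X)) := isIrreducible_singleton.closure
  rw [huniv] at hirr
  exact (irreducibleSpace_def X).mpr hirr

end Groth.Agent.H70.GenPoints
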