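import Mathlib
import Groth.Agent.H70.GenPoints

/-!
# Irreducible components from a locally finite set of generic points
-/

set_option autoImplicit false

namespace Groth.Agent.H70.GenPoints

variable {X : Type*} [TopologicalSpace X]

theorem irreducibleComponents_of_genericPoints (F : Set X)
    (hF : ∀ x : X, ∃ W : Set X, IsOpen W ∧ x ∈ W ∧ (F ∩ W).Finite)
    (hgen : ∀ x : X, ∃ x' ∈ F, x' ⤳ x)
    (huniq : ∀ x : X, ∀ x1 ∈ F, ∀ x2 ∈ F, x1 ⤳ x → x2 ⤳ x → x1 = x2) :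
    (∀ x : X, ∃! Z, Z ∈ irreducibleComponents X ∧ x ∈ Z) ∧
    (∀ Z ∈ irreducibleComponents X, IsOpen Z ∧ ∃! x, x ∈ Z ∧ x ∈ F) := by
  have hcl : ∀ ξ ∈ F, IsClopen (closure ({ξ} : Set X)) :=
    fun ξ hξ => isClopen_closure_singleton F hF hgen huniq ξ hξ
  have hcomp : ∀ ξ ∈ F, closure ({ξ} : Set X) ∈ irreducibleComponents X := by
    intro ξ hξ
    refine ⟨isIrreducible_singleton.closure, fun t ht hle => ?_⟩
    exact ht.2.isPreconnected.subset_isClopen (hcl ξ hξ)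
      ⟨ξ, hle (subset_closure rfl), subset_closure rfl⟩
  have hchar : ∀ Z ∈ irreducibleComponents X, ∀ x ∈ Z, ∀ ξ ∈ F, ξ ⤳ x →
      Z = closure ({ξ} : Set X) := by
    intro Z hZ x hxZ ξ hξ hξx
    have h1 : Z ⊆ closure ({ξ} : Set X) :=
      hZ.1.2.isPreconnected.subset_isClopen (hcl ξ hξ)
        ⟨x, hxZ, specializes_iff_mem_closure.mp hξx⟩
    exact le_antisymm h1 (hZ.2 (isIrreducible_singleton.closure) h1)
  constructor
  · intro x
    obtain ⟨ξ, hξ, hξx⟩ := hgen x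
    refine ⟨closure {ξ}, ⟨hcomp ξ hξ, specializes_iff_mem_closure.mp hξx⟩, ?_⟩
    rintro Z ⟨hZ, hxZ⟩
    exact hchar Z hZ x hxZ ξ hξ hξx
  · intro Z hZ
    obtain ⟨x, hxZ⟩ := hZ.1.1
    obtain ⟨ξ, hξ, hξx⟩ := hgen x
    have hZeq := hchar Z hZ x hxZ ξ hξ hξx
    refine ⟨hZeq ▸ (hcl ξ hξ).isOpen, ξ, ⟨hZeq ▸ subset_closure rfl, hξ⟩, ?_⟩
    rintro y ⟨hyZ, hyF⟩
    rw [hZeq] at hyZ
    exact huniq y y hyF ξ hξ specializes_rfl (specializes_iff_mem_closure.mpr hyZ)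

end Groth.Agent.H70.GenPoints
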