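import Mathlib
import Groth.Agent.S0537
import Groth.Agent.S2750
import Groth.Agent.S9407
import Groth.Agent.H14.HenselLift
import Groth.Agent.H47.HensNoeth2

/-!
# Unramified + generically dominant over a geometrically unibranch domain is étale

Ring-level keystone (EGA IV 18.10.1 / Stacks 0GS9-type statement):

* `isDomain_localization_of_etale`: `E` étale over a domain `A`, `q'` a prime of `E` over `p` with
  `A_p` geometrically unibranch. Then `E_{q'}` is a domain and `A → E_{q'}` is injective.
* `exists_annihilator`: `E` étale over a domain `A`, `q'` a prime of `E`: some `h ∉ q'` kills the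
  kernel of `E → E_{q'}`.
* `keystone`: `B` of finite type over the domain `A`, unramified at `q` (over `p`, `A_p`
  geometrically unibranch), and some prime of `B_q` contracts to `(0)` in `A`. Then `B_g` is étale
  over `A` for some `g ∉ q`.
-/

set_option autoImplicit false
set_option linter.style.haveILetI false
set_option linter.unusedSectionVars false
universe u
open IsLocalRing TensorProduct

namespace Groth.Agent.H70.UnramUnibranch

theorem isDomain_localization_of_etale_gen {A E : Type u} [CommRing A] [IsDomain A] [CommRing E]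
    [Algebra A E] [Algebra.Etale A E]
    (p : Ideal A) [p.IsPrime] (Rp : Type u) [CommRing Rp] [IsLocalRing Rp] [Algebra A Rp]
    [IsLocalization.AtPrime Rp p] (hA : CAlg2.IsGeomUnibranch Rp)
    (q' : Ideal E) [q'.IsPrime] [q'.LiesOver p] :
    IsDomain (Localization.AtPrime q') ∧
      Function.Injective (algebraMap A (Localization.AtPrime q')) := by
  classical
  haveI : IsDomain Rp :=
    IsLocalization.isDomain_of_le_nonZeroDivisors Rp p.primeCompl_le_nonZeroDivisors
  obtain ⟨Rsh, _, _, _, _, hsh⟩ := Groth.Agent.S0537.result Rp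
  haveI := hsh
  haveI : IsDomain Rsh :=
    (Groth.Agent.S2750.result Rp Rsh).mp ⟨inferInstance, hA⟩
  haveI hHens : HenselianLocalRing Rsh :=
    Hensel.IsStrictHenselization.henselian (R := Rp)
  have hsc : IsSepClosure (ResidueField Rp) (ResidueField Rsh) :=
    Hensel.IsStrictHenselization.isSepClosure
  haveI : IsSepClosed (ResidueField Rsh) := hsc.sep_closed
  have hI := Groth.Agent.H47.HensNoeth.isIndEtaleLocal_of_isStrictHenselization Rp Rsh
  haveI : Module.Flat Rp Rsh := hI.flat
  haveI : Module.FaithfullyFlat Rp Rsh := hI.faithfullyFlat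
  letI algARsh : Algebra A Rsh :=
    ((algebraMap Rp Rsh).comp (algebraMap A Rp)).toAlgebra
  haveI : IsScalarTower A Rp Rsh :=
    IsScalarTower.of_algebraMap_eq (fun _ => rfl)
  haveI : Module.Flat A Rp := IsLocalization.flat Rp p.primeCompl
  haveI : Module.Flat A Rsh := Module.Flat.trans A Rp Rsh
  let eR : Localization.AtPrime p ≃ₐ[A] Rp := IsLocalization.algEquiv p.primeCompl _ _
  letI algLR : Algebra (Localization.AtPrime p) Rsh :=
    ((algebraMap Rp Rsh).comp (eR : Localization.AtPrime p →+* Rp)).toAlgebra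
  haveI : IsScalarTower A (Localization.AtPrime p) Rsh :=
    IsScalarTower.of_algebraMap_eq (fun a => by
      show algebraMap Rp Rsh (algebraMap A Rp a) =
        algebraMap Rp Rsh (eR (algebraMap A (Localization.AtPrime p) a))
      rw [eR.commutes])
  haveI : IsLocalHom (algebraMap (Localization.AtPrime p) Rsh) := ⟨fun a ha => by
    have h1 : IsUnit (algebraMap Rp Rsh (eR a)) := ha
    have h2 : IsUnit (eR a) := isUnit_of_map_unit (algebraMap Rp Rsh) _ h1
    exact (isUnit_map_iff eR a).mp h2⟩
  letI := Localization.AtPrime.algebraOfLiesOver p q'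
  haveI : Algebra.IsSeparable p.ResidueField q'.ResidueField := inferInstance
  let lift0 : q'.ResidueField →ₐ[p.ResidueField] ResidueField Rsh := IsSepClosed.lift
  let ρ : E →ₐ[A] ResidueField Rsh :=
    (lift0.restrictScalars A).comp (IsScalarTower.toAlgHom A E q'.ResidueField)
  have hq : ∀ c, ρ c = 0 ↔ c ∈ q' := by
    intro c
    show lift0 (algebraMap E q'.ResidueField c) = 0 ↔ _
    rw [map_eq_zero_iff lift0 lift0.injective]
    exact Ideal.algebraMap_residueField_eq_zero
  obtain ⟨φ', hφ'⟩ := Groth.Agent.H14.exists_lift_localization ρ q' hq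
  letI algLS : Algebra (Localization.AtPrime q') Rsh := φ'.toRingHom.toAlgebra
  haveI : IsScalarTower A (Localization.AtPrime q') Rsh :=
    IsScalarTower.of_algebraMap_eq (fun a => (φ'.commutes a).symm)
  haveI : Module.Flat (Localization.AtPrime q') Rsh :=
    Algebra.FormallyUnramified.flat_of_restrictScalars A _ Rsh
  have hnu : ∀ c : E, c ∈ q' → ¬ IsUnit (φ' (algebraMap E _ c)) := fun c hc hu => by
    have h0 : residue Rsh (φ' (algebraMap E _ c)) = 0 := by rw [hφ']; exact (hq c).mpr hc
    exact ((mem_maximalIdeal _).mp ((residue_eq_zero_iff _).mp h0)) hu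
  have hun : ∀ c : E, c ∉ q' → IsUnit (φ' (algebraMap E _ c)) := fun c hc => by
    by_contra hnu'
    have h0 : residue Rsh (φ' (algebraMap E _ c)) = 0 :=
      (residue_eq_zero_iff _).mpr ((mem_maximalIdeal _).mpr hnu')
    rw [hφ'] at h0
    exact hc ((hq c).mp h0)
  haveI : IsLocalHom (algebraMap (Localization.AtPrime q') Rsh) := ⟨fun x hx => by
    obtain ⟨⟨a, s⟩, hxs⟩ := IsLocalization.surj q'.primeCompl x
    have hx' : IsUnit (φ' x) := hx
    have h1 : φ' x * φ' (algebraMap E _ (s : E)) = φ' (algebraMap E _ a) := by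
      rw [← map_mul]
      exact congrArg φ' hxs
    have h2 : IsUnit (φ' (algebraMap E _ a)) := by
      rw [← h1]
      exact hx'.mul (hun s s.2)
    have h3 : a ∉ q' := fun h => hnu a h h2
    have h4 : IsUnit (algebraMap E (Localization.AtPrime q') a) :=
      IsLocalization.map_units _ (⟨a, h3⟩ : q'.primeCompl)
    rw [← hxs] at h4
    exact isUnit_of_mul_isUnit_left h4⟩
  haveI : Module.FaithfullyFlat (Localization.AtPrime q') Rsh :=
    Module.FaithfullyFlat.of_flat_of_isLocalHom
  have hinj : Function.Injective φ' :=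
    FaithfulSMul.algebraMap_injective (Localization.AtPrime q') Rsh
  refine ⟨hinj.isDomain φ'.toRingHom, ?_⟩
  have hA1 : Function.Injective (algebraMap A Rsh) := by
    have h1 : Function.Injective (algebraMap A Rp) :=
      IsLocalization.injective _ p.primeCompl_le_nonZeroDivisors
    have h2 : Function.Injective (algebraMap Rp Rsh) :=
      FaithfulSMul.algebraMap_injective _ _
    exact h2.comp h1
  have hA2 : (algebraMap A Rsh : A → Rsh) =
      (algebraMap (Localization.AtPrime q') Rsh) ∘ (algebraMap A (Localization.AtPrime q')) := by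
    funext a
    exact IsScalarTower.algebraMap_apply A (Localization.AtPrime q') Rsh a
  rw [hA2] at hA1
  exact Function.Injective.of_comp hA1

theorem isDomain_localization_of_etale {A E : Type u} [CommRing A] [IsDomain A] [CommRing E]
    [Algebra A E] [Algebra.Etale A E]
    (p : Ideal A) [p.IsPrime] (hA : CAlg2.IsGeomUnibranch (Localization.AtPrime p))
    (q' : Ideal E) [q'.IsPrime] [q'.LiesOver p] :
    IsDomain (Localization.AtPrime q') ∧
      Function.Injective (algebraMap A (Localization.AtPrime q')) :=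
  isDomain_localization_of_etale_gen p (Localization.AtPrime p) hA q'

theorem exists_annihilator {A E : Type u} [CommRing A] [IsDomain A] [CommRing E]
    [Algebra A E] [Algebra.Etale A E] (q' : Ideal E) [q'.IsPrime] :
    ∃ h : E, h ∉ q' ∧ ∀ x : E, (∃ s : E, s ∉ q' ∧ s * x = 0) → h * x = 0 := by
  classical
  haveI : IsReduced E := Groth.Agent.S9407.result A E
  have hfin : (minimalPrimes E).Finite := by
    refine (Algebra.QuasiFinite.finite_primesOver (R := A) (S := E) ⊥).subset ?_
    intro P hP
    haveI : P.IsPrime := hP.1.1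
    haveI : (P.under A).IsPrime := Ideal.comap_isPrime _ _
    refine ⟨inferInstance, ?_⟩
    obtain ⟨P', hle, hP'prime, hP'over⟩ :=
      Ideal.exists_ideal_le_liesOver_of_le (p := (⊥ : Ideal A)) (q := P.under A) P bot_le
    have hPP : P' = P := le_antisymm hle (hP.2 ⟨hP'prime, bot_le⟩ hle)
    exact hPP ▸ hP'over
  have hex : ∀ P : Ideal E, ∃ y : E, y ∉ q' ∧ (¬ P ≤ q' → y ∈ P) := by
    intro P
    by_cases hP : P ≤ q'
    · exact ⟨1, fun h1 => (‹q'.IsPrime›.ne_top) ((Ideal.eq_top_iff_one _).mpr h1),
        fun h => absurd hP h⟩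
    · obtain ⟨y, hyP, hyq⟩ := Set.not_subset.mp hP
      exact ⟨y, hyq, fun _ => hyP⟩
  choose hP hP1 hP2 using hex
  refine ⟨∏ P ∈ hfin.toFinset, hP P, ?_, ?_⟩
  · intro hmem
    obtain ⟨P, _, hPq⟩ := Ideal.IsPrime.prod_mem_iff.mp hmem
    exact hP1 P hPq
  · rintro x ⟨s, hs, hsx⟩
    have hmem : (∏ P ∈ hfin.toFinset, hP P) * x ∈ sInf (minimalPrimes E) := by
      rw [Ideal.mem_sInf]
      intro P hPmin
      haveI : P.IsPrime := hPmin.1.1
      by_cases hPq : P ≤ q'
      · have h1 : s * x ∈ P := hsx ▸ P.zero_mem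
        have hx : x ∈ P :=
          (‹P.IsPrime›.mem_or_mem h1).resolve_left (fun hsP => hs (hPq hsP))
        exact P.mul_mem_left _ hx
      · have h1 : hP P ∈ P := hP2 P hPq
        obtain ⟨c, hc⟩ : hP P ∣ ∏ P ∈ hfin.toFinset, hP P :=
          Finset.dvd_prod_of_mem _ (hfin.mem_toFinset.mpr hPmin)
        rw [hc]
        exact P.mul_mem_right _ (P.mul_mem_right _ h1)
    have hbot : sInf (minimalPrimes E) = ⊥ := by
      show sInf ((⊥ : Ideal E).minimalPrimes) = ⊥
      rw [Ideal.sInf_minimalPrimes]
      exact nilradical_eq_zero E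
    rw [hbot] at hmem
    exact hmem

theorem keystone_gen {A B : Type u} [CommRing A] [IsDomain A] [CommRing B] [Algebra A B]
    (q : Ideal B) [q.IsPrime] (p : Ideal A) [p.IsPrime] [q.LiesOver p]
    (Rp : Type u) [CommRing Rp] [IsLocalRing Rp] [Algebra A Rp]
    [IsLocalization.AtPrime Rp p] (hA : CAlg2.IsGeomUnibranch Rp) [Algebra.FiniteType A B]
    [Algebra.IsUnramifiedAt A q]
    (hQ : ∃ Q : Ideal (Localization.AtPrime q), Q.IsPrime ∧
      Q.comap (algebraMap A (Localization.AtPrime q)) = ⊥) :
    ∃ g : B, g ∉ q ∧ Algebra.Etale A (Localization.Away g) := by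
  classical
  obtain ⟨g0, hg0, P, φ, hφ⟩ :=
    Algebra.IsUnramifiedAt.exists_hasStandardEtaleSurjectionOn (R := A) q
  obtain ⟨Q, hQprime, hQbot⟩ := hQ
  haveI := hQprime
  have hg0u : IsUnit (algebraMap B (Localization.AtPrime q) g0) :=
    IsLocalization.map_units _ (⟨g0, hg0⟩ : q.primeCompl)
  let lam : Localization.Away g0 →ₐ[A] Localization.AtPrime q :=
    IsLocalization.liftAlgHom (M := Submonoid.powers g0)
      (f := IsScalarTower.toAlgHom A B (Localization.AtPrime q)) (fun y => by
        obtain ⟨n, hn⟩ := y.2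
        rw [← hn, map_pow]
        exact hg0u.pow n)
  have hlam : ∀ b : B, lam (algebraMap B _ b) = algebraMap B (Localization.AtPrime q) b :=
    fun b => by
      show IsLocalization.liftAlgHom (M := Submonoid.powers g0) _ _ = _
      rw [IsLocalization.liftAlgHom_apply, IsLocalization.lift_eq]
      rfl
  let θ : P.Ring →ₐ[A] Localization.AtPrime q := lam.comp φ
  let q' : Ideal P.Ring := (maximalIdeal (Localization.AtPrime q)).comap θ.toRingHom
  haveI hq'prime : q'.IsPrime := Ideal.comap_isPrime _ _
  have hθA : θ.toRingHom.comp (algebraMap A P.Ring) = algebraMap A (Localization.AtPrime q) :=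
    θ.comp_algebraMap
  haveI : q'.LiesOver p := ⟨by
    show p = Ideal.comap (algebraMap A P.Ring)
      (Ideal.comap θ.toRingHom (maximalIdeal (Localization.AtPrime q)))
    have h1 : Ideal.comap (algebraMap B (Localization.AtPrime q))
        (maximalIdeal (Localization.AtPrime q)) = q :=
      IsLocalization.AtPrime.under_maximalIdeal (Localization.AtPrime q) q
    rw [Ideal.comap_comap, hθA, IsScalarTower.algebraMap_eq A B (Localization.AtPrime q),
      ← Ideal.comap_comap, h1]
    exact Ideal.LiesOver.over⟩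
  obtain ⟨hdom, hinjA⟩ := isDomain_localization_of_etale_gen p Rp hA q'
  haveI := hdom
  let P0 : Ideal P.Ring := RingHom.ker (algebraMap P.Ring (Localization.AtPrime q'))
  haveI : P0.IsPrime := RingHom.ker_isPrime _
  let QE : Ideal P.Ring := Q.comap θ.toRingHom
  haveI : QE.IsPrime := Ideal.comap_isPrime _ _
  have hunit : ∀ s : P.Ring, s ∉ q' → IsUnit (θ s) := fun s hs => by
    by_contra h
    exact hs ((mem_maximalIdeal _).mpr h)
  have hP0 : ∀ x, x ∈ P0 ↔ ∃ s, s ∉ q' ∧ s * x = 0 := by
    intro x
    show algebraMap P.Ring (Localization.AtPrime q') x = 0 ↔ _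
    rw [IsLocalization.map_eq_zero_iff q'.primeCompl]
    constructor
    · rintro ⟨m, hm⟩
      exact ⟨m, m.2, hm⟩
    · rintro ⟨s, hs, h⟩
      exact ⟨⟨s, hs⟩, h⟩
  have hle : P0 ≤ QE := by
    intro x hx
    obtain ⟨s, hs, hsx⟩ := (hP0 x).mp hx
    have h1 : θ s * θ x = 0 := by rw [← map_mul, hsx, map_zero]
    have hθx : θ x = 0 := (hunit s hs).mul_right_eq_zero.mp h1
    show θ x ∈ Q
    rw [hθx]
    exact Q.zero_mem
  have hunder : P0.under A = QE.under A := by
    have h1 : P0.under A = ⊥ := by
      ext a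
      show algebraMap P.Ring (Localization.AtPrime q') (algebraMap A P.Ring a) = 0 ↔ a ∈ (⊥ : Ideal A)
      rw [← IsScalarTower.algebraMap_apply A P.Ring (Localization.AtPrime q'),
        map_eq_zero_iff _ hinjA]
      rfl
    have h2 : QE.under A = ⊥ := by
      show Ideal.comap (algebraMap A P.Ring) (Ideal.comap θ.toRingHom Q) = ⊥
      rw [Ideal.comap_comap, hθA]
      exact hQbot
    rw [h1, h2]
  have hPQ : P0 = QE := Algebra.QuasiFinite.eq_of_le_of_under_eq (R := A) P0 QE hle hunder
  have hker : ∀ x, θ x = 0 → ∃ s, s ∉ q' ∧ s * x = 0 := fun x hx => by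
    apply (hP0 x).mp
    rw [hPQ]
    show θ x ∈ Q
    rw [hx]
    exact Q.zero_mem
  obtain ⟨h0, hh0, hann⟩ := exists_annihilator (A := A) q'
  obtain ⟨a0, ha0⟩ := hφ (algebraMap B _ g0)
  obtain ⟨⟨b, s⟩, hbs⟩ := IsLocalization.surj (Submonoid.powers g0) (φ h0)
  obtain ⟨k, hk⟩ := s.2
  have hk' : g0 ^ k = (s : B) := hk
  have hφh : φ (h0 * a0 ^ k) = algebraMap B (Localization.Away g0) b := by
    rw [map_mul, map_pow, ha0, ← map_pow, hk']
    exact hbs
  have ha0q : a0 ∉ q' := fun hmem => by
    have h1 : θ a0 = algebraMap B (Localization.AtPrime q) g0 := by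
      show lam (φ a0) = _
      rw [ha0, hlam]
    have h2 : ¬ IsUnit (θ a0) := (mem_maximalIdeal _).mp hmem
    exact h2 (h1 ▸ hg0u)
  have hhq : h0 * a0 ^ k ∉ q' := fun hmem =>
    (hq'prime.mem_or_mem hmem).elim hh0 (fun h' => ha0q (hq'prime.mem_of_pow_mem _ h'))
  have hbq : b ∉ q := by
    have h1 : θ (h0 * a0 ^ k) = algebraMap B (Localization.AtPrime q) b := by
      show lam (φ (h0 * a0 ^ k)) = _
      rw [hφh, hlam]
    have h2 : IsUnit (algebraMap B (Localization.AtPrime q) b) := h1 ▸ hunit _ hhq
    exact fun hb => ((IsLocalization.AtPrime.isUnit_to_map_iff (Localization.AtPrime q) q b).mp h2) hb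
  have hkill : ∀ x, φ x = 0 → (h0 * a0 ^ k) * x = 0 := fun x hx => by
    have h1 : θ x = 0 := by
      show lam (φ x) = 0
      rw [hx, map_zero]
    have h2 := hann x (hker x h1)
    rw [mul_right_comm, h2, zero_mul]
  generalize h0 * a0 ^ k = h at hφh hhq hkill
  haveI hloc : IsLocalization.Away (g0 * b) (Localization.Away (φ h)) :=
    hφh ▸ IsLocalization.Away.mul' (Localization.Away g0) _ _ _
  let μ : Localization.Away h →ₐ[A] Localization.Away (φ h) :=
    IsLocalization.Away.mapₐ (Localization.Away h) (Localization.Away (φ h)) φ h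
  have hμsurj : Function.Surjective μ :=
    IsLocalization.Away.mapₐ_surjective_of_surjective h hφ
  have hμalg : ∀ e : P.Ring, μ (algebraMap P.Ring _ e) =
      algebraMap (Localization.Away g0) (Localization.Away (φ h)) (φ e) := fun e => by
    show IsLocalization.Away.map (Localization.Away h) (Localization.Away (φ h)) φ.toRingHom h
      (algebraMap P.Ring _ e) = _
    unfold IsLocalization.Away.map
    rw [IsLocalization.map_eq]
    rfl
  have hμinj : Function.Injective μ := by
    rw [injective_iff_map_eq_zero]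
    intro x hx
    obtain ⟨⟨e, s⟩, hes⟩ := IsLocalization.surj (Submonoid.powers h) x
    have h1 : μ (algebraMap P.Ring _ e) = 0 := by rw [← hes, map_mul μ, hx, zero_mul]
    rw [hμalg] at h1
    obtain ⟨⟨_, m, rfl⟩, hm⟩ :=
      (IsLocalization.map_eq_zero_iff (Submonoid.powers (φ h)) _ _).mp h1
    have h3 : h * (h ^ m * e) = 0 := hkill _ (by rw [map_mul, map_pow]; exact hm)
    have h4 : algebraMap P.Ring (Localization.Away h) e = 0 := by
      rw [IsLocalization.map_eq_zero_iff (Submonoid.powers h)]
      refine ⟨⟨h ^ (m + 1), m + 1, rfl⟩, ?_⟩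
      show h ^ (m + 1) * e = 0
      rw [pow_succ', mul_assoc]
      exact h3
    have h5 : IsUnit (algebraMap P.Ring (Localization.Away h) s) := IsLocalization.map_units _ s
    rw [h4] at hes
    exact h5.mul_left_eq_zero.mp hes
  let e1 : Localization.Away h ≃ₐ[A] Localization.Away (φ h) :=
    AlgEquiv.ofBijective μ ⟨hμinj, hμsurj⟩
  let e2 : Localization.Away (g0 * b) ≃ₐ[A] Localization.Away (φ h) :=
    (IsLocalization.algEquiv (Submonoid.powers (g0 * b)) (Localization.Away (g0 * b))
      (Localization.Away (φ h))).restrictScalars A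
  haveI : Algebra.Etale A (Localization.Away h) := Algebra.Etale.comp A P.Ring _
  exact ⟨g0 * b, ‹q.IsPrime›.mul_notMem hg0 hbq, Algebra.Etale.of_equiv (e1.trans e2.symm)⟩

theorem keystone {A B : Type u} [CommRing A] [IsDomain A] [CommRing B] [Algebra A B]
    (q : Ideal B) [q.IsPrime] (p : Ideal A) [p.IsPrime] [q.LiesOver p]
    (hA : CAlg2.IsGeomUnibranch (Localization.AtPrime p)) [Algebra.FiniteType A B]
    [Algebra.IsUnramifiedAt A q]
    (hQ : ∃ Q : Ideal (Localization.AtPrime q), Q.IsPrime ∧
      Q.comap (algebraMap A (Localization.AtPrime q)) = ⊥) :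
    ∃ g : B, g ∉ q ∧ Algebra.Etale A (Localization.Away g) :=
  keystone_gen q p (Localization.AtPrime p) hA hQ

/-- Variant of the keystone with a prime `q0 ≤ q` of `B` lying over `(0)`. -/
theorem keystone' {A B : Type u} [CommRing A] [IsDomain A] [CommRing B] [Algebra A B]
    (q : Ideal B) [q.IsPrime] (p : Ideal A) [p.IsPrime] [q.LiesOver p]
    (Rp : Type u) [CommRing Rp] [IsLocalRing Rp] [Algebra A Rp]
    [IsLocalization.AtPrime Rp p] (hA : CAlg2.IsGeomUnibranch Rp) [Algebra.FiniteType A B]
    [Algebra.IsUnramifiedAt A q]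
    (hq0 : ∃ q0 : Ideal B, q0.IsPrime ∧ q0 ≤ q ∧ q0.comap (algebraMap A B) = ⊥) :
    ∃ g : B, g ∉ q ∧ Algebra.Etale A (Localization.Away g) := by
  obtain ⟨q0, hq0p, hq0le, hq0bot⟩ := hq0
  have hdisj : Disjoint (q.primeCompl : Set B) (q0 : Set B) := by
    rw [Set.disjoint_left]
    intro x hx hx0
    exact hx (hq0le hx0)
  refine keystone_gen q p Rp hA ⟨q0.map (algebraMap B (Localization.AtPrime q)),
    IsLocalization.isPrime_of_isPrime_disjoint q.primeCompl _ q0 hq0p hdisj, ?_⟩
  have h1 : Ideal.comap (algebraMap B (Localization.AtPrime q))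
      (Ideal.map (algebraMap B (Localization.AtPrime q)) q0) = q0 :=
    IsLocalization.under_map_of_isPrime_disjoint q.primeCompl _ hq0p hdisj
  rw [IsScalarTower.algebraMap_eq A B (Localization.AtPrime q), ← Ideal.comap_comap, h1, hq0bot]

/-- Local form: a local, essentially of finite type, formally unramified and injective extension of
a geometrically unibranch local domain is flat. -/
theorem flat_of_unramified_of_injective (R S : Type u) [CommRing R] [IsDomain R] [IsLocalRing R]
    [CommRing S] [IsLocalRing S] [Algebra R S] [IsLocalHom (algebraMap R S)]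
    [Algebra.EssFiniteType R S] [Algebra.FormallyUnramified R S]
    (hR : CAlg2.IsGeomUnibranch R) (hinj : Function.Injective (algebraMap R S)) :
    Module.Flat R S := by
  classical
  let B₀ := Algebra.EssFiniteType.subalgebra R S
  let M := Algebra.EssFiniteType.submonoid R S
  let q0 : Ideal B₀ := (maximalIdeal S).comap (algebraMap B₀ S)
  haveI hq0prime : q0.IsPrime := Ideal.comap_isPrime _ _
  have hM : M = q0.primeCompl := by
    ext b
    show IsUnit (algebraMap B₀ S b) ↔ b ∉ q0
    rw [Ideal.mem_comap, mem_maximalIdeal, mem_nonunits_iff, not_not]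
  haveI hlocS : IsLocalization q0.primeCompl S := hM ▸ (inferInstance : IsLocalization M S)
  haveI : q0.LiesOver (maximalIdeal R) := ⟨by
    show maximalIdeal R =
      Ideal.comap (algebraMap R B₀) (Ideal.comap (algebraMap B₀ S) (maximalIdeal S))
    rw [Ideal.comap_comap, ← IsScalarTower.algebraMap_eq]
    have h := ((local_hom_TFAE (algebraMap R S)).out 0 4).mp ‹IsLocalHom (algebraMap R S)›
    exact h.symm⟩
  haveI : Algebra.IsUnramifiedAt R q0 := by
    let e : Localization.AtPrime q0 ≃ₐ[R] S :=
      (IsLocalization.algEquiv q0.primeCompl (Localization.AtPrime q0) S).restrictScalars R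
    exact Algebra.FormallyUnramified.of_equiv e.symm
  haveI : IsLocalization.AtPrime R (maximalIdeal R) :=
    IsLocalization.of_le_isUnit (fun s hs => by
      show IsUnit s
      by_contra hnu
      exact hs ((mem_maximalIdeal _).mpr hnu))
  have hbot : (⊥ : Ideal R) ∈ minimalPrimes R := by
    rw [IsDomain.minimalPrimes_eq_singleton_bot]
    rfl
  obtain ⟨Q, hQp, hQbot⟩ := Ideal.exists_comap_eq_of_mem_minimalPrimes_of_injective hinj ⊥ hbot
  haveI := hQp
  obtain ⟨g, hg, het⟩ := keystone' q0 (maximalIdeal R) R hR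
    ⟨Q.comap (algebraMap B₀ S), Ideal.comap_isPrime _ _,
      Ideal.comap_mono (le_maximalIdeal hQp.ne_top), by
        rw [Ideal.comap_comap, ← IsScalarTower.algebraMap_eq]
        exact hQbot⟩
  have hgu : IsUnit (algebraMap B₀ S g) := IsLocalization.map_units S (⟨g, hg⟩ : q0.primeCompl)
  letI algT : Algebra (Localization.Away g) S := (IsLocalization.Away.lift g hgu).toAlgebra
  haveI : IsScalarTower B₀ (Localization.Away g) S :=
    IsScalarTower.of_algebraMap_eq (fun b => (IsLocalization.Away.lift_eq g hgu b).symm)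
  haveI : IsScalarTower R (Localization.Away g) S :=
    IsScalarTower.of_algebraMap_eq (fun r => by
      rw [IsScalarTower.algebraMap_apply R B₀ (Localization.Away g),
        ← IsScalarTower.algebraMap_apply B₀ (Localization.Away g) S,
        ← IsScalarTower.algebraMap_apply R B₀ S])
  haveI : IsLocalization (q0.primeCompl.map (algebraMap B₀ (Localization.Away g))) S :=
    IsLocalization.isLocalization_of_submonoid_le (Localization.Away g) S (Submonoid.powers g)
      q0.primeCompl (by rw [Submonoid.powers_le]; exact hg)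
  haveI : Module.Flat (Localization.Away g) S :=
    IsLocalization.flat S (q0.primeCompl.map (algebraMap B₀ (Localization.Away g)))
  haveI : Module.Flat R (Localization.Away g) := inferInstance
  exact Module.Flat.trans R (Localization.Away g) S

end Groth.Agent.H70.UnramUnibranch
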