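import Mathlib
import Groth.Agent.H70.UnramUnibranch

/-!
# Étale over a geometrically unibranch local domain is geometrically unibranch (ring level)

* `exists_map_to_strictHenselization`: `E` étale over `A`, `q'` over `p`: a local, flat, injective map
  from `E_{q'}` to a strict henselization of (any model of) `A_p`.
* `exists_unit_mul_eq_zero`, `injective_of_isIndEtaleLocal`: injectivity of local maps from
  ind-étale local algebras to flat local algebras.
* `isGeomUnibranch_localization_of_etale`, `isGeomUnibranch_of_etale_away`.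
-/

set_option autoImplicit false
set_option linter.style.haveILetI false
set_option linter.unusedSectionVars false
universe u
open IsLocalRing TensorProduct

namespace Groth.Agent.H70.UnramUnibranch

theorem exists_map_to_strictHenselization {A E : Type u} [CommRing A] [CommRing E]
    [Algebra A E] [Algebra.Etale A E]
    (p : Ideal A) [p.IsPrime] (Rp : Type u) [CommRing Rp] [IsLocalRing Rp] [Algebra A Rp]
    [IsLocalization.AtPrime Rp p] (q' : Ideal E) [q'.IsPrime] [q'.LiesOver p] :
    ∃ (Rsh : Type u) (_ : CommRing Rsh) (_ : IsLocalRing Rsh) (_ : Algebra Rp Rsh)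
      (_ : IsLocalHom (algebraMap Rp Rsh)) (_ : Hensel.IsStrictHenselization Rp Rsh)
      (ψ : Localization.AtPrime q' →+* Rsh), IsLocalHom ψ ∧ Function.Injective ψ ∧ ψ.Flat := by
  classical
  obtain ⟨Rsh, _, _, _, _, hsh⟩ := Groth.Agent.S0537.result Rp
  refine ⟨Rsh, inferInstance, inferInstance, inferInstance, inferInstance, hsh, ?_⟩
  haveI := hsh
  haveI hHens : HenselianLocalRing Rsh :=
    Hensel.IsStrictHenselization.henselian (R := Rp)
  have hsc : IsSepClosure (ResidueField Rp) (ResidueField Rsh) :=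
    Hensel.IsStrictHenselization.isSepClosure
  haveI : IsSepClosed (ResidueField Rsh) := hsc.sep_closed
  have hI := Groth.Agent.H47.HensNoeth.isIndEtaleLocal_of_isStrictHenselization Rp Rsh
  haveI : Module.Flat Rp Rsh := hI.flat
  haveI : Module.FaithfullyFlat Rp Rsh := hI.faithfullyFlat
  letI algARsh : Algebra A Rsh :=
    ((algebraMap Rp Rsh).comp (algebraMap A Rp)).toAlgebra
  haveI : IsScalarTower A Rp Rsh :=
    IsScalarTower.of_algebraMap_eq (fun _ => rfl)
  haveI : Module.Flat A Rp := IsLocalization.flat Rp p.primeCompl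
  haveI : Module.Flat A Rsh := Module.Flat.trans A Rp Rsh
  let eR : Localization.AtPrime p ≃ₐ[A] Rp := IsLocalization.algEquiv p.primeCompl _ _
  letI algLR : Algebra (Localization.AtPrime p) Rsh :=
    ((algebraMap Rp Rsh).comp (eR : Localization.AtPrime p →+* Rp)).toAlgebra
  haveI : IsScalarTower A (Localization.AtPrime p) Rsh :=
    IsScalarTower.of_algebraMap_eq (fun a => by
      show algebraMap Rp Rsh (algebraMap A Rp a) =
        algebraMap Rp Rsh (eR (algebraMap A (Localization.AtPrime p) a))
      rw [eR.commutes])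
  haveI : IsLocalHom (algebraMap (Localization.AtPrime p) Rsh) := ⟨fun a ha => by
    have h1 : IsUnit (algebraMap Rp Rsh (eR a)) := ha
    have h2 : IsUnit (eR a) := isUnit_of_map_unit (algebraMap Rp Rsh) _ h1
    exact (isUnit_map_iff eR a).mp h2⟩
  letI := Localization.AtPrime.algebraOfLiesOver p q'
  haveI : Algebra.IsSeparable p.ResidueField q'.ResidueField := inferInstance
  let lift0 : q'.ResidueField →ₐ[p.ResidueField] ResidueField Rsh := IsSepClosed.lift
  let ρ : E →ₐ[A] ResidueField Rsh :=
    (lift0.restrictScalars A).comp (IsScalarTower.toAlgHom A E q'.ResidueField)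
  have hq : ∀ c, ρ c = 0 ↔ c ∈ q' := by
    intro c
    show lift0 (algebraMap E q'.ResidueField c) = 0 ↔ _
    rw [map_eq_zero_iff lift0 lift0.injective]
    exact Ideal.algebraMap_residueField_eq_zero
  obtain ⟨φ', hφ'⟩ := Groth.Agent.H14.exists_lift_localization ρ q' hq
  letI algLS : Algebra (Localization.AtPrime q') Rsh := φ'.toRingHom.toAlgebra
  haveI : IsScalarTower A (Localization.AtPrime q') Rsh :=
    IsScalarTower.of_algebraMap_eq (fun a => (φ'.commutes a).symm)
  haveI : Module.Flat (Localization.AtPrime q') Rsh :=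
    Algebra.FormallyUnramified.flat_of_restrictScalars A _ Rsh
  have hnu : ∀ c : E, c ∈ q' → ¬ IsUnit (φ' (algebraMap E _ c)) := fun c hc hu => by
    have h0 : residue Rsh (φ' (algebraMap E _ c)) = 0 := by rw [hφ']; exact (hq c).mpr hc
    exact ((mem_maximalIdeal _).mp ((residue_eq_zero_iff _).mp h0)) hu
  have hun : ∀ c : E, c ∉ q' → IsUnit (φ' (algebraMap E _ c)) := fun c hc => by
    by_contra hnu'
    have h0 : residue Rsh (φ' (algebraMap E _ c)) = 0 :=
      (residue_eq_zero_iff _).mpr ((mem_maximalIdeal _).mpr hnu')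
    rw [hφ'] at h0
    exact hc ((hq c).mp h0)
  haveI hloc : IsLocalHom (algebraMap (Localization.AtPrime q') Rsh) := ⟨fun x hx => by
    obtain ⟨⟨a, s⟩, hxs⟩ := IsLocalization.surj q'.primeCompl x
    have hx' : IsUnit (φ' x) := hx
    have h1 : φ' x * φ' (algebraMap E _ (s : E)) = φ' (algebraMap E _ a) := by
      rw [← map_mul]
      exact congrArg φ' hxs
    have h2 : IsUnit (φ' (algebraMap E _ a)) := by
      rw [← h1]
      exact hx'.mul (hun s s.2)
    have h3 : a ∉ q' := fun h => hnu a h h2
    have h4 : IsUnit (algebraMap E (Localization.AtPrime q') a) :=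
      IsLocalization.map_units _ (⟨a, h3⟩ : q'.primeCompl)
    rw [← hxs] at h4
    exact isUnit_of_mul_isUnit_left h4⟩
  haveI : Module.FaithfullyFlat (Localization.AtPrime q') Rsh :=
    Module.FaithfullyFlat.of_flat_of_isLocalHom
  have hinj : Function.Injective φ' :=
    FaithfulSMul.algebraMap_injective (Localization.AtPrime q') Rsh
  refine ⟨φ'.toRingHom, hloc, hinj, ?_⟩
  show Module.Flat (Localization.AtPrime q') Rsh
  infer_instance

theorem exists_unit_mul_eq_zero {A₀ C T : Type u} [CommRing A₀] [CommRing C] [Algebra A₀ C]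
    [Algebra.Etale A₀ C] [CommRing T] [IsLocalRing T] [Algebra A₀ T] [Module.Flat A₀ T]
    (θ : C →ₐ[A₀] T) (c : C) (hc : θ c = 0) :
    ∃ s : C, IsUnit (θ s) ∧ s * c = 0 := by
  classical
  let Q : Ideal C := (maximalIdeal T).comap θ.toRingHom
  haveI hQ : Q.IsPrime := Ideal.comap_isPrime _ _
  have hQmem : ∀ c : C, c ∈ Q → ¬ IsUnit (θ c) := fun c h => (mem_maximalIdeal _).mp h
  have hunit : ∀ y : Q.primeCompl, IsUnit (θ y) := fun y => by
    by_contra h
    exact y.2 ((mem_maximalIdeal _).mpr h)
  let ĝ : Localization.AtPrime Q →ₐ[A₀] T :=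
    IsLocalization.liftAlgHom (M := Q.primeCompl) (f := θ) hunit
  have hĝ : ∀ c : C, ĝ (algebraMap C _ c) = θ c := fun c => by
    show IsLocalization.liftAlgHom (M := Q.primeCompl) (f := θ) hunit _ = _
    rw [IsLocalization.liftAlgHom_apply, IsLocalization.lift_eq]
    rfl
  letI algLS : Algebra (Localization.AtPrime Q) T := ĝ.toRingHom.toAlgebra
  haveI : IsScalarTower A₀ (Localization.AtPrime Q) T :=
    IsScalarTower.of_algebraMap_eq (fun a => (ĝ.commutes a).symm)
  haveI : Module.Flat (Localization.AtPrime Q) T :=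
    Algebra.FormallyUnramified.flat_of_restrictScalars A₀ _ T
  haveI : IsLocalHom (algebraMap (Localization.AtPrime Q) T) := ⟨fun x hx => by
    obtain ⟨⟨a, s⟩, hxs⟩ := IsLocalization.surj Q.primeCompl x
    have hx' : IsUnit (ĝ x) := hx
    have h1 : ĝ x * θ s = θ a := by
      rw [← hĝ, ← hĝ, ← map_mul]
      exact congrArg ĝ hxs
    have h2 : IsUnit (θ a) := by
      rw [← h1]
      exact hx'.mul (hunit s)
    have h3 : a ∉ Q := fun h => hQmem a h h2
    have h4 : IsUnit (algebraMap C (Localization.AtPrime Q) a) :=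
      IsLocalization.map_units _ (⟨a, h3⟩ : Q.primeCompl)
    rw [← hxs] at h4
    exact isUnit_of_mul_isUnit_left h4⟩
  haveI : Module.FaithfullyFlat (Localization.AtPrime Q) T :=
    Module.FaithfullyFlat.of_flat_of_isLocalHom
  have hinj : Function.Injective ĝ :=
    FaithfulSMul.algebraMap_injective (Localization.AtPrime Q) T
  have h0 : algebraMap C (Localization.AtPrime Q) c = 0 :=
    hinj (by rw [hĝ, hc, map_zero])
  obtain ⟨m, hm⟩ := (IsLocalization.map_eq_zero_iff Q.primeCompl _ _).mp h0
  exact ⟨m, hunit m, hm⟩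

theorem injective_of_isIndEtaleLocal {R₀ S₁ T : Type u} [CommRing R₀] [IsLocalRing R₀]
    [CommRing S₁] [IsLocalRing S₁] [Algebra R₀ S₁]
    (hI : Groth.Agent.H47.HensNoeth.IsIndEtaleLocal R₀ S₁)
    [CommRing T] [IsLocalRing T] [Algebra R₀ T] [Module.Flat R₀ T]
    (g : S₁ →ₐ[R₀] T) (hg : ∀ x : S₁, IsUnit (g x) → IsUnit x) : Function.Injective g := by
  rw [injective_iff_map_eq_zero]
  intro z hz
  obtain ⟨C, _, _, _, φ, hφ⟩ := hI.rep {z}
  obtain ⟨c, hc⟩ := hφ z (Finset.mem_singleton_self z)
  obtain ⟨s, hs, hsc⟩ := exists_unit_mul_eq_zero (g.comp φ) c (by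
    show g (φ c) = 0
    rw [hc, hz])
  have h1 : IsUnit (φ s) := hg _ hs
  have h2 : φ s * z = 0 := by rw [← hc, ← map_mul, hsc, map_zero]
  exact h1.mul_right_eq_zero.mp h2

theorem isGeomUnibranch_localization_of_etale {A E : Type u} [CommRing A] [CommRing E]
    [Algebra A E] [Algebra.Etale A E]
    (p : Ideal A) [p.IsPrime] (Rp : Type u) [CommRing Rp] [IsLocalRing Rp] [IsDomain Rp]
    [Algebra A Rp] [IsLocalization.AtPrime Rp p] (hA : CAlg2.IsGeomUnibranch Rp)
    (q' : Ideal E) [q'.IsPrime] [q'.LiesOver p]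
    (Eq : Type u) [CommRing Eq] [IsLocalRing Eq] [Algebra E Eq] [IsLocalization.AtPrime Eq q'] :
    IsDomain Eq ∧ CAlg2.IsGeomUnibranch Eq := by
  classical
  obtain ⟨Rsh, _, _, _, _, hsh, ψ0, hψloc, hψinj, hψflat⟩ :=
    exists_map_to_strictHenselization p Rp q'
  haveI := hsh
  haveI : IsDomain Rsh := (Groth.Agent.S2750.result Rp Rsh).mp ⟨inferInstance, hA⟩
  let eE : Eq ≃ₐ[E] Localization.AtPrime q' := IsLocalization.algEquiv q'.primeCompl _ _
  let ψ : Eq →+* Rsh := ψ0.comp (eE : Eq →+* Localization.AtPrime q')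
  have hψinj' : Function.Injective ψ := hψinj.comp eE.injective
  haveI hdomE : IsDomain Eq := hψinj'.isDomain ψ
  letI algER : Algebra Eq Rsh := ψ.toAlgebra
  haveI hlocE : IsLocalHom (algebraMap Eq Rsh) := ⟨fun a ha => by
    have h1 : IsUnit (ψ0 (eE a)) := ha
    exact (isUnit_map_iff eE a).mp (hψloc.map_nonunit _ h1)⟩
  haveI : IsLocalHom ψ := hlocE
  haveI : Module.Flat Eq Rsh := by
    have h1 : ψ.Flat := (RingHom.Flat.of_bijective eE.bijective).comp hψflat
    exact h1
  obtain ⟨S', _, _, _, _, hS'⟩ := Groth.Agent.S0537.result Eq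
  haveI := hS'
  haveI : HenselianLocalRing Rsh := Hensel.IsStrictHenselization.henselian (R := Rp)
  have hsc' : IsSepClosure (ResidueField Eq) (ResidueField S') :=
    Hensel.IsStrictHenselization.isSepClosure
  haveI : Algebra.IsSeparable (ResidueField Eq) (ResidueField S') := hsc'.separable
  haveI : IsSepClosed (ResidueField Rsh) :=
    (Hensel.IsStrictHenselization.isSepClosure (R := Rp) (S := Rsh)).sep_closed
  let τ0 : ResidueField S' →ₐ[ResidueField Eq] ResidueField Rsh := IsSepClosed.lift
  have hτ : (τ0 : ResidueField S' →+* ResidueField Rsh).comp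
      (ResidueField.map (algebraMap Eq S')) = ResidueField.map ψ := τ0.comp_algebraMap
  obtain ⟨g, ⟨hg1, hg2⟩, -⟩ := Hensel.IsStrictHenselization.universal (R := Eq) (S := S')
    Rsh ψ (τ0 : ResidueField S' →+* ResidueField Rsh) hτ
  have hgloc : ∀ x : S', IsUnit (g x) → IsUnit x := fun x hx => by
    by_contra hnu
    have h0 : residue S' x = 0 := (residue_eq_zero_iff _).mpr ((mem_maximalIdeal _).mpr hnu)
    have h1 : residue Rsh (g x) = 0 := by rw [hg2, h0, map_zero]
    exact ((mem_maximalIdeal _).mp ((residue_eq_zero_iff _).mp h1)) hx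
  let gA : S' →ₐ[Eq] Rsh := { g with commutes' := fun a => RingHom.congr_fun hg1 a }
  have hI' := Groth.Agent.H47.HensNoeth.isIndEtaleLocal_of_isStrictHenselization Eq S'
  have hginj : Function.Injective gA := injective_of_isIndEtaleLocal hI' gA hgloc
  haveI : IsDomain S' := hginj.isDomain gA.toRingHom
  exact ⟨hdomE, ((Groth.Agent.S2750.result Eq S').mpr inferInstance).2⟩

theorem isGeomUnibranch_of_etale_away {A B : Type u} [CommRing A] [CommRing B] [Algebra A B]
    (p : Ideal A) [p.IsPrime] (Rp : Type u) [CommRing Rp] [IsLocalRing Rp] [IsDomain Rp]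
    [Algebra A Rp] [IsLocalization.AtPrime Rp p] (hA : CAlg2.IsGeomUnibranch Rp)
    (q : Ideal B) [q.IsPrime] [q.LiesOver p]
    (Bq : Type u) [CommRing Bq] [IsLocalRing Bq] [Algebra B Bq] [IsLocalization.AtPrime Bq q]
    (r : B) (hr : r ∉ q) [Algebra.Etale A (Localization.Away r)] :
    IsDomain Bq ∧ CAlg2.IsGeomUnibranch Bq := by
  classical
  have hdisj : Disjoint (Submonoid.powers r : Set B) (q : Set B) := by
    rw [Set.disjoint_left]
    rintro _ ⟨n, rfl⟩ hmem
    exact hr (‹q.IsPrime›.mem_of_pow_mem n hmem)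
  let q' : Ideal (Localization.Away r) := q.map (algebraMap B (Localization.Away r))
  haveI hq'prime : q'.IsPrime :=
    IsLocalization.isPrime_of_isPrime_disjoint (Submonoid.powers r) (Localization.Away r) q ‹_› hdisj
  have hq'comap : q'.comap (algebraMap B (Localization.Away r)) = q :=
    IsLocalization.under_map_of_isPrime_disjoint (Submonoid.powers r) (Localization.Away r)
      ‹q.IsPrime› hdisj
  haveI : q'.LiesOver p := ⟨by
    show p = Ideal.comap (algebraMap A (Localization.Away r)) q'
    rw [IsScalarTower.algebraMap_eq A B (Localization.Away r), ← Ideal.comap_comap, hq'comap]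
    exact Ideal.LiesOver.over⟩
  have hru : IsUnit (algebraMap B Bq r) := IsLocalization.map_units Bq (⟨r, hr⟩ : q.primeCompl)
  letI algEB : Algebra (Localization.Away r) Bq := (IsLocalization.Away.lift r hru).toAlgebra
  haveI : IsScalarTower B (Localization.Away r) Bq :=
    IsScalarTower.of_algebraMap_eq (fun b => (IsLocalization.Away.lift_eq r hru b).symm)
  haveI h1 : IsLocalization (q.primeCompl.map (algebraMap B (Localization.Away r))) Bq :=
    IsLocalization.isLocalization_of_submonoid_le (Localization.Away r) Bq (Submonoid.powers r)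
      q.primeCompl (by rw [Submonoid.powers_le]; exact hr)
  haveI : IsLocalization.AtPrime Bq q' := by
    refine IsLocalization.isLocalization_of_is_exists_mul_mem (S := Bq)
      (q.primeCompl.map (algebraMap B (Localization.Away r))) q'.primeCompl ?_ ?_
    · rintro _ ⟨b, hb, rfl⟩
      intro hmem
      have h2 : b ∈ q'.comap (algebraMap B (Localization.Away r)) := hmem
      rw [hq'comap] at h2
      exact hb h2
    · rintro ⟨x, hx⟩
      obtain ⟨⟨b, s⟩, hbs⟩ := IsLocalization.surj (Submonoid.powers r) x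
      refine ⟨algebraMap B (Localization.Away r) s, ?_⟩
      rw [mul_comm]
      show x * algebraMap B (Localization.Away r) s ∈ _
      rw [hbs]
      refine ⟨b, ?_, rfl⟩
      intro hbq
      have h2 : algebraMap B (Localization.Away r) b ∈ q' := Ideal.mem_map_of_mem _ hbq
      rw [← hbs] at h2
      rcases hq'prime.mem_or_mem h2 with h3 | h3
      · exact hx h3
      · have h4 : (s : B) ∈ q := by
          rw [← hq'comap]
          exact h3
        obtain ⟨n, hn⟩ := s.2
        have hn' : r ^ n = (s : B) := hn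
        rw [← hn'] at h4
        exact hr (‹q.IsPrime›.mem_of_pow_mem n h4)
  exact isGeomUnibranch_localization_of_etale p Rp hA q' Bq

end Groth.Agent.H70.UnramUnibranch
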