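import Mathlib
import Groth.Agent.H70.UnramUnibranch2
import Groth.Agent.S2135

/-!
# Uniqueness of the generization over a minimal prime, étale over a geometrically unibranch point
(no reducedness assumption on the base)
-/

set_option autoImplicit false
set_option linter.style.haveILetI false
set_option linter.unusedSectionVars false
universe u
open IsLocalRing TensorProduct

namespace Groth.Agent.H70.UnramUnibranch

theorem eq_of_le_of_comap_eq_of_etale {A E : Type u} [CommRing A] [CommRing E] [Algebra A E]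
    [Algebra.Etale A E]
    (p : Ideal A) [p.IsPrime] (Rp : Type u) [CommRing Rp] [IsLocalRing Rp] [Algebra A Rp]
    [IsLocalization.AtPrime Rp p]
    (hA : CAlg2.IsGeomUnibranch Rp) (q' : Ideal E) [q'.IsPrime] [q'.LiesOver p]
    (P : Ideal A) (hPmin : ∀ P'' : Ideal A, P''.IsPrime → P ≤ P'')
    (q1 q2 : Ideal E) [q1.IsPrime] [q2.IsPrime] (h1 : q1 ≤ q') (h2 : q2 ≤ q')
    (h1' : q1.comap (algebraMap A E) = P) (h2' : q2.comap (algebraMap A E) = P) : q1 = q2 := by
  classical
  obtain ⟨Rsh, _, _, _, _, hsh, ψ0, hψloc, hψinj, hψflat⟩ :=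
    exists_map_to_strictHenselization p Rp q'
  haveI := hsh
  obtain ⟨M0, hM0, hM0uniq⟩ := (Groth.Agent.S2135.result (A := Rp) (Ash := Rsh)).mp hA
  haveI : M0.IsPrime := hM0.1.1
  letI algL : Algebra (Localization.AtPrime q') Rsh := ψ0.toAlgebra
  haveI : IsLocalHom (algebraMap (Localization.AtPrime q') Rsh) := hψloc
  haveI : Module.Flat (Localization.AtPrime q') Rsh := hψflat
  haveI : Module.FaithfullyFlat (Localization.AtPrime q') Rsh :=
    Module.FaithfullyFlat.of_flat_of_isLocalHom
  let θ : E →+* Rsh :=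
    (algebraMap (Localization.AtPrime q') Rsh).comp (algebraMap E (Localization.AtPrime q'))
  let P0 : Ideal E := M0.comap θ
  haveI : P0.IsPrime := Ideal.comap_isPrime _ _
  have key : ∀ (q1 : Ideal E) [q1.IsPrime], q1 ≤ q' → q1.comap (algebraMap A E) = P →
      P0 = q1 := by
    intro q1 _ h1 h1'
    have hdisj : Disjoint (q'.primeCompl : Set E) (q1 : Set E) := by
      rw [Set.disjoint_left]
      intro x hx hx1
      exact hx (h1 hx1)
    let Q1 : Ideal (Localization.AtPrime q') := q1.map (algebraMap E (Localization.AtPrime q'))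
    haveI hQ1 : Q1.IsPrime :=
      IsLocalization.isPrime_of_isPrime_disjoint q'.primeCompl _ q1 inferInstance hdisj
    have hQ1c : Q1.comap (algebraMap E (Localization.AtPrime q')) = q1 :=
      IsLocalization.under_map_of_isPrime_disjoint q'.primeCompl _ inferInstance hdisj
    obtain ⟨N1, hN1⟩ := PrimeSpectrum.comap_surjective_of_faithfullyFlat
      (A := Localization.AtPrime q') (B := Rsh) ⟨Q1, hQ1⟩
    have hN1' : N1.asIdeal.comap (algebraMap (Localization.AtPrime q') Rsh) = Q1 :=
      congrArg PrimeSpectrum.asIdeal hN1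
    obtain ⟨M, hM, hMle⟩ := Ideal.exists_minimalPrimes_le (I := ⊥) (J := N1.asIdeal) bot_le
    have hMM0 : M = M0 := hM0uniq M hM
    have hle : P0 ≤ q1 := by
      rw [← hQ1c, ← hN1']
      show Ideal.comap θ M0 ≤ Ideal.comap (algebraMap E _)
        (Ideal.comap (algebraMap _ Rsh) N1.asIdeal)
      rw [Ideal.comap_comap]
      exact Ideal.comap_mono (hMM0 ▸ hMle)
    have hq1u : q1.under A = P := h1'
    have hP0u : P0.under A = P :=
      le_antisymm (hq1u ▸ Ideal.comap_mono hle) (hPmin _ (Ideal.comap_isPrime _ _))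
    refine Algebra.QuasiFinite.eq_of_le_of_under_eq (R := A) P0 q1 hle ?_
    rw [hP0u, hq1u]
  exact (key q1 h1 h1').symm.trans (key q2 h2 h2')

end Groth.Agent.H70.UnramUnibranch
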