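import Mathlib
import Groth.Agent.H70.UnramUnibranch2

/-!
# Uniqueness of the generic generization (ring level)
-/

set_option autoImplicit false
set_option linter.style.haveILetI false
set_option linter.unusedSectionVars false
universe u
open IsLocalRing TensorProduct

namespace Groth.Agent.H70.UnramUnibranch

theorem eq_of_le_of_comap_eq_bot {A B : Type u} [CommRing A] [IsDomain A] [CommRing B]
    [Algebra A B] (q : Ideal B) [q.IsPrime] (p : Ideal A) [p.IsPrime] [q.LiesOver p]
    (Rp : Type u) [CommRing Rp] [IsLocalRing Rp] [Algebra A Rp] [IsLocalization.AtPrime Rp p]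
    (hA : CAlg2.IsGeomUnibranch Rp) [Algebra.FiniteType A B] [Algebra.IsUnramifiedAt A q]
    (q1 q2 : Ideal B) [q1.IsPrime] [q2.IsPrime] (h1 : q1 ≤ q) (h2 : q2 ≤ q)
    (h1' : q1.comap (algebraMap A B) = ⊥) (h2' : q2.comap (algebraMap A B) = ⊥) : q1 = q2 := by
  classical
  obtain ⟨g, hg, het⟩ := keystone' q p Rp hA ⟨q1, inferInstance, h1, h1'⟩
  haveI := het
  haveI : IsDomain Rp :=
    IsLocalization.isDomain_of_le_nonZeroDivisors Rp p.primeCompl_le_nonZeroDivisors
  haveI hdom : IsDomain (Localization.AtPrime q) :=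
    (isGeomUnibranch_of_etale_away p Rp hA q (Localization.AtPrime q) g hg).1
  let P0 : Ideal B := RingHom.ker (algebraMap B (Localization.AtPrime q))
  haveI : P0.IsPrime := RingHom.ker_isPrime _
  have hP0le : ∀ q' : Ideal B, q'.IsPrime → q' ≤ q → P0 ≤ q' := by
    intro q' hq' hle y hy
    have hy' : algebraMap B (Localization.AtPrime q) y = 0 := hy
    obtain ⟨s, hs⟩ := (IsLocalization.map_eq_zero_iff q.primeCompl _ _).mp hy'
    have h3 : (s : B) * y ∈ q' := hs ▸ q'.zero_mem
    exact (hq'.mem_or_mem h3).resolve_left (fun hsq => s.2 (hle hsq))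
  haveI : Algebra.QuasiFiniteAt A q := inferInstance
  have key : ∀ (q' : Ideal B) [q'.IsPrime], q' ≤ q → q'.comap (algebraMap A B) = ⊥ →
      P0 = q' := by
    intro q' _ hle hbot
    haveI : Algebra.QuasiFiniteAt A q' := Algebra.QuasiFiniteAt.of_le hle
    have hq'u : q'.under A = ⊥ := hbot
    have hP0u : P0.under A = ⊥ :=
      le_bot_iff.mp (hq'u ▸ Ideal.comap_mono (hP0le q' inferInstance hle))
    refine Algebra.QuasiFiniteAt.eq_of_le_of_under_eq (R := A) (hP0le q' inferInstance hle) ?_
    rw [hP0u, hq'u]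
  exact (key q1 h1 h1').symm.trans (key q2 h2 h2')

end Groth.Agent.H70.UnramUnibranch
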