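import Mathlib
import Groth.Agent.H70.UnramUnibranch
import Groth.Agent.H48.StalkLocal2

/-!
# Scheme-level: unramified over a geometrically unibranch point is étale (EGA IV 18.10.1-18.10.3)
-/

set_option autoImplicit false
set_option linter.style.haveILetI false
universe u

open AlgebraicGeometry CategoryTheory

namespace Groth.Agent.H70.UnramUnibranchScheme

open Groth.Agent.H48

variable {X Y : Scheme.{u}}

/-- If `Γ(X, W)[1/r]` is étale over `Γ(Y, V)` and `r` does not vanish at `x`, then `f` is étale on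
the basic open `D(r)`, a neighbourhood of `x`. -/
theorem etale_nhd_of_away (f : X ⟶ Y) (x : X)
    (V : Y.Opens) (hV : IsAffineOpen V) (W : X.Opens) (hW : IsAffineOpen W)
    (hWV : W ≤ f ⁻¹ᵁ V) (hxW : x ∈ W) (r : Γ(X, W))
    (hr : r ∉ (hW.primeIdealOf ⟨x, hxW⟩).asIdeal)
    (het : letI := (f.appLE V W hWV).hom.toAlgebra
      Algebra.Etale Γ(Y, V) (Localization.Away r)) :
    ∃ U : X.Opens, x ∈ U ∧ Etale (U.ι ≫ f) := by
  algebraize [(f.appLE V W hWV).hom]
  haveI : IsAffine V.toScheme := hV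
  have hresp : (RingHom.toMorphismProperty RingHom.Etale).RespectsIso :=
    RingHom.toMorphismProperty_respectsIso_iff.mp RingHom.Etale.respectsIso
  have key : ∀ (U : X.Opens) (hU : IsAffineOpen U) (e : U ≤ f ⁻¹ᵁ V),
      Etale (f.resLE V U e) ↔ (f.appLE V U e).hom.Etale := by
    intro U hU e
    haveI : IsAffine U.toScheme := hU
    rw [HasRingHomProperty.iff_of_isAffine (P := @Etale)]
    exact MorphismProperty.arrow_mk_iso_iff
      (RingHom.toMorphismProperty RingHom.Etale) (arrowResLEAppIso f V U e)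
  have tr : ∀ (r : Γ(X, W)),
      (f.appLE V (X.basicOpen r) ((X.basicOpen_le r).trans hWV)).hom.Etale ↔
        Algebra.Etale Γ(Y, V) (Localization.Away r) := by
    intro r
    have := hW.isLocalization_basicOpen r
    letI : Algebra Γ(Y, V) Γ(X, X.basicOpen r) :=
      (f.appLE V (X.basicOpen r) ((X.basicOpen_le r).trans hWV)).hom.toAlgebra
    haveI : IsScalarTower Γ(Y, V) Γ(X, W) Γ(X, X.basicOpen r) :=
      isScalarTower_basicOpen f V W hWV r
    let e : Localization.Away r ≃ₐ[Γ(Y, V)] Γ(X, X.basicOpen r) :=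
      (IsLocalization.algEquiv (.powers r) _ _).restrictScalars _
    change Algebra.Etale Γ(Y, V) Γ(X, X.basicOpen r) ↔ _
    exact ⟨fun _ => .of_equiv e.symm, fun _ => .of_equiv e⟩
  have e' : X.basicOpen r ≤ f ⁻¹ᵁ V := (X.basicOpen_le r).trans hWV
  refine ⟨X.basicOpen r, (mem_basicOpen_iff_notMem_primeIdealOf hW x hxW r).mpr hr, ?_⟩
  have h2 : Etale (f.resLE V (X.basicOpen r) e') :=
    (key _ (hW.basicOpen r) e').mpr ((tr r).mpr het)
  rw [← Scheme.Hom.resLE_comp_ι f e']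
  infer_instance

theorem etale_nhd_of_unramified_aux (f : X ⟶ Y) [IsIntegral Y] [LocallyOfFiniteType f] (x : X)
    (V : Y.Opens) (hV : IsAffineOpen V) (W : X.Opens) (hW : IsAffineOpen W)
    (hWV : W ≤ f ⁻¹ᵁ V) (hxW : x ∈ W)
    (hY : CAlg2.IsGeomUnibranch (Y.presheaf.stalk (f x)))
    (hsp : ∃ x' : X, x' ⤳ x ∧ f x' = genericPoint ↑Y)
    (hunr : ∃ U : X.Opens, x ∈ U ∧ FormallyUnramified (U.ι ≫ f)) :
    ∃ U : X.Opens, x ∈ U ∧ Etale (U.ι ≫ f) := by
  have hft := f.finiteType_appLE hV hW hWV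
  algebraize [(f.appLE V W hWV).hom]
  haveI : Nonempty V := ⟨⟨f x, hWV hxW⟩⟩
  haveI : IsDomain Γ(Y, V) := inferInstance
  let p := (hV.primeIdealOf ⟨f x, hWV hxW⟩).asIdeal
  let q := (hW.primeIdealOf ⟨x, hxW⟩).asIdeal
  haveI : q.LiesOver p :=
    ⟨congr($(IsAffineOpen.comap_primeIdealOf_appLE V hV W hW hWV hxW).1).symm⟩
  haveI : Algebra.IsUnramifiedAt Γ(Y, V) q :=
    (formallyUnramified_stalkMap_iff V hV W hW hWV hxW).mp
      ((unramified_nhd_iff_aux f x V hV W hW hWV hxW).mp hunr)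
  letI algSt : Algebra Γ(Y, V) (Y.presheaf.stalk (f x)) :=
    TopCat.Presheaf.algebra_section_stalk Y.presheaf (⟨f x, hWV hxW⟩ : V)
  haveI : IsLocalization.AtPrime (Y.presheaf.stalk (f x)) p :=
    hV.isLocalization_stalk ⟨f x, hWV hxW⟩
  obtain ⟨x', hx'x, hx'η⟩ := hsp
  have hx'W : x' ∈ W := hx'x.mem_open W.isOpen hxW
  let q0 := (hW.primeIdealOf ⟨x', hx'W⟩).asIdeal
  have hq0le : q0 ≤ q := by
    have h1 : (⟨x', hx'W⟩ : W) ⤳ ⟨x, hxW⟩ := (subtype_specializes_iff _ _).mpr hx'x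
    have h2 : hW.primeIdealOf ⟨x', hx'W⟩ ⤳ hW.primeIdealOf ⟨x, hxW⟩ :=
      h1.map hW.isoSpec.hom.continuous
    exact (PrimeSpectrum.le_iff_specializes _ _).mpr h2
  have hgen : genericPoint Y ∈ V :=
    ((genericPoint_spec Y).mem_open_set_iff V.isOpen).mpr (by simpa using ‹Nonempty V›)
  have hq0bot : q0.comap (algebraMap Γ(Y, V) Γ(X, W)) = ⊥ := by
    have h1 := congr($(IsAffineOpen.comap_primeIdealOf_appLE V hV W hW hWV hx'W).1)
    have h2 : hV.primeIdealOf ⟨f x', hWV hx'W⟩ = hV.primeIdealOf ⟨genericPoint Y, hgen⟩ := by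
      congr 1
      exact Subtype.ext hx'η
    have h3 := hV.primeIdealOf_genericPoint
    rw [genericPoint_eq_bot_of_affine] at h3
    show Ideal.comap (f.appLE V W hWV).hom q0 = ⊥
    rw [show Ideal.comap (f.appLE V W hWV).hom q0 =
      (hV.primeIdealOf ⟨f x', hWV hx'W⟩).asIdeal from h1, h2, h3]
    rfl
  obtain ⟨g, hg, het⟩ := Groth.Agent.H70.UnramUnibranch.keystone' q p
    (Y.presheaf.stalk (f x)) hY ⟨q0, inferInstance, hq0le, hq0bot⟩
  exact etale_nhd_of_away f x V hV W hW hWV hxW g hg het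

/-- EGA IV 18.10.3 (local form). -/
theorem etale_nhd_of_unramified (f : X ⟶ Y) [IsIntegral Y] [LocallyOfFiniteType f] (x : X)
    (hY : CAlg2.IsGeomUnibranch (Y.presheaf.stalk (f x)))
    (hsp : ∃ x' : X, x' ⤳ x ∧ f x' = genericPoint ↑Y)
    (hunr : ∃ U : X.Opens, x ∈ U ∧ FormallyUnramified (U.ι ≫ f)) :
    ∃ U : X.Opens, x ∈ U ∧ Etale (U.ι ≫ f) := by
  obtain ⟨V, hV, hxV, -⟩ :=
    exists_isAffineOpen_mem_and_subset (x := f x) (U := (⊤ : Y.Opens)) trivial
  obtain ⟨W, hW, hxW, hWV⟩ :=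
    exists_isAffineOpen_mem_and_subset (x := x) (U := f ⁻¹ᵁ V) hxV
  exact etale_nhd_of_unramified_aux f x V hV W hW hWV hxW hY hsp hunr

/-- EGA IV 18.10.1. -/
theorem etale_nhd_iff_unramified_injective (f : X ⟶ Y) [LocallyOfFinitePresentation f] (x : X)
    (hY : IsDomain (Y.presheaf.stalk (f x)))
    (hY' : CAlg2.IsGeomUnibranch (Y.presheaf.stalk (f x))) :
    (∃ U : X.Opens, x ∈ U ∧ Etale (U.ι ≫ f)) ↔
      (∃ U : X.Opens, x ∈ U ∧ FormallyUnramified (U.ι ≫ f)) ∧
        Function.Injective (f.stalkMap x) := by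
  rw [etale_nhd_iff_flat_unramified f x, unramified_nhd_iff f x]
  refine and_congr_right fun hun => ?_
  letI alg : Algebra (Y.presheaf.stalk (f x)) (X.presheaf.stalk x) :=
    (f.stalkMap x).hom.toAlgebra
  haveI hloc : IsLocalHom (algebraMap (Y.presheaf.stalk (f x)) (X.presheaf.stalk x)) :=
    inferInstanceAs (IsLocalHom (f.stalkMap x).hom)
  constructor
  · intro hfl
    haveI : Module.Flat (Y.presheaf.stalk (f x)) (X.presheaf.stalk x) := hfl
    haveI : Module.FaithfullyFlat (Y.presheaf.stalk (f x)) (X.presheaf.stalk x) :=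
      Module.FaithfullyFlat.of_flat_of_isLocalHom
    exact FaithfulSMul.algebraMap_injective (Y.presheaf.stalk (f x)) (X.presheaf.stalk x)
  · intro hinj
    haveI : Algebra.EssFiniteType (Y.presheaf.stalk (f x)) (X.presheaf.stalk x) := by
      rw [← RingHom.essFiniteType_algebraMap, RingHom.algebraMap_toAlgebra]
      exact LocallyOfFiniteType.stalkMap f x
    haveI : Algebra.FormallyUnramified (Y.presheaf.stalk (f x)) (X.presheaf.stalk x) := hun
    exact Groth.Agent.H70.UnramUnibranch.flat_of_unramified_of_injective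
      (Y.presheaf.stalk (f x)) (X.presheaf.stalk x) hY' hinj

end Groth.Agent.H70.UnramUnibranchScheme
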