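import Mathlib
import Groth.Agent.H70.UnramUnibranch2
import Groth.Agent.H70.UnramUnibranchScheme

/-!
# Scheme-level: étale over a geometrically unibranch integral point (EGA IV 18.10.2-type)
-/

set_option autoImplicit false
set_option linter.style.haveILetI false
universe u

open AlgebraicGeometry CategoryTheory

namespace Groth.Agent.H70.UnramUnibranchScheme

open Groth.Agent.H48

variable {X Y : Scheme.{u}}

theorem isDomain_isGeomUnibranch_stalk_of_etale_nhd (f : X ⟶ Y) [LocallyOfFinitePresentation f]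
    (x : X) (hY : IsDomain (Y.presheaf.stalk (f x)))
    (hY' : CAlg2.IsGeomUnibranch (Y.presheaf.stalk (f x)))
    (hf : ∃ U : X.Opens, x ∈ U ∧ Etale (U.ι ≫ f)) :
    IsDomain (X.presheaf.stalk x) ∧ CAlg2.IsGeomUnibranch (X.presheaf.stalk x) := by
  obtain ⟨V, hV, hxV, -⟩ :=
    exists_isAffineOpen_mem_and_subset (x := f x) (U := (⊤ : Y.Opens)) trivial
  obtain ⟨W, hW, hxW, hWV⟩ :=
    exists_isAffineOpen_mem_and_subset (x := x) (U := f ⁻¹ᵁ V) hxV
  have hfp := f.finitePresentation_appLE hV hW hWV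
  have hEt := (etale_nhd_iff_isEtaleAt_aux f x V hV W hW hWV hxW hfp).mp hf
  algebraize [(f.appLE V W hWV).hom]
  let p := (hV.primeIdealOf ⟨f x, hWV hxW⟩).asIdeal
  let q := (hW.primeIdealOf ⟨x, hxW⟩).asIdeal
  haveI : q.LiesOver p :=
    ⟨congr($(IsAffineOpen.comap_primeIdealOf_appLE V hV W hW hWV hxW).1).symm⟩
  haveI : Algebra.IsEtaleAt Γ(Y, V) q := hEt
  obtain ⟨r, hr, het⟩ := Algebra.exists_etale_of_isEtaleAt (R := Γ(Y, V)) q
  haveI := het
  haveI := hY
  letI algSt : Algebra Γ(Y, V) (Y.presheaf.stalk (f x)) :=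
    TopCat.Presheaf.algebra_section_stalk Y.presheaf (⟨f x, hWV hxW⟩ : V)
  haveI : IsLocalization.AtPrime (Y.presheaf.stalk (f x)) p :=
    hV.isLocalization_stalk ⟨f x, hWV hxW⟩
  letI algStX : Algebra Γ(X, W) (X.presheaf.stalk x) :=
    TopCat.Presheaf.algebra_section_stalk X.presheaf (⟨x, hxW⟩ : W)
  haveI : IsLocalization.AtPrime (X.presheaf.stalk x) q :=
    hW.isLocalization_stalk ⟨x, hxW⟩
  exact Groth.Agent.H70.UnramUnibranch.isGeomUnibranch_of_etale_away p
    (Y.presheaf.stalk (f x)) hY' q (X.presheaf.stalk x) r hr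

end Groth.Agent.H70.UnramUnibranchScheme
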