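import Mathlib
import Groth.Agent.H70.UnramUnibranch3
import Groth.Agent.H70.UnramUnibranchScheme2
import Groth.Agent.H70.GenPoints

/-!
# Global form: unramified morphisms to geometrically unibranch integral schemes (EGA IV 18.10.3)
-/

set_option autoImplicit false
set_option linter.style.haveILetI false
universe u

open AlgebraicGeometry CategoryTheory TopologicalSpace

namespace Groth.Agent.H70.UnramUnibranchScheme

open Groth.Agent.H48

variable {X Y : Scheme.{u}}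

theorem primeIdealOf_le_of_specializes {W : X.Opens} (hW : IsAffineOpen W) {x' x : X}
    (hx'x : x' ⤳ x) (hxW : x ∈ W) (hx'W : x' ∈ W) :
    (hW.primeIdealOf ⟨x', hx'W⟩).asIdeal ≤ (hW.primeIdealOf ⟨x, hxW⟩).asIdeal := by
  have h1 : (⟨x', hx'W⟩ : W) ⤳ ⟨x, hxW⟩ := (subtype_specializes_iff _ _).mpr hx'x
  have h2 : hW.primeIdealOf ⟨x', hx'W⟩ ⤳ hW.primeIdealOf ⟨x, hxW⟩ :=
    h1.map hW.isoSpec.hom.continuous
  exact (PrimeSpectrum.le_iff_specializes _ _).mpr h2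

theorem comap_primeIdealOf_eq_bot (f : X ⟶ Y) [IsIntegral Y]
    (V : Y.Opens) (hV : IsAffineOpen V) (W : X.Opens) (hW : IsAffineOpen W)
    (hWV : W ≤ f ⁻¹ᵁ V) {x' : X} (hx'W : x' ∈ W) (hx'η : f x' = genericPoint Y) :
    Ideal.comap (f.appLE V W hWV).hom (hW.primeIdealOf ⟨x', hx'W⟩).asIdeal = ⊥ := by
  haveI : Nonempty V := ⟨⟨f x', hWV hx'W⟩⟩
  haveI : IsDomain Γ(Y, V) := inferInstance
  have hgen : genericPoint Y ∈ V :=
    ((genericPoint_spec Y).mem_open_set_iff V.isOpen).mpr (by simpa using ‹Nonempty V›)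
  have h1 := congr($(IsAffineOpen.comap_primeIdealOf_appLE V hV W hW hWV hx'W).1)
  have h2 : hV.primeIdealOf ⟨f x', hWV hx'W⟩ = hV.primeIdealOf ⟨genericPoint Y, hgen⟩ := by
    congr 1
    exact Subtype.ext hx'η
  have h3 := hV.primeIdealOf_genericPoint
  rw [genericPoint_eq_bot_of_affine] at h3
  rw [show Ideal.comap (f.appLE V W hWV).hom (hW.primeIdealOf ⟨x', hx'W⟩).asIdeal =
    (hV.primeIdealOf ⟨f x', hWV hx'W⟩).asIdeal from h1, h2, h3]
  rfl

theorem finite_genericFibre_inter (f : X ⟶ Y) [IsIntegral Y] [LocallyOfFiniteType f]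
    [FormallyUnramified f]
    (V : Y.Opens) (hV : IsAffineOpen V) (W : X.Opens) (hW : IsAffineOpen W)
    (hWV : W ≤ f ⁻¹ᵁ V) [Nonempty V] :
    {x' : X | x' ∈ W ∧ f x' = genericPoint Y}.Finite := by
  have hft := f.finiteType_appLE hV hW hWV
  have hun : (f.appLE V W hWV).hom.FormallyUnramified :=
    HasRingHomProperty.appLE (P := @FormallyUnramified) f inferInstance ⟨V, hV⟩ ⟨W, hW⟩ hWV
  algebraize [(f.appLE V W hWV).hom]
  haveI : IsDomain Γ(Y, V) := inferInstance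
  have hfin := Algebra.QuasiFinite.finite_comap_preimage_singleton (R := Γ(Y, V))
    (S := Γ(X, W)) (⊥ : PrimeSpectrum Γ(Y, V))
  have hφinj : Function.Injective (hW.primeIdealOf) := fun a b hab => by
    apply Subtype.ext
    rw [← hW.fromSpec_primeIdealOf a, ← hW.fromSpec_primeIdealOf b, hab]
  have h1 : {w : W | f w.1 = genericPoint Y}.Finite := by
    refine (hfin.preimage (hφinj.injOn)).subset ?_
    intro w hw
    show PrimeSpectrum.comap (algebraMap Γ(Y, V) Γ(X, W)) (hW.primeIdealOf w) = ⊥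
    exact PrimeSpectrum.ext (comap_primeIdealOf_eq_bot f V hV W hW hWV w.2 hw)
  have h2 : {x' : X | x' ∈ W ∧ f x' = genericPoint Y} =
      Subtype.val '' {w : W | f w.1 = genericPoint Y} := by
    ext x'
    constructor
    · rintro ⟨h1, h2⟩
      exact ⟨⟨x', h1⟩, h2, rfl⟩
    · rintro ⟨w, hw, rfl⟩
      exact ⟨w.2, hw⟩
  rw [h2]
  exact h1.image _

theorem generic_unique (f : X ⟶ Y) [IsIntegral Y] [LocallyOfFiniteType f] [FormallyUnramified f]
    (hY : ∀ y : Y, CAlg2.IsGeomUnibranch (Y.presheaf.stalk y)) (x x1 x2 : X)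
    (h1 : f x1 = genericPoint Y) (h2 : f x2 = genericPoint Y) (h1x : x1 ⤳ x) (h2x : x2 ⤳ x) :
    x1 = x2 := by
  obtain ⟨V, hV, hxV, -⟩ :=
    exists_isAffineOpen_mem_and_subset (x := f x) (U := (⊤ : Y.Opens)) trivial
  obtain ⟨W, hW, hxW, hWV⟩ :=
    exists_isAffineOpen_mem_and_subset (x := x) (U := f ⁻¹ᵁ V) hxV
  have hft := f.finiteType_appLE hV hW hWV
  algebraize [(f.appLE V W hWV).hom]
  haveI : Nonempty V := ⟨⟨f x, hWV hxW⟩⟩
  haveI : IsDomain Γ(Y, V) := inferInstance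
  let p := (hV.primeIdealOf ⟨f x, hWV hxW⟩).asIdeal
  let q := (hW.primeIdealOf ⟨x, hxW⟩).asIdeal
  haveI : q.LiesOver p :=
    ⟨congr($(IsAffineOpen.comap_primeIdealOf_appLE V hV W hW hWV hxW).1).symm⟩
  haveI : Algebra.IsUnramifiedAt Γ(Y, V) q :=
    (formallyUnramified_stalkMap_iff V hV W hW hWV hxW).mp (FormallyUnramified.stalkMap f x)
  letI algSt : Algebra Γ(Y, V) (Y.presheaf.stalk (f x)) :=
    TopCat.Presheaf.algebra_section_stalk Y.presheaf (⟨f x, hWV hxW⟩ : V)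
  haveI : IsLocalization.AtPrime (Y.presheaf.stalk (f x)) p :=
    hV.isLocalization_stalk ⟨f x, hWV hxW⟩
  have hx1W : x1 ∈ W := h1x.mem_open W.isOpen hxW
  have hx2W : x2 ∈ W := h2x.mem_open W.isOpen hxW
  have e := Groth.Agent.H70.UnramUnibranch.eq_of_le_of_comap_eq_bot q p
    (Y.presheaf.stalk (f x)) (hY (f x))
    (hW.primeIdealOf ⟨x1, hx1W⟩).asIdeal (hW.primeIdealOf ⟨x2, hx2W⟩).asIdeal
    (primeIdealOf_le_of_specializes hW h1x hxW hx1W)
    (primeIdealOf_le_of_specializes hW h2x hxW hx2W)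
    (comap_primeIdealOf_eq_bot f V hV W hW hWV hx1W h1)
    (comap_primeIdealOf_eq_bot f V hV W hW hWV hx2W h2)
  have e' : hW.primeIdealOf ⟨x1, hx1W⟩ = hW.primeIdealOf ⟨x2, hx2W⟩ := PrimeSpectrum.ext e
  have h3 := hW.fromSpec_primeIdealOf ⟨x1, hx1W⟩
  rw [e', hW.fromSpec_primeIdealOf] at h3
  exact h3.symm

theorem etale_and_irreducible (f : X ⟶ Y) [IsIntegral Y]
    (hY : ∀ y : Y, CAlg2.IsGeomUnibranch (Y.presheaf.stalk y))
    [ConnectedSpace X] [FormallyUnramified f] [LocallyOfFiniteType f]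
    (hdom : genericPoint Y ∈ Set.range f) :
    Etale f ∧ IrreducibleSpace X := by
  let F : Set X := {x | f x = genericPoint Y}
  have hF : ∀ x : X, ∃ W : Set X, IsOpen W ∧ x ∈ W ∧ (F ∩ W).Finite := by
    intro x
    obtain ⟨V, hV, hxV, -⟩ :=
      exists_isAffineOpen_mem_and_subset (x := f x) (U := (⊤ : Y.Opens)) trivial
    obtain ⟨W, hW, hxW, hWV⟩ :=
      exists_isAffineOpen_mem_and_subset (x := x) (U := f ⁻¹ᵁ V) hxV
    haveI : Nonempty V := ⟨⟨f x, hxV⟩⟩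
    refine ⟨W, W.isOpen, hxW, (finite_genericFibre_inter f V hV W hW hWV).subset ?_⟩
    rintro x' ⟨h1, h2⟩
    exact ⟨h2, h1⟩
  have hun : ∀ x : X, ∃ U : X.Opens, x ∈ U ∧ FormallyUnramified (U.ι ≫ f) :=
    fun x => ⟨⊤, trivial,
      IsZariskiLocalAtSource.comp (P := @FormallyUnramified) inferInstance _⟩
  have het : ∀ x : X, (∃ x' ∈ F, x' ⤳ x) → ∃ U : X.Opens, x ∈ U ∧ Etale (U.ι ≫ f) := by
    rintro x ⟨x', hx'F, hx'x⟩
    exact etale_nhd_of_unramified f x (hY (f x)) ⟨x', hx'x, hx'F⟩ (hun x)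
  have hopen : IsOpen {x | ∃ x' ∈ F, x' ⤳ x} := by
    rw [isOpen_iff_forall_mem_open]
    intro x hx
    obtain ⟨U, hxU, hU⟩ := het x hx
    refine ⟨U, ?_, U.isOpen, hxU⟩
    intro u hu
    haveI := hU
    have hgm : GeneralizingMap (U.ι ≫ f) := Flat.generalizingMap (f := U.ι ≫ f)
    have hspec : genericPoint Y ⤳ (U.ι ≫ f) ⟨u, hu⟩ := genericPoint_specializes _
    obtain ⟨u', hu'u, hu'η⟩ := hgm hspec
    refine ⟨U.ι u', ?_, ?_⟩
    · show f (U.ι u') = genericPoint Y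
      rw [← Scheme.Hom.comp_apply]
      exact hu'η
    · exact hu'u.map U.ι.continuous
  have hclosed : IsClosed {x | ∃ x' ∈ F, x' ⤳ x} :=
    Groth.Agent.H70.GenPoints.isClosed_specClosure F hF
  have hne : {x | ∃ x' ∈ F, x' ⤳ x}.Nonempty := by
    obtain ⟨x0, hx0⟩ := hdom
    exact ⟨x0, x0, hx0, specializes_rfl⟩
  have huniv : {x | ∃ x' ∈ F, x' ⤳ x} = Set.univ := IsClopen.eq_univ ⟨hclosed, hopen⟩ hne
  have hgen : ∀ x : X, ∃ x' ∈ F, x' ⤳ x := fun x => by
    have h1 : x ∈ {x | ∃ x' ∈ F, x' ⤳ x} := huniv ▸ Set.mem_univ x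
    exact h1
  have hEt : Etale f := by
    choose U hxU hU using fun x => het x (hgen x)
    exact IsZariskiLocalAtSource.of_iSup_eq_top (P := @Etale) U (by
      rw [eq_top_iff]
      intro x _
      exact Opens.mem_iSup.mpr ⟨x, hxU x⟩) hU
  refine ⟨hEt, ?_⟩
  have huniq : ∀ x : X, ∀ x1 ∈ F, ∀ x2 ∈ F, x1 ⤳ x → x2 ⤳ x → x1 = x2 :=
    fun x x1 h1 x2 h2 h1x h2x => generic_unique f hY x x1 x2 h1 h2 h1x h2x
  exact Groth.Agent.H70.GenPoints.irreducibleSpace_of_genericPoints F hF hgen huniq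

theorem etale_integral_geomUnibranch (f : X ⟶ Y) [IsIntegral Y]
    (hY : ∀ y : Y, CAlg2.IsGeomUnibranch (Y.presheaf.stalk y))
    [ConnectedSpace X] [LocallyOfFiniteType f] [FormallyUnramified f]
    (hdom : genericPoint Y ∈ Set.range f) :
    Etale f ∧ IsIntegral X ∧ ∀ x : X, CAlg2.IsGeomUnibranch (X.presheaf.stalk x) := by
  obtain ⟨hEt, hirr⟩ := etale_and_irreducible f hY hdom
  haveI := hEt
  have hst : ∀ x : X, IsDomain (X.presheaf.stalk x) ∧
      CAlg2.IsGeomUnibranch (X.presheaf.stalk x) := fun x =>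
    isDomain_isGeomUnibranch_stalk_of_etale_nhd f x inferInstance (hY (f x))
      ⟨⊤, trivial, inferInstance⟩
  refine ⟨hEt, ?_, fun x => (hst x).2⟩
  haveI : ∀ x : X, _root_.IsReduced (X.presheaf.stalk x) := fun x => by
    haveI := (hst x).1
    infer_instance
  haveI : IsReduced X := isReduced_of_isReduced_stalk X
  haveI := hirr
  exact (isIntegral_iff_irreducibleSpace_and_isReduced X).mpr ⟨hirr, inferInstance⟩

end Groth.Agent.H70.UnramUnibranchScheme
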