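import Mathlib
import Groth.Agent.H70.UnramUnibranch4
import Groth.Agent.H70.UnramUnibranchGlobal
import Groth.Agent.H70.GenPoints2

/-!
# Irreducible components of a scheme étale over an irreducible geometrically unibranch scheme
(EGA IV 18.10.7-type statement)
-/

set_option autoImplicit false
set_option linter.style.haveILetI false
universe u

open AlgebraicGeometry CategoryTheory TopologicalSpace

namespace Groth.Agent.H70.UnramUnibranchScheme

open Groth.Agent.H48

variable {X Y : Scheme.{u}}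

theorem primeIdealOf_fromSpec {V : Y.Opens} (hV : IsAffineOpen V) (P : PrimeSpectrum Γ(Y, V))
    (h : hV.fromSpec P ∈ V) : hV.primeIdealOf ⟨hV.fromSpec P, h⟩ = P := by
  apply hV.fromSpec.isOpenEmbedding.injective
  exact hV.fromSpec_primeIdealOf ⟨hV.fromSpec P, h⟩

theorem primeIdealOf_genericPoint_le [IrreducibleSpace Y] {V : Y.Opens} (hV : IsAffineOpen V)
    (hgen : genericPoint Y ∈ V) (P'' : Ideal Γ(Y, V)) (hP'' : P''.IsPrime) :
    (hV.primeIdealOf ⟨genericPoint Y, hgen⟩).asIdeal ≤ P'' := by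
  have hmem : hV.fromSpec ⟨P'', hP''⟩ ∈ V := by
    have h1 : hV.fromSpec ⟨P'', hP''⟩ ∈ Set.range hV.fromSpec := ⟨_, rfl⟩
    rw [hV.range_fromSpec] at h1
    exact h1
  have h2 := primeIdealOf_le_of_specializes hV
    (genericPoint_specializes (hV.fromSpec ⟨P'', hP''⟩)) hmem hgen
  rw [primeIdealOf_fromSpec hV ⟨P'', hP''⟩ hmem] at h2
  exact h2

theorem irreducibleComponents_of_etale (f : X ⟶ Y) [Etale f] [IrreducibleSpace Y]
    (hY : ∀ y : Y, CAlg2.IsGeomUnibranch (Y.presheaf.stalk y)) :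
    (∀ x : X, ∃! Z, Z ∈ irreducibleComponents ↥X ∧ x ∈ Z) ∧
    (∀ Z ∈ irreducibleComponents ↥X, IsOpen Z ∧ ∃! x : X, x ∈ Z ∧ f x = genericPoint Y) := by
  let F : Set X := {x | f x = genericPoint Y}
  have hF : ∀ x : X, ∃ W : Set X, IsOpen W ∧ x ∈ W ∧ (F ∩ W).Finite := by
    intro x
    obtain ⟨V, hV, hxV, -⟩ :=
      exists_isAffineOpen_mem_and_subset (x := f x) (U := (⊤ : Y.Opens)) trivial
    obtain ⟨W, hW, hxW, hWV⟩ :=
      exists_isAffineOpen_mem_and_subset (x := x) (U := f ⁻¹ᵁ V) hxV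
    have hgen : genericPoint Y ∈ V :=
      ((genericPoint_spec Y).mem_open_set_iff V.isOpen).mpr ⟨f x, trivial, hxV⟩
    have hEt : (f.appLE V W hWV).hom.Etale :=
      HasRingHomProperty.appLE (P := @Etale) f inferInstance ⟨V, hV⟩ ⟨W, hW⟩ hWV
    algebraize [(f.appLE V W hWV).hom]
    haveI : Algebra.Etale Γ(Y, V) Γ(X, W) := hEt
    have hfin := Algebra.QuasiFinite.finite_comap_preimage_singleton (R := Γ(Y, V))
      (S := Γ(X, W)) (hV.primeIdealOf ⟨genericPoint Y, hgen⟩)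
    have hφinj : Function.Injective (hW.primeIdealOf) := fun a b hab => by
      apply Subtype.ext
      rw [← hW.fromSpec_primeIdealOf a, ← hW.fromSpec_primeIdealOf b, hab]
    have h1 : {w : W | f w.1 = genericPoint Y}.Finite := by
      refine (hfin.preimage (hφinj.injOn)).subset ?_
      intro w hw
      show PrimeSpectrum.comap (algebraMap Γ(Y, V) Γ(X, W)) (hW.primeIdealOf w) =
        hV.primeIdealOf ⟨genericPoint Y, hgen⟩
      have h3 := IsAffineOpen.comap_primeIdealOf_appLE V hV W hW hWV w.2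
      have h4 : hV.primeIdealOf ⟨f w.1, hWV w.2⟩ = hV.primeIdealOf ⟨genericPoint Y, hgen⟩ := by
        congr 1
        exact Subtype.ext hw
      rw [← h4]
      exact h3
    have h2 : F ∩ W = Subtype.val '' {w : W | f w.1 = genericPoint Y} := by
      ext x'
      constructor
      · rintro ⟨h1, h2⟩
        exact ⟨⟨x', h2⟩, h1, rfl⟩
      · rintro ⟨w, hw, rfl⟩
        exact ⟨hw, w.2⟩
    refine ⟨W, W.isOpen, hxW, ?_⟩
    rw [h2]
    exact h1.image _
  have hgen : ∀ x : X, ∃ x' ∈ F, x' ⤳ x := by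
    intro x
    have hgm : GeneralizingMap f := Flat.generalizingMap (f := f)
    obtain ⟨x', hx'x, hx'η⟩ := hgm (genericPoint_specializes (f x))
    exact ⟨x', hx'η, hx'x⟩
  have huniq : ∀ x : X, ∀ x1 ∈ F, ∀ x2 ∈ F, x1 ⤳ x → x2 ⤳ x → x1 = x2 := by
    intro x x1 h1 x2 h2 h1x h2x
    obtain ⟨V, hV, hxV, -⟩ :=
      exists_isAffineOpen_mem_and_subset (x := f x) (U := (⊤ : Y.Opens)) trivial
    obtain ⟨W, hW, hxW, hWV⟩ :=
      exists_isAffineOpen_mem_and_subset (x := x) (U := f ⁻¹ᵁ V) hxV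
    have hgenV : genericPoint Y ∈ V :=
      ((genericPoint_spec Y).mem_open_set_iff V.isOpen).mpr ⟨f x, trivial, hxV⟩
    have hEt : (f.appLE V W hWV).hom.Etale :=
      HasRingHomProperty.appLE (P := @Etale) f inferInstance ⟨V, hV⟩ ⟨W, hW⟩ hWV
    algebraize [(f.appLE V W hWV).hom]
    haveI : Algebra.Etale Γ(Y, V) Γ(X, W) := hEt
    let p := (hV.primeIdealOf ⟨f x, hWV hxW⟩).asIdeal
    let q := (hW.primeIdealOf ⟨x, hxW⟩).asIdeal
    haveI : q.LiesOver p :=
      ⟨congr($(IsAffineOpen.comap_primeIdealOf_appLE V hV W hW hWV hxW).1).symm⟩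
    letI algSt : Algebra Γ(Y, V) (Y.presheaf.stalk (f x)) :=
      TopCat.Presheaf.algebra_section_stalk Y.presheaf (⟨f x, hWV hxW⟩ : V)
    haveI : IsLocalization.AtPrime (Y.presheaf.stalk (f x)) p :=
      hV.isLocalization_stalk ⟨f x, hWV hxW⟩
    have hx1W : x1 ∈ W := h1x.mem_open W.isOpen hxW
    have hx2W : x2 ∈ W := h2x.mem_open W.isOpen hxW
    have hc : ∀ (x' : X) (hx'W : x' ∈ W), f x' = genericPoint Y →
        Ideal.comap (algebraMap Γ(Y, V) Γ(X, W)) (hW.primeIdealOf ⟨x', hx'W⟩).asIdeal =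
          (hV.primeIdealOf ⟨genericPoint Y, hgenV⟩).asIdeal := by
      intro x' hx'W hx'η
      have h3 := congr($(IsAffineOpen.comap_primeIdealOf_appLE V hV W hW hWV hx'W).1)
      have h4 : hV.primeIdealOf ⟨f x', hWV hx'W⟩ = hV.primeIdealOf ⟨genericPoint Y, hgenV⟩ := by
        congr 1
        exact Subtype.ext hx'η
      rw [← h4]
      exact h3
    have e := Groth.Agent.H70.UnramUnibranch.eq_of_le_of_comap_eq_of_etale p
      (Y.presheaf.stalk (f x)) (hY (f x)) q
      (hV.primeIdealOf ⟨genericPoint Y, hgenV⟩).asIdeal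
      (primeIdealOf_genericPoint_le hV hgenV)
      (hW.primeIdealOf ⟨x1, hx1W⟩).asIdeal (hW.primeIdealOf ⟨x2, hx2W⟩).asIdeal
      (primeIdealOf_le_of_specializes hW h1x hxW hx1W)
      (primeIdealOf_le_of_specializes hW h2x hxW hx2W)
      (hc x1 hx1W h1) (hc x2 hx2W h2)
    have e' : hW.primeIdealOf ⟨x1, hx1W⟩ = hW.primeIdealOf ⟨x2, hx2W⟩ := PrimeSpectrum.ext e
    have h3 := hW.fromSpec_primeIdealOf ⟨x1, hx1W⟩
    rw [e', hW.fromSpec_primeIdealOf] at h3
    exact h3.symm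
  exact Groth.Agent.H70.GenPoints.irreducibleComponents_of_genericPoints F hF hgen huniq

end Groth.Agent.H70.UnramUnibranchScheme
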