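import Mathlib
import Groth.Agent.H70.GenPoints
import Groth.Agent.H70.UnramUnibranchIrr

/-!
# A connected locally Noetherian scheme with integral local rings is integral
-/

set_option autoImplicit false
set_option linter.style.haveILetI false
set_option linter.unusedSectionVars false
universe u
open AlgebraicGeometry CategoryTheory TopologicalSpace

namespace Groth.Agent.H70.LocDomain

open Groth.Agent.H70.UnramUnibranchScheme

variable {S : Scheme.{u}}

theorem fromSpec_mem {W : S.Opens} (hW : IsAffineOpen W) (P : PrimeSpectrum Γ(S, W)) :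
    hW.fromSpec P ∈ W := by
  have h1 : hW.fromSpec P ∈ Set.range hW.fromSpec := ⟨_, rfl⟩
  rw [hW.range_fromSpec] at h1
  exact h1

theorem specializes_of_primeIdealOf_le {W : S.Opens} (hW : IsAffineOpen W) {x' x : S}
    (hxW : x ∈ W) (hx'W : x' ∈ W)
    (h : (hW.primeIdealOf ⟨x', hx'W⟩).asIdeal ≤ (hW.primeIdealOf ⟨x, hxW⟩).asIdeal) :
    x' ⤳ x := by
  have h2 : hW.primeIdealOf ⟨x', hx'W⟩ ⤳ hW.primeIdealOf ⟨x, hxW⟩ :=
    (PrimeSpectrum.le_iff_specializes _ _).mp h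
  have h3 := h2.map hW.fromSpec.continuous
  rwa [hW.fromSpec_primeIdealOf, hW.fromSpec_primeIdealOf] at h3

/-- The set of maximal points (points without proper generizations). -/
def maxPts (S : Scheme.{u}) : Set S := {ξ | ∀ ξ' : S, ξ' ⤳ ξ → ξ' = ξ}

theorem primeIdealOf_injective {W : S.Opens} (hW : IsAffineOpen W) :
    Function.Injective (hW.primeIdealOf) := fun a b hab => by
  apply Subtype.ext
  rw [← hW.fromSpec_primeIdealOf a, ← hW.fromSpec_primeIdealOf b, hab]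

theorem mem_maxPts_iff {W : S.Opens} (hW : IsAffineOpen W) {x : S} (hxW : x ∈ W) :
    x ∈ maxPts S ↔ (hW.primeIdealOf ⟨x, hxW⟩).asIdeal ∈ minimalPrimes Γ(S, W) := by
  constructor
  · intro hx
    refine ⟨⟨(hW.primeIdealOf ⟨x, hxW⟩).2, bot_le⟩, ?_⟩
    rintro q ⟨hq, -⟩ hle
    have hmem := fromSpec_mem hW ⟨q, hq⟩
    have e := primeIdealOf_fromSpec hW ⟨q, hq⟩ hmem
    have hsp : hW.fromSpec ⟨q, hq⟩ ⤳ x := by
      apply specializes_of_primeIdealOf_le hW hxW hmem
      rw [e]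
      exact hle
    have := hx _ hsp
    have e2 : hW.primeIdealOf ⟨x, hxW⟩ = ⟨q, hq⟩ := by
      rw [← e]
      congr 1
      exact Subtype.ext this.symm
    rw [e2]
  · intro hmin ξ' hsp
    have hξ'W : ξ' ∈ W := hsp.mem_open W.isOpen hxW
    have hle := primeIdealOf_le_of_specializes hW hsp hxW hξ'W
    have hge := hmin.2 ⟨(hW.primeIdealOf ⟨ξ', hξ'W⟩).2, bot_le⟩ hle
    have e : hW.primeIdealOf ⟨ξ', hξ'W⟩ = hW.primeIdealOf ⟨x, hxW⟩ :=
      PrimeSpectrum.ext (le_antisymm hle hge)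
    exact congr_arg Subtype.val (primeIdealOf_injective hW e)

theorem maxPts_finite [IsLocallyNoetherian S] (x : S) :
    ∃ W : Set S, IsOpen W ∧ x ∈ W ∧ (maxPts S ∩ W).Finite := by
  obtain ⟨W, hW, hxW, -⟩ :=
    exists_isAffineOpen_mem_and_subset (x := x) (U := (⊤ : S.Opens)) trivial
  refine ⟨W, W.isOpen, hxW, ?_⟩
  haveI : IsNoetherianRing Γ(S, W) := IsLocallyNoetherian.component_noetherian ⟨W, hW⟩
  have hfin := minimalPrimes.finite_of_isNoetherianRing Γ(S, W)
  have h1 : {w : W | (hW.primeIdealOf w).asIdeal ∈ minimalPrimes Γ(S, W)}.Finite := by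
    have hinj : Function.Injective (fun w : W => (hW.primeIdealOf w).asIdeal) :=
      fun a b hab => primeIdealOf_injective hW (PrimeSpectrum.ext hab)
    exact hfin.preimage hinj.injOn
  refine (h1.image Subtype.val).subset ?_
  rintro ξ ⟨hξ, hξW⟩
  exact ⟨⟨ξ, hξW⟩, (mem_maxPts_iff hW hξW).mp hξ, rfl⟩

theorem exists_maxPts_specializes (x : S) : ∃ x' ∈ maxPts S, x' ⤳ x := by
  obtain ⟨W, hW, hxW, -⟩ :=
    exists_isAffineOpen_mem_and_subset (x := x) (U := (⊤ : S.Opens)) trivial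
  obtain ⟨p0, hp0, hle⟩ := Ideal.exists_minimalPrimes_le
    (I := (⊥ : Ideal Γ(S, W))) (J := (hW.primeIdealOf ⟨x, hxW⟩).asIdeal) bot_le
  have hp0' : p0.IsPrime := hp0.1.1
  have hmem := fromSpec_mem hW ⟨p0, hp0'⟩
  have e := primeIdealOf_fromSpec hW ⟨p0, hp0'⟩ hmem
  refine ⟨hW.fromSpec ⟨p0, hp0'⟩, ?_, ?_⟩
  · rw [mem_maxPts_iff hW hmem, e]
    exact hp0
  · apply specializes_of_primeIdealOf_le hW hxW hmem
    rw [e]
    exact hle

theorem maxPts_unique (h : ∀ s : S, IsDomain (S.presheaf.stalk s)) (x x1 x2 : S)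
    (h1 : x1 ∈ maxPts S) (h2 : x2 ∈ maxPts S) (h1x : x1 ⤳ x) (h2x : x2 ⤳ x) : x1 = x2 := by
  obtain ⟨W, hW, hxW, -⟩ :=
    exists_isAffineOpen_mem_and_subset (x := x) (U := (⊤ : S.Opens)) trivial
  have hx1W : x1 ∈ W := h1x.mem_open W.isOpen hxW
  have hx2W : x2 ∈ W := h2x.mem_open W.isOpen hxW
  let p := (hW.primeIdealOf ⟨x, hxW⟩).asIdeal
  letI algSt : Algebra Γ(S, W) (S.presheaf.stalk x) :=
    TopCat.Presheaf.algebra_section_stalk S.presheaf (⟨x, hxW⟩ : W)
  haveI : IsLocalization.AtPrime (S.presheaf.stalk x) p :=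
    hW.isLocalization_stalk ⟨x, hxW⟩
  haveI := h x
  let P0 : Ideal Γ(S, W) := RingHom.ker (algebraMap Γ(S, W) (S.presheaf.stalk x))
  haveI : P0.IsPrime := RingHom.ker_isPrime _
  have hP0le : ∀ q' : Ideal Γ(S, W), q'.IsPrime → q' ≤ p → P0 ≤ q' := by
    intro q' hq' hle y hy
    have hy' : algebraMap Γ(S, W) (S.presheaf.stalk x) y = 0 := hy
    obtain ⟨s, hs⟩ := (IsLocalization.map_eq_zero_iff p.primeCompl _ _).mp hy'
    have h3 : (s : Γ(S, W)) * y ∈ q' := hs ▸ q'.zero_mem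
    exact (hq'.mem_or_mem h3).resolve_left (fun hsq => s.2 (hle hsq))
  have key : ∀ (ξ : S) (hξW : ξ ∈ W), ξ ∈ maxPts S → ξ ⤳ x →
      (hW.primeIdealOf ⟨ξ, hξW⟩).asIdeal = P0 := by
    intro ξ hξW hξ hξx
    have hmin := (mem_maxPts_iff hW hξW).mp hξ
    have hle := primeIdealOf_le_of_specializes hW hξx hxW hξW
    have h1 := hP0le _ (hW.primeIdealOf ⟨ξ, hξW⟩).2 hle
    exact le_antisymm (hmin.2 ⟨inferInstance, bot_le⟩ h1) h1
  have e : hW.primeIdealOf ⟨x1, hx1W⟩ = hW.primeIdealOf ⟨x2, hx2W⟩ :=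
    PrimeSpectrum.ext ((key x1 hx1W h1 h1x).trans (key x2 hx2W h2 h2x).symm)
  exact congr_arg Subtype.val (primeIdealOf_injective hW e)

theorem irreducibleSpace_of_connected_of_isDomain_stalk [IsLocallyNoetherian S]
    [ConnectedSpace S] (h : ∀ s : S, IsDomain (S.presheaf.stalk s)) : IrreducibleSpace S :=
  Groth.Agent.H70.GenPoints.irreducibleSpace_of_genericPoints (maxPts S) maxPts_finite
    exists_maxPts_specializes (fun x x1 h1 x2 h2 h1x h2x => maxPts_unique h x x1 x2 h1 h2 h1x h2x)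

theorem isIntegral_of_connected_of_isDomain_stalk [IsLocallyNoetherian S]
    [ConnectedSpace S] (h : ∀ s : S, IsDomain (S.presheaf.stalk s)) : IsIntegral S := by
  haveI := irreducibleSpace_of_connected_of_isDomain_stalk h
  haveI : ∀ s : S, _root_.IsReduced (S.presheaf.stalk s) := fun s => by
    haveI := h s
    infer_instance
  haveI : IsReduced S := isReduced_of_isReduced_stalk S
  exact isIntegral_of_irreducibleSpace_of_isReduced S

end Groth.Agent.H70.LocDomain
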