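import Mathlib
import Groth.Agent.H70.LocDomain

/-!
# Irreducible components through a point and maximal points
-/

set_option autoImplicit false
set_option linter.style.haveILetI false
set_option linter.unusedSectionVars false
universe u
open AlgebraicGeometry CategoryTheory TopologicalSpace

namespace Groth.Agent.H70.BranchTop

section Top

variable {Y : Type*} [TopologicalSpace Y]

/-- Points without proper generizations. -/
def maxPtsTop (Y : Type*) [TopologicalSpace Y] : Set Y := {ξ | ∀ ξ' : Y, ξ' ⤳ ξ → ξ' = ξ}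

theorem closure_mem_irreducibleComponents [QuasiSober Y] {ξ : Y} (hξ : ξ ∈ maxPtsTop Y) :
    closure ({ξ} : Set Y) ∈ irreducibleComponents Y := by
  refine ⟨isIrreducible_singleton.closure, fun t ht hle => ?_⟩
  obtain ⟨η, hη⟩ := QuasiSober.sober ht.closure isClosed_closure
  have he : closure {η} = closure t := hη.def
  have h1 : ξ ∈ closure ({η} : Set Y) := he ▸ subset_closure (hle (subset_closure rfl))
  have h2 : η ⤳ ξ := specializes_iff_mem_closure.mpr h1
  have h3 : η = ξ := hξ η h2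
  intro x hx
  have : x ∈ closure t := subset_closure hx
  rw [← he, h3] at this
  exact this

theorem exists_maxPtsTop_closure_eq [QuasiSober Y] [T0Space Y] {Z : Set Y}
    (hZ : Z ∈ irreducibleComponents Y) : ∃ ξ ∈ maxPtsTop Y, closure ({ξ} : Set Y) = Z := by
  have hcl : IsClosed Z := isClosed_of_mem_irreducibleComponents Z hZ
  obtain ⟨ξ, hξ⟩ := QuasiSober.sober hZ.1 hcl
  have he : closure {ξ} = Z := hξ.def
  refine ⟨ξ, fun η hη => ?_, he⟩
  have hle : closure {ξ} ⊆ closure {η} := specializes_iff_closure_subset.mp hη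
  have hirr : IsIrreducible (closure ({η} : Set Y)) := isIrreducible_singleton.closure
  have hge : closure {η} ⊆ Z := hZ.2 hirr (he ▸ hle)
  have h2 : ξ ⤳ η := specializes_iff_mem_closure.mpr (he ▸ hge (subset_closure rfl))
  exact (hη.antisymm h2).eq

theorem encard_eq_one_iff [QuasiSober Y] [T0Space Y] (u : Y) :
    {Z : Set Y | Z ∈ irreducibleComponents Y ∧ u ∈ Z}.encard = 1 ↔
      ∃! ξ, ξ ∈ maxPtsTop Y ∧ ξ ⤳ u := by
  rw [Set.encard_eq_one]
  constructor
  · rintro ⟨Z, hZ⟩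
    have hZmem : Z ∈ {Z : Set Y | Z ∈ irreducibleComponents Y ∧ u ∈ Z} := hZ ▸ rfl
    obtain ⟨ξ, hξ, he⟩ := exists_maxPtsTop_closure_eq hZmem.1
    refine ⟨ξ, ⟨hξ, specializes_iff_mem_closure.mpr (he ▸ hZmem.2)⟩, ?_⟩
    rintro ξ' ⟨hξ', hξ'u⟩
    have h1 : closure ({ξ'} : Set Y) ∈ {Z : Set Y | Z ∈ irreducibleComponents Y ∧ u ∈ Z} :=
      ⟨closure_mem_irreducibleComponents hξ', specializes_iff_mem_closure.mp hξ'u⟩
    rw [hZ] at h1
    have h2 : closure ({ξ'} : Set Y) = closure {ξ} := h1.trans he.symm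
    have h3 : ξ' ⤳ ξ := specializes_iff_closure_subset.mpr h2.ge
    exact hξ ξ' h3
  · rintro ⟨ξ, ⟨hξ, hξu⟩, huniq⟩
    refine ⟨closure {ξ}, ?_⟩
    ext Z
    constructor
    · rintro ⟨hZ, huZ⟩
      obtain ⟨ξ', hξ', he⟩ := exists_maxPtsTop_closure_eq hZ
      have h1 : ξ' = ξ := huniq ξ' ⟨hξ', specializes_iff_mem_closure.mpr (he ▸ huZ)⟩
      show Z = closure {ξ}
      rw [← he, h1]
    · intro hZ
      have hZ' : Z = closure {ξ} := hZ
      rw [hZ']
      exact ⟨closure_mem_irreducibleComponents hξ, specializes_iff_mem_closure.mp hξu⟩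

end Top

theorem mem_maxPtsTop_primeSpectrum {R : Type u} [CommRing R] {ξ : PrimeSpectrum R}
    (h : ξ.asIdeal ∈ minimalPrimes R) : ξ ∈ maxPtsTop (PrimeSpectrum R) := by
  intro ξ' hξ'
  have hle : ξ'.asIdeal ≤ ξ.asIdeal := (PrimeSpectrum.le_iff_specializes _ _).mpr hξ'
  have hge : ξ.asIdeal ≤ ξ'.asIdeal := h.2 ⟨ξ'.2, bot_le⟩ hle
  exact PrimeSpectrum.ext (le_antisymm hle hge)

/-- On `Spec R`: if the point `u` lies on a single irreducible component, then the minimal primes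
below `u` are unique. -/
theorem minimalPrimes_unique_of_encard_eq_one {R : Type u} [CommRing R] (u : PrimeSpectrum R)
    (h : {Z : Set (PrimeSpectrum R) | Z ∈ irreducibleComponents (PrimeSpectrum R) ∧
      u ∈ Z}.encard = 1)
    (P1 : Ideal R) (hP1 : P1 ∈ minimalPrimes R) (P2 : Ideal R) (hP2 : P2 ∈ minimalPrimes R)
    (h1 : P1 ≤ u.asIdeal) (h2 : P2 ≤ u.asIdeal) : P1 = P2 := by
  obtain ⟨ξ, -, huniq⟩ := (encard_eq_one_iff u).mp h
  have e1 : (⟨P1, hP1.1.1⟩ : PrimeSpectrum R) = ξ :=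
    huniq _ ⟨mem_maxPtsTop_primeSpectrum hP1, (PrimeSpectrum.le_iff_specializes _ _).mp h1⟩
  have e2 : (⟨P2, hP2.1.1⟩ : PrimeSpectrum R) = ξ :=
    huniq _ ⟨mem_maxPtsTop_primeSpectrum hP2, (PrimeSpectrum.le_iff_specializes _ _).mp h2⟩
  exact congrArg PrimeSpectrum.asIdeal (e1.trans e2.symm)

open Groth.Agent.H70.LocDomain Groth.Agent.H70.UnramUnibranchScheme in
/-- On a scheme: if the minimal primes of an affine neighbourhood below `u` are unique, then `u`
lies on a single irreducible component. -/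
theorem encard_eq_one_of_minimalPrimes_unique {U : Scheme.{u}} (u : U) {W : U.Opens}
    (hW : IsAffineOpen W) (huW : u ∈ W)
    (h : ∀ P1 ∈ minimalPrimes Γ(U, W), ∀ P2 ∈ minimalPrimes Γ(U, W),
      P1 ≤ (hW.primeIdealOf ⟨u, huW⟩).asIdeal → P2 ≤ (hW.primeIdealOf ⟨u, huW⟩).asIdeal →
      P1 = P2) :
    {Z : Set U | Z ∈ irreducibleComponents U ∧ u ∈ Z}.encard = 1 := by
  rw [encard_eq_one_iff]
  obtain ⟨ξ, hξ, hξu⟩ := exists_maxPts_specializes u
  refine ⟨ξ, ⟨hξ, hξu⟩, ?_⟩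
  rintro ξ' ⟨hξ', hξ'u⟩
  have hξW : ξ ∈ W := hξu.mem_open W.isOpen huW
  have hξ'W : ξ' ∈ W := hξ'u.mem_open W.isOpen huW
  have e := h _ ((mem_maxPts_iff hW hξ'W).mp hξ') _ ((mem_maxPts_iff hW hξW).mp hξ)
    (primeIdealOf_le_of_specializes hW hξ'u huW hξ'W)
    (primeIdealOf_le_of_specializes hW hξu huW hξW)
  exact congrArg Subtype.val (primeIdealOf_injective hW (PrimeSpectrum.ext e))

end Groth.Agent.H70.BranchTop
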