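import Mathlib
import Groth.Prelude.Def_EGA4Misc
import Groth.Agent.H70.BranchTop
import Groth.Agent.H7.PullbackPoint

/-!
# Birational morphisms (in the sense of `RadPt.IsBirational`) and flat base change
-/

set_option autoImplicit false
set_option linter.style.haveILetI false
universe u
open AlgebraicGeometry CategoryTheory TopologicalSpace Limits

namespace Groth.Agent.H70.Birational

open Groth.Agent.H70.BranchTop

section Top

variable {Y : Type*} [TopologicalSpace Y]

theorem genericPoints_eq_maxPtsTop [QuasiSober Y] [T0Space Y] : genericPoints Y = maxPtsTop Y := by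
  ext x
  constructor
  · intro hx
    obtain ⟨ξ, hξ, he⟩ := exists_maxPtsTop_closure_eq (Y := Y) hx
    have h1 : ξ ⤳ x := specializes_iff_mem_closure.mpr (he ▸ subset_closure rfl)
    have h2 : x ⤳ ξ := specializes_iff_mem_closure.mpr (he.symm ▸ subset_closure rfl)
    have : ξ = x := (h1.antisymm h2).eq
    exact this ▸ hξ
  · intro hx
    exact closure_mem_irreducibleComponents hx

theorem map_mem_maxPtsTop_of_generalizingMap {Y' : Type*} [TopologicalSpace Y'] {g : Y' → Y}
    (hg : GeneralizingMap g) {y' : Y'} (hy' : y' ∈ maxPtsTop Y') : g y' ∈ maxPtsTop Y := by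
  intro η hη
  obtain ⟨y'', h1, h2⟩ := hg hη
  rw [← h2, hy' y'' h1]

end Top

variable {X Y X' Y' : Scheme.{u}} {f : X ⟶ Y} {g : Y' ⟶ Y} {f' : X' ⟶ Y'} {g' : X' ⟶ X}

/-- In a pullback square, a point is determined by its two images if one of the legs induces an
isomorphism of residue fields there. -/
theorem eq_of_isPullback (sq : IsPullback g' f' f g) (z₁ z₂ : X') (h1 : g' z₁ = g' z₂)
    (h2 : f' z₁ = f' z₂) (h : Function.Bijective (f.residueFieldMap (g' z₂))) : z₁ = z₂ := by
  let e := sq.flip.isoPullback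
  have hfst : e.hom ≫ pullback.fst g f = f' := sq.flip.isoPullback_hom_fst
  have hsnd : e.hom ≫ pullback.snd g f = g' := sq.flip.isoPullback_hom_snd
  have hfst' : ∀ z, pullback.fst g f (e.hom z) = f' z := fun z => by
    rw [← Scheme.Hom.comp_apply, hfst]
  have hsnd' : ∀ z, pullback.snd g f (e.hom z) = g' z := fun z => by
    rw [← Scheme.Hom.comp_apply, hsnd]
  have key : e.hom z₁ = e.hom z₂ := by
    apply Groth.Agent.H7.eq_of_fst_eq_of_snd_eq
    · rw [hfst', hfst', h2]
    · rw [hsnd', hsnd', h1]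
    · rw [hsnd']; exact h
  exact e.hom.homeomorph.injective key

theorem exists_of_isPullback (sq : IsPullback g' f' f g) (x : X) (y' : Y') (h : f x = g y') :
    ∃ z : X', g' z = x ∧ f' z = y' := by
  obtain ⟨t, ht1, ht2⟩ := Scheme.Pullback.exists_preimage_pullback (f := f) (g := g) x y' h
  refine ⟨sq.isoPullback.inv t, ?_, ?_⟩
  · rw [← Scheme.Hom.comp_apply, sq.isoPullback_inv_fst, ht1]
  · rw [← Scheme.Hom.comp_apply, sq.isoPullback_inv_snd, ht2]

theorem bijective_residueFieldMap_comp_of_isIso {A B C : Scheme.{u}} (a : A ⟶ B) [IsIso a]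
    (b : B ⟶ C) (z : A) (h : Function.Bijective (b.residueFieldMap (a z))) :
    Function.Bijective ((a ≫ b).residueFieldMap z) := by
  rw [Scheme.residueFieldMap_comp]
  have : IsIso (a.residueFieldMap z) := inferInstance
  have h2 : Function.Bijective (a.residueFieldMap z) := ConcreteCategory.bijective_of_isIso _
  exact h2.comp h

theorem bijective_residueFieldMap_of_isPullback (sq : IsPullback g' f' f g) (z : X')
    (h : Function.Bijective (f.residueFieldMap (g' z))) :
    Function.Bijective (f'.residueFieldMap z) := by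
  let e := sq.flip.isoPullback
  have hfst : e.hom ≫ pullback.fst g f = f' := sq.flip.isoPullback_hom_fst
  have hsnd : e.hom ≫ pullback.snd g f = g' := sq.flip.isoPullback_hom_snd
  have hsnd' : pullback.snd g f (e.hom z) = g' z := by
    rw [← Scheme.Hom.comp_apply, hsnd]
  have h1 : Function.Bijective ((pullback.fst g f).residueFieldMap (e.hom z)) := by
    apply Groth.Agent.H7.bijective_residueFieldMap_fst
    rw [hsnd']; exact h
  have h2 := bijective_residueFieldMap_comp_of_isIso e.hom (pullback.fst g f) z h1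
  rw [Scheme.Hom.residueFieldMap_congr hfst.symm z]
  exact h2.comp (ConcreteCategory.bijective_of_isIso _)

/-- The section argument: over a maximal point of `Y` where `f` has trivial residue field
extension, maximal points of `X'` map to maximal points of `Y'`. -/
theorem map_mem_maxPtsTop_of_isPullback (sq : IsPullback g' f' f g) (ζ : X')
    (hζ : ζ ∈ maxPtsTop X') (hbij : Function.Bijective (f.residueFieldMap (g' ζ)))
    (hη : f (g' ζ) ∈ maxPtsTop Y) : f' ζ ∈ maxPtsTop Y' := by
  intro y' hy'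
  have hgζ : g (f' ζ) = f (g' ζ) := by
    rw [← Scheme.Hom.comp_apply, ← sq.w, Scheme.Hom.comp_apply]
  have hgy' : g y' = f (g' ζ) := by
    have : g y' ⤳ g (f' ζ) := hy'.map g.continuous
    rw [hgζ] at this
    exact hη _ this
  obtain ⟨w', hw'⟩ : ∃ w' : g.fiber (f (g' ζ)), g.fiberι (f (g' ζ)) w' = y' := by
    have : y' ∈ Set.range (g.fiberι (f (g' ζ))) := by
      rw [Scheme.Hom.range_fiberι]; exact hgy'
    exact this
  obtain ⟨w'', hw''⟩ : ∃ w'' : g.fiber (f (g' ζ)), g.fiberι (f (g' ζ)) w'' = f' ζ := by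
    have : f' ζ ∈ Set.range (g.fiberι (f (g' ζ))) := by
      rw [Scheme.Hom.range_fiberι]; exact hgζ
    exact this
  have hspec : w' ⤳ w'' := by
    rw [← (g.fiberι (f (g' ζ))).isEmbedding.isInducing.specializes_iff, hw', hw'']
    exact hy'
  haveI : IsIso (f.residueFieldMap (g' ζ)) := (ConcreteCategory.isIso_iff_bijective _).mpr hbij
  let σ : Spec (Y.residueField (f (g' ζ))) ⟶ X :=
    Spec.map (inv (f.residueFieldMap (g' ζ))) ≫ X.fromSpecResidueField (g' ζ)
  have hσ : σ ≫ f = Y.fromSpecResidueField (f (g' ζ)) := by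
    simp only [σ, Category.assoc]
    rw [← Scheme.Hom.SpecMap_residueFieldMap_fromSpecResidueField, ← Spec.map_comp_assoc,
      IsIso.hom_inv_id, Spec.map_id, Category.id_comp]
  let s : g.fiber (f (g' ζ)) ⟶ X' :=
    sq.lift (g.fiberToSpecResidueField (f (g' ζ)) ≫ σ) (g.fiberι (f (g' ζ))) (by
      rw [Category.assoc, hσ]; exact (g.fiber_fac (f (g' ζ))).symm)
  have hs1 : s ≫ g' = g.fiberToSpecResidueField (f (g' ζ)) ≫ σ := sq.lift_fst _ _ _
  have hs2 : s ≫ f' = g.fiberι (f (g' ζ)) := sq.lift_snd _ _ _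
  have hs1' : ∀ w, g' (s w) = g' ζ := fun w => by
    rw [← Scheme.Hom.comp_apply, hs1, Scheme.Hom.comp_apply]
    simp only [σ, Scheme.Hom.comp_apply, Scheme.fromSpecResidueField_apply]
  have hs2' : ∀ w, f' (s w) = g.fiberι (f (g' ζ)) w := fun w => by
    rw [← Scheme.Hom.comp_apply, hs2]
  have h1 : s w'' = ζ := eq_of_isPullback sq (s w'') ζ (hs1' w'') (by rw [hs2', hw'']) hbij
  have h2 : s w' ⤳ ζ := by
    have := hspec.map s.continuous
    rwa [h1] at this
  have h3 : s w' = ζ := hζ _ h2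
  rw [← hw', ← hs2', h3]

/-- A point of `X'` which is alone in its fibre over a maximal point of `Y'` is maximal. -/
theorem mem_maxPtsTop_of_unique (f' : X' ⟶ Y') (z : X') (hz : f' z ∈ maxPtsTop Y')
    (huniq : ∀ z', f' z' = f' z → z' = z) : z ∈ maxPtsTop X' := by
  intro z₁ hz₁
  exact huniq z₁ (hz _ (hz₁.map f'.continuous))

/-- Flat base change of a birational morphism is birational. -/
theorem isBirational_of_isPullback [Flat g] (sq : IsPullback g' f' f g)
    (hf : RadPt.IsBirational f) : RadPt.IsBirational f' := by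
  haveI : Flat g' := MorphismProperty.of_isPullback sq.flip inferInstance
  obtain ⟨hbij, hpt⟩ := hf
  rw [genericPoints_eq_maxPtsTop, genericPoints_eq_maxPtsTop] at hbij
  rw [genericPoints_eq_maxPtsTop] at hpt
  have hgm : ∀ y' ∈ maxPtsTop Y', g y' ∈ maxPtsTop Y := fun y' hy' =>
    map_mem_maxPtsTop_of_generalizingMap (Flat.generalizingMap g) hy'
  have hgm' : ∀ z ∈ maxPtsTop X', g' z ∈ maxPtsTop X := fun z hz =>
    map_mem_maxPtsTop_of_generalizingMap (Flat.generalizingMap g') hz
  have hw : ∀ z, g (f' z) = f (g' z) := fun z => by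
    rw [← Scheme.Hom.comp_apply, ← sq.w, Scheme.Hom.comp_apply]
  -- uniqueness and residue fields over points of `Y'` above maximal points of `Y`
  have huniq : ∀ z₁ z₂ : X', g (f' z₂) ∈ maxPtsTop Y → f' z₁ = f' z₂ → z₁ = z₂ := by
    intro z₁ z₂ hmax h12
    have hmax' : f (g' z₂) ∈ maxPtsTop Y := hw z₂ ▸ hmax
    have hg12 : g' z₁ = g' z₂ :=
      (hpt _ hmax').1 _ _ (by rw [← hw, h12, hw]) rfl
    exact eq_of_isPullback sq z₁ z₂ hg12 h12 ((hpt _ hmax').2 _ rfl)
  have hres : ∀ z : X', g (f' z) ∈ maxPtsTop Y → Function.Bijective (f'.residueFieldMap z) := by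
    intro z hmax
    have hmax' : f (g' z) ∈ maxPtsTop Y := hw z ▸ hmax
    exact bijective_residueFieldMap_of_isPullback sq z ((hpt _ hmax').2 _ rfl)
  rw [RadPt.IsBirational, genericPoints_eq_maxPtsTop, genericPoints_eq_maxPtsTop]
  refine ⟨⟨?_, ?_, ?_⟩, ?_⟩
  · intro ζ hζ
    have h1 : g' ζ ∈ maxPtsTop X := hgm' ζ hζ
    have h2 : f (g' ζ) ∈ maxPtsTop Y := hbij.mapsTo h1
    exact map_mem_maxPtsTop_of_isPullback sq ζ hζ ((hpt _ h2).2 _ rfl) h2
  · intro z₁ hz₁ z₂ hz₂ h12
    have h1 : g' z₂ ∈ maxPtsTop X := hgm' z₂ hz₂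
    have h2 : f (g' z₂) ∈ maxPtsTop Y := hbij.mapsTo h1
    exact huniq z₁ z₂ (by rw [hw]; exact h2) h12
  · intro η' hη'
    have h1 : g η' ∈ maxPtsTop Y := hgm η' hη'
    obtain ⟨ξ, hξ, hξη⟩ := hbij.surjOn h1
    obtain ⟨z, hz1, hz2⟩ := exists_of_isPullback sq ξ η' hξη
    refine ⟨z, ?_, hz2⟩
    apply mem_maxPtsTop_of_unique f' z (hz2 ▸ hη')
    intro z' hz'
    exact huniq z' z (by rw [hz2]; exact h1) hz'
  · intro η' hη'
    have h1 : g η' ∈ maxPtsTop Y := hgm η' hη'
    refine ⟨fun z₁ z₂ hz₁ hz₂ => ?_, fun z hz => ?_⟩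
    · exact huniq z₁ z₂ (by rw [hz₂]; exact h1) (hz₁.trans hz₂.symm)
    · exact hres z (by rw [hz]; exact h1)

end Groth.Agent.H70.Birational
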