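import Mathlib

set_option autoImplicit false
set_option linter.style.haveILetI false
universe u
open TensorProduct

namespace Groth.Agent.H70.SpreadEtale

/-- Scale the relations of a presentation by a unit. -/
noncomputable def scalePresentation {R S ι σ : Type*} [CommRing R] [CommRing S] [Algebra R S]
    (P : Algebra.Presentation R S ι σ) (u : R) (hu : IsUnit u) : Algebra.Presentation R S ι σ where
  __ := P.toGenerators
  relation i := MvPolynomial.C u * P.relation i
  span_range_relation_eq_ker := by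
    rw [← P.span_range_relation_eq_ker]
    have hCu : IsUnit (MvPolynomial.C u : MvPolynomial ι R) := hu.map MvPolynomial.C
    apply le_antisymm
    · rw [Ideal.span_le]
      rintro _ ⟨i, rfl⟩
      exact Ideal.mul_mem_left _ _ (Ideal.subset_span ⟨i, rfl⟩)
    · rw [Ideal.span_le]
      rintro _ ⟨i, rfl⟩
      obtain ⟨v, hv⟩ := hCu.exists_left_inv
      have : P.relation i = v * (MvPolynomial.C u * P.relation i) := by
        rw [← mul_assoc, hv, one_mul]
      rw [this]
      exact Ideal.mul_mem_left _ _ (Ideal.subset_span ⟨i, rfl⟩)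

theorem scalePresentation_coeffs {R S ι σ : Type*} [CommRing R] [CommRing S] [Algebra R S]
    (P : Algebra.Presentation R S ι σ) (u : R) (hu : IsUnit u) :
    (scalePresentation P u hu).coeffs ⊆ (fun c => u * c) '' P.coeffs := by
  intro c hc
  simp only [Algebra.Presentation.coeffs, Set.mem_iUnion] at hc
  obtain ⟨i, hi⟩ := hc
  have hi' : c ∈ (MvPolynomial.C u * P.relation i).coeffs := hi
  rw [MvPolynomial.mem_coeffs_iff] at hi'
  obtain ⟨m, hm, rfl⟩ := hi'
  rw [MvPolynomial.coeff_C_mul]
  refine ⟨(P.relation i).coeff m, Set.mem_iUnion.mpr ⟨i, ?_⟩, rfl⟩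
  rw [Finset.mem_coe, MvPolynomial.mem_coeffs_iff]
  refine ⟨m, ?_, rfl⟩
  rw [MvPolynomial.mem_support_iff] at hm ⊢
  intro h0
  apply hm
  rw [MvPolynomial.coeff_C_mul, h0, mul_zero]


attribute [local instance] Algebra.TensorProduct.rightAlgebra in
theorem exists_etale_model {A0 : Type u} [CommRing A0] (p : Ideal A0) [p.IsPrime]
    (Rp : Type u) [CommRing Rp] [Algebra A0 Rp] [IsLocalization.AtPrime Rp p]
    (E : Type u) [CommRing E] [Algebra Rp E] [Algebra.Etale Rp E] [Algebra A0 E]
    [IsScalarTower A0 Rp E]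
    (T : Type u) [CommRing T] [IsLocalRing T] [Algebra A0 T]
    (hT : ∀ t ∈ p.primeCompl, IsUnit (algebraMap A0 T t))
    (φ : E →ₐ[A0] T) (Y : Finset E) :
    ∃ (E0 : Type u) (_ : CommRing E0) (_ : Algebra A0 E0) (_ : Algebra.Etale A0 E0)
      (φ0 : E0 →ₐ[A0] T), ∀ y ∈ Y, ∃ e : E0, ∃ w : T, IsUnit w ∧ φ0 e = w * φ y := by
  classical
  let P := Algebra.Presentation.ofFinitePresentation Rp E
  obtain ⟨b, hb⟩ := IsLocalization.exist_integer_multiples_of_finset (R := A0) p.primeCompl
    P.finite_coeffs.toFinset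
  let u : Rp := algebraMap A0 Rp b
  have hu : IsUnit u := IsLocalization.map_units Rp b
  let P' := scalePresentation P u hu
  haveI hcoef : P'.HasCoeffs A0 := ⟨by
    intro c hc
    obtain ⟨c0, hc0, rfl⟩ := scalePresentation_coeffs P u hu hc
    obtain ⟨a, ha⟩ := hb c0 (by simpa using hc0)
    refine ⟨a, ?_⟩
    rw [ha, Algebra.smul_def]⟩
  let E1 := P'.ModelOfHasCoeffs A0
  let iso : Rp ⊗[A0] E1 ≃ₐ[Rp] E := P'.tensorModelOfHasCoeffsEquiv A0
  let θ1 : E1 →ₐ[A0] E := (iso.toAlgHom.restrictScalars A0).comp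
    (Algebra.TensorProduct.includeRight : E1 →ₐ[A0] Rp ⊗[A0] E1)
  letI algE1E : Algebra E1 E := θ1.toRingHom.toAlgebra
  haveI : IsScalarTower A0 E1 E := IsScalarTower.of_algebraMap_eq (fun a => (θ1.commutes a).symm)
  let M1 : Submonoid E1 := Algebra.algebraMapSubmonoid E1 p.primeCompl
  haveI hloc0 : IsLocalization M1 (Rp ⊗[A0] E1) := IsLocalization.tensorRight Rp p.primeCompl
  haveI hloc1 : IsLocalization M1 E :=
    (IsLocalization.isLocalization_iff_of_ringEquiv M1 iso.toRingEquiv).mp hloc0
  let q' : Ideal E := (IsLocalRing.maximalIdeal T).comap φ.toRingHom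
  haveI hq' : q'.IsPrime := Ideal.comap_isPrime _ _
  let q1 : Ideal E1 := q'.comap (algebraMap E1 E)
  haveI hq1 : q1.IsPrime := Ideal.comap_isPrime _ _
  haveI hlocq : IsLocalization.AtPrime (Localization.AtPrime q') q1 :=
    IsLocalization.isLocalization_isLocalization_atPrime_isLocalization M1
      (Localization.AtPrime q') q'
  haveI : Algebra.FormallyEtale A0 Rp := Algebra.FormallyEtale.of_isLocalization p.primeCompl
  haveI : Algebra.FormallyEtale A0 E := Algebra.FormallyEtale.comp A0 Rp E
  haveI : Algebra.FormallyEtale E (Localization.AtPrime q') :=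
    Algebra.FormallyEtale.of_isLocalization q'.primeCompl
  haveI : Algebra.FormallyEtale A0 (Localization.AtPrime q') :=
    Algebra.FormallyEtale.comp A0 E _
  let e12 : Localization.AtPrime q1 ≃ₐ[E1] Localization.AtPrime q' :=
    IsLocalization.algEquiv q1.primeCompl _ _
  haveI : IsScalarTower A0 E1 (Localization.AtPrime q') :=
    IsScalarTower.of_algebraMap_eq (R := A0) (S := E1) (A := Localization.AtPrime q') (fun a => by
      have h1 : algebraMap A0 (Localization.AtPrime q') a =
          algebraMap E (Localization.AtPrime q') (algebraMap A0 E a) :=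
        IsScalarTower.algebraMap_apply A0 E (Localization.AtPrime q') a
      have h2 : algebraMap E1 (Localization.AtPrime q') (algebraMap A0 E1 a) =
          algebraMap E (Localization.AtPrime q') (algebraMap E1 E (algebraMap A0 E1 a)) :=
        IsScalarTower.algebraMap_apply E1 E (Localization.AtPrime q') _
      have h3 : algebraMap E1 E (algebraMap A0 E1 a) = algebraMap A0 E a :=
        (IsScalarTower.algebraMap_apply A0 E1 E a).symm
      rw [h1, h2, h3])
  haveI hEtAt : Algebra.IsEtaleAt A0 q1 :=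
    Algebra.FormallyEtale.of_equiv (e12.restrictScalars A0).symm
  obtain ⟨f, hf, hEt⟩ := Algebra.exists_etale_of_isEtaleAt (R := A0) q1
  let ψ : E1 →ₐ[A0] T := φ.comp θ1
  have hψf : IsUnit (ψ f) := by
    by_contra hnu
    apply hf
    show φ (θ1 f) ∈ IsLocalRing.maximalIdeal T
    exact (IsLocalRing.mem_maximalIdeal _).mpr hnu
  have hunit : ∀ y : Submonoid.powers f, IsUnit (ψ y) := by
    rintro ⟨_, n, rfl⟩
    rw [map_pow]
    exact hψf.pow n
  let φ0 : Localization.Away f →ₐ[A0] T :=
    IsLocalization.liftAlgHom (M := Submonoid.powers f) (f := ψ) hunit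
  refine ⟨Localization.Away f, inferInstance, inferInstance, hEt, φ0, ?_⟩
  intro y hy
  obtain ⟨⟨e1, m⟩, hm⟩ := IsLocalization.surj M1 y
  obtain ⟨t, ht, htm⟩ := m.2
  refine ⟨algebraMap E1 (Localization.Away f) e1, algebraMap A0 T t, hT t ht, ?_⟩
  have h1 : φ0 (algebraMap E1 (Localization.Away f) e1) = ψ e1 := by
    simp only [φ0, IsLocalization.liftAlgHom_apply, IsLocalization.lift_eq]
    rfl
  rw [h1]
  show φ (θ1 e1) = _
  have h2 : θ1 e1 = y * θ1 (m : E1) := hm.symm
  rw [h2, map_mul, ← htm, θ1.commutes, φ.commutes, mul_comm]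

end Groth.Agent.H70.SpreadEtale
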