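import Mathlib
import Groth.Agent.H70.SpreadEtale
import Groth.Agent.H70.UnramUnibranch2
import Groth.Agent.H47.HensNoeth2
import Groth.Agent.H47.Unibranch
import Groth.Agent.S2135
import Groth.Agent.S0537

set_option autoImplicit false
set_option linter.style.haveILetI false
universe u
open IsLocalRing

namespace Groth.Agent.H70.GeomUnibranchNbhd

open Groth.Agent.H70.SpreadEtale Groth.Agent.H70.UnramUnibranch

/-- If `c` lies in every minimal prime below `q`, some `t ∉ q` kills a power of `c`. -/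
theorem exists_mul_pow_eq_zero {B : Type u} [CommRing B] (q : Ideal B) [q.IsPrime] (c : B)
    (hc : ∀ P ∈ minimalPrimes B, P ≤ q → c ∈ P) : ∃ t : B, t ∉ q ∧ ∃ k : ℕ, t * c ^ k = 0 := by
  classical
  by_contra hne
  push Not at hne
  let S : Submonoid B := q.primeCompl ⊔ Submonoid.powers c
  have hdisj : Disjoint ((⊥ : Ideal B) : Set B) (S : Set B) := by
    rw [Set.disjoint_left]
    intro x hx hxS
    have hx0 : x = 0 := hx
    obtain ⟨y, hy, z, ⟨k, rfl⟩, hyz⟩ := Submonoid.mem_sup.mp hxS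
    exact hne y hy k (by rw [hyz, hx0])
  obtain ⟨Q, hQ, -, hQS⟩ := Ideal.exists_le_prime_disjoint ⊥ S hdisj
  have hQq : Q ≤ q := by
    intro x hx
    by_contra hxq
    exact Set.disjoint_left.mp hQS hx (Submonoid.mem_sup_left (show x ∈ q.primeCompl from hxq))
  have hcQ : c ∉ Q := fun h =>
    Set.disjoint_left.mp hQS h (Submonoid.mem_sup_right (Submonoid.mem_powers c))
  obtain ⟨P, hP, hPQ⟩ := Ideal.exists_minimalPrimes_le (I := (⊥ : Ideal B)) (J := Q) bot_le
  exact hcQ (hPQ (hc P hP (hPQ.trans hQq)))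

theorem isPrime_nilradical_of_forall_etale {A0 : Type u} [CommRing A0] (p : Ideal A0) [p.IsPrime]
    (Rp : Type u) [CommRing Rp] [IsLocalRing Rp] [Algebra A0 Rp] [IsLocalization.AtPrime Rp p]
    (S : Type u) [CommRing S] [IsLocalRing S] [Algebra Rp S] [Algebra A0 S] [IsScalarTower A0 Rp S]
    (hI : Groth.Agent.H47.HensNoeth.IsIndEtaleLocal Rp S)
    (H : ∀ (E0 : Type u) [CommRing E0] [Algebra A0 E0] [Algebra.Etale A0 E0]
      (φ0 : E0 →ₐ[A0] S),
      ∀ P1 ∈ minimalPrimes E0, ∀ P2 ∈ minimalPrimes E0,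
        P1 ≤ (maximalIdeal S).comap φ0.toRingHom → P2 ≤ (maximalIdeal S).comap φ0.toRingHom →
        P1 = P2) :
    (nilradical S).IsPrime := by
  classical
  haveI : Module.Flat Rp S := hI.flat
  haveI : Module.Flat A0 Rp := IsLocalization.flat Rp p.primeCompl
  haveI : Module.Flat A0 S := Module.Flat.trans A0 Rp S
  have hT : ∀ t ∈ p.primeCompl, IsUnit (algebraMap A0 S t) := fun t ht => by
    rw [IsScalarTower.algebraMap_apply A0 Rp S]
    exact (IsLocalization.map_units Rp (⟨t, ht⟩ : p.primeCompl)).map (algebraMap Rp S)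
  refine ⟨fun h => ?_, fun {a b} hab => ?_⟩
  · have h1 : (1 : S) ∈ nilradical S := h ▸ Submodule.mem_top
    obtain ⟨k, hk⟩ := h1
    rw [one_pow] at hk
    exact one_ne_zero hk
  · obtain ⟨n, hn⟩ := hab
    obtain ⟨E, _, _, _, φ, hφ⟩ := hI.rep {a, b}
    obtain ⟨a', ha'⟩ := hφ a (by simp)
    obtain ⟨b', hb'⟩ := hφ b (by simp)
    letI : Algebra A0 E := ((algebraMap Rp E).comp (algebraMap A0 Rp)).toAlgebra
    haveI : IsScalarTower A0 Rp E := IsScalarTower.of_algebraMap_eq (fun _ => rfl)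
    let φA : E →ₐ[A0] S := φ.restrictScalars A0
    obtain ⟨E0, _, _, _, φ0, h0⟩ := exists_etale_model p Rp E S hT φA {a', b'}
    obtain ⟨a0, wa, hwa, ha0⟩ := h0 a' (by simp)
    obtain ⟨b0, wb, hwb, hb0⟩ := h0 b' (by simp)
    have ha0' : φ0 a0 = wa * a := by rw [ha0]; congr 1
    have hb0' : φ0 b0 = wb * b := by rw [hb0]; congr 1
    have hz : φ0 ((a0 * b0) ^ n) = 0 := by
      rw [map_pow, map_mul, ha0', hb0']
      have : wa * a * (wb * b) = (wa * wb) * (a * b) := by ring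
      rw [this, mul_pow, hn, mul_zero]
    obtain ⟨s, hs, hs0⟩ := exists_unit_mul_eq_zero φ0 ((a0 * b0) ^ n) hz
    let q0 : Ideal E0 := (maximalIdeal S).comap φ0.toRingHom
    haveI : q0.IsPrime := Ideal.comap_isPrime _ _
    have hsq0 : s ∉ q0 := fun h => (mem_maximalIdeal _).mp h hs
    obtain ⟨P, hP, hPle⟩ := Ideal.exists_minimalPrimes_le (I := (⊥ : Ideal E0)) (J := q0) bot_le
    haveI hPprime : P.IsPrime := hP.1.1
    have hsP : s ∉ P := fun h => hsq0 (hPle h)
    have h1 : (a0 * b0) ^ n ∈ P := by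
      have : s * (a0 * b0) ^ n ∈ P := hs0 ▸ P.zero_mem
      exact (hPprime.mem_or_mem this).resolve_left hsP
    have h2 : a0 * b0 ∈ P := hPprime.mem_of_pow_mem n h1
    have key : ∀ c0 : E0, c0 ∈ P → IsNilpotent (φ0 c0) := by
      intro c0 hc0
      obtain ⟨t, ht, k, htk⟩ := exists_mul_pow_eq_zero q0 c0 (fun P' hP' hP'le => by
        rw [H E0 φ0 P' hP' P hP hP'le hPle]; exact hc0)
      have htu : IsUnit (φ0 t) := by
        by_contra hnu
        exact ht ((mem_maximalIdeal _).mpr hnu)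
      refine ⟨k, ?_⟩
      have h3 : φ0 t * φ0 c0 ^ k = 0 := by rw [← map_pow, ← map_mul, htk, map_zero]
      exact htu.mul_right_eq_zero.mp h3
    have unitnil : ∀ (w x : S), IsUnit w → IsNilpotent (w * x) → IsNilpotent x := by
      rintro w x hw ⟨k, hk⟩
      refine ⟨k, ?_⟩
      rw [mul_pow] at hk
      exact (hw.pow k).mul_right_eq_zero.mp hk
    rcases hPprime.mem_or_mem h2 with h | h
    · left
      exact unitnil wa a hwa (ha0' ▸ key a0 h)
    · right
      exact unitnil wb b hwb (hb0' ▸ key b0 h)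

theorem liesOver_comap_maximalIdeal {A0 : Type u} [CommRing A0] (p : Ideal A0) [p.IsPrime]
    (Rp : Type u) [CommRing Rp] [IsLocalRing Rp] [Algebra A0 Rp] [IsLocalization.AtPrime Rp p]
    (S : Type u) [CommRing S] [IsLocalRing S] [Algebra Rp S] [IsLocalHom (algebraMap Rp S)]
    [Algebra A0 S] [IsScalarTower A0 Rp S]
    (E0 : Type u) [CommRing E0] [Algebra A0 E0] (φ0 : E0 →ₐ[A0] S) :
    ((maximalIdeal S).comap φ0.toRingHom).LiesOver p := ⟨by
  rw [Ideal.under_def, Ideal.comap_comap]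
  have h1 : φ0.toRingHom.comp (algebraMap A0 E0) = algebraMap A0 S := φ0.comp_algebraMap
  rw [h1, IsScalarTower.algebraMap_eq A0 Rp S, ← Ideal.comap_comap]
  have h2 : (maximalIdeal S).comap (algebraMap Rp S) = maximalIdeal Rp :=
    ((IsLocalRing.local_hom_TFAE (algebraMap Rp S)).out 0 4).mp ‹_›
  rw [h2]
  exact (IsLocalization.AtPrime.under_maximalIdeal Rp p).symm⟩

theorem isGeomUnibranch_of_forall_etale {A0 : Type u} [CommRing A0] (p : Ideal A0) [p.IsPrime]
    (Rp : Type u) [CommRing Rp] [IsLocalRing Rp] [Algebra A0 Rp] [IsLocalization.AtPrime Rp p]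
    (H : ∀ (E0 : Type u) [CommRing E0] [Algebra A0 E0] [Algebra.Etale A0 E0] (q0 : Ideal E0)
      [q0.IsPrime] [q0.LiesOver p],
      ∀ P1 ∈ minimalPrimes E0, ∀ P2 ∈ minimalPrimes E0, P1 ≤ q0 → P2 ≤ q0 → P1 = P2) :
    CAlg2.IsGeomUnibranch Rp := by
  obtain ⟨Rsh, _, _, _, _, hsh⟩ := Groth.Agent.S0537.result Rp
  haveI := hsh
  have hI := Groth.Agent.H47.HensNoeth.isIndEtaleLocal_of_isStrictHenselization Rp Rsh
  letI : Algebra A0 Rsh := ((algebraMap Rp Rsh).comp (algebraMap A0 Rp)).toAlgebra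
  haveI : IsScalarTower A0 Rp Rsh := IsScalarTower.of_algebraMap_eq (fun _ => rfl)
  rw [Groth.Agent.S2135.result (A := Rp) (Ash := Rsh),
    ← Groth.Agent.H47.Unibranch.isPrime_nilradical_iff]
  apply isPrime_nilradical_of_forall_etale p Rp Rsh hI
  intro E0 _ _ _ φ0 P1 hP1 P2 hP2 h1 h2
  haveI : ((maximalIdeal Rsh).comap φ0.toRingHom).IsPrime := Ideal.comap_isPrime _ _
  haveI := liesOver_comap_maximalIdeal p Rp Rsh E0 φ0
  exact H E0 _ P1 hP1 P2 hP2 h1 h2

theorem minimalPrimes_unique_of_isGeomUnibranch {A E : Type u} [CommRing A] [CommRing E]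
    [Algebra A E] [Algebra.Etale A E]
    (p : Ideal A) [p.IsPrime] (Rp : Type u) [CommRing Rp] [IsLocalRing Rp] [Algebra A Rp]
    [IsLocalization.AtPrime Rp p]
    (hA : CAlg2.IsGeomUnibranch Rp) (q' : Ideal E) [q'.IsPrime] [q'.LiesOver p]
    (q1 : Ideal E) (hq1 : q1 ∈ minimalPrimes E) (q2 : Ideal E) (hq2 : q2 ∈ minimalPrimes E)
    (h1 : q1 ≤ q') (h2 : q2 ≤ q') : q1 = q2 := by
  classical
  obtain ⟨Rsh, _, _, _, _, hsh, ψ0, hψloc, hψinj, hψflat⟩ :=
    exists_map_to_strictHenselization p Rp q'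
  haveI := hsh
  obtain ⟨M0, hM0, hM0uniq⟩ := (Groth.Agent.S2135.result (A := Rp) (Ash := Rsh)).mp hA
  haveI : M0.IsPrime := hM0.1.1
  letI algL : Algebra (Localization.AtPrime q') Rsh := ψ0.toAlgebra
  haveI : IsLocalHom (algebraMap (Localization.AtPrime q') Rsh) := hψloc
  haveI : Module.Flat (Localization.AtPrime q') Rsh := hψflat
  haveI : Module.FaithfullyFlat (Localization.AtPrime q') Rsh :=
    Module.FaithfullyFlat.of_flat_of_isLocalHom
  let θ : E →+* Rsh :=
    (algebraMap (Localization.AtPrime q') Rsh).comp (algebraMap E (Localization.AtPrime q'))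
  let P0 : Ideal E := M0.comap θ
  haveI : P0.IsPrime := Ideal.comap_isPrime _ _
  have key : ∀ (q1 : Ideal E), q1 ∈ minimalPrimes E → q1 ≤ q' → P0 = q1 := by
    intro q1 hq1 h1
    haveI : q1.IsPrime := hq1.1.1
    have hdisj : Disjoint (q'.primeCompl : Set E) (q1 : Set E) := by
      rw [Set.disjoint_left]
      intro x hx hx1
      exact hx (h1 hx1)
    let Q1 : Ideal (Localization.AtPrime q') := q1.map (algebraMap E (Localization.AtPrime q'))
    haveI hQ1 : Q1.IsPrime :=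
      IsLocalization.isPrime_of_isPrime_disjoint q'.primeCompl _ q1 inferInstance hdisj
    have hQ1c : Q1.comap (algebraMap E (Localization.AtPrime q')) = q1 :=
      IsLocalization.under_map_of_isPrime_disjoint q'.primeCompl _ inferInstance hdisj
    obtain ⟨N1, hN1⟩ := PrimeSpectrum.comap_surjective_of_faithfullyFlat
      (A := Localization.AtPrime q') (B := Rsh) ⟨Q1, hQ1⟩
    have hN1' : N1.asIdeal.comap (algebraMap (Localization.AtPrime q') Rsh) = Q1 :=
      congrArg PrimeSpectrum.asIdeal hN1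
    obtain ⟨M, hM, hMle⟩ := Ideal.exists_minimalPrimes_le (I := ⊥) (J := N1.asIdeal) bot_le
    have hMM0 : M = M0 := hM0uniq M hM
    have hle : P0 ≤ q1 := by
      rw [← hQ1c, ← hN1']
      show Ideal.comap θ M0 ≤ Ideal.comap (algebraMap E _)
        (Ideal.comap (algebraMap _ Rsh) N1.asIdeal)
      rw [Ideal.comap_comap]
      exact Ideal.comap_mono (hMM0 ▸ hMle)
    exact le_antisymm hle (hq1.2 ⟨inferInstance, bot_le⟩ hle)
  exact (key q1 hq1 h1).symm.trans (key q2 hq2 h2)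

end Groth.Agent.H70.GeomUnibranchNbhd
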