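import Mathlib
import Groth.Agent.H70.BranchTop
import Groth.Agent.H70.GeomUnibranchNbhd

/-!
# Geometrically unibranch points and étale neighbourhoods (scheme level)
-/

set_option autoImplicit false
set_option linter.style.haveILetI false
universe u
open AlgebraicGeometry CategoryTheory TopologicalSpace

namespace Groth.Agent.H70.GeomUnibranchScheme

open Groth.Agent.H70.BranchTop Groth.Agent.H70.GeomUnibranchNbhd

variable {X : Scheme.{u}}

theorem encard_eq_one_of_isGeomUnibranch {U : Scheme.{u}} (g : U ⟶ X) (u : U) [Etale g]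
    (hX : CAlg2.IsGeomUnibranch (X.presheaf.stalk (g u))) :
    {Z : Set U | Z ∈ irreducibleComponents U ∧ u ∈ Z}.encard = 1 := by
  obtain ⟨V, hV, hxV, -⟩ :=
    exists_isAffineOpen_mem_and_subset (x := g u) (U := (⊤ : X.Opens)) trivial
  obtain ⟨W, hW, huW, hWV⟩ :=
    exists_isAffineOpen_mem_and_subset (x := u) (U := g ⁻¹ᵁ V) hxV
  have hEt : (g.appLE V W hWV).hom.Etale :=
    HasRingHomProperty.appLE (P := @Etale) g inferInstance ⟨V, hV⟩ ⟨W, hW⟩ hWV
  algebraize [(g.appLE V W hWV).hom]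
  let p := (hV.primeIdealOf ⟨g u, hWV huW⟩).asIdeal
  let q := (hW.primeIdealOf ⟨u, huW⟩).asIdeal
  haveI : q.LiesOver p :=
    ⟨congr($(IsAffineOpen.comap_primeIdealOf_appLE V hV W hW hWV huW).1).symm⟩
  letI algSt : Algebra Γ(X, V) (X.presheaf.stalk (g u)) :=
    TopCat.Presheaf.algebra_section_stalk X.presheaf (⟨g u, hWV huW⟩ : V)
  haveI : IsLocalization.AtPrime (X.presheaf.stalk (g u)) p :=
    hV.isLocalization_stalk ⟨g u, hWV huW⟩
  apply encard_eq_one_of_minimalPrimes_unique u hW huW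
  intro P1 hP1 P2 hP2 h1 h2
  exact minimalPrimes_unique_of_isGeomUnibranch p (X.presheaf.stalk (g u)) hX q P1 hP1 P2 hP2 h1 h2

theorem isGeomUnibranch_of_forall_encard_eq_one (x : X)
    (H : ∀ (U : Scheme.{u}) (g : U ⟶ X) (u : U), Etale g → g u = x →
      {Z : Set ↑U | Z ∈ irreducibleComponents ↑U ∧ u ∈ Z}.encard = 1) :
    CAlg2.IsGeomUnibranch (X.presheaf.stalk x) := by
  obtain ⟨V, hV, hxV, -⟩ :=
    exists_isAffineOpen_mem_and_subset (x := x) (U := (⊤ : X.Opens)) trivial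
  let p := (hV.primeIdealOf ⟨x, hxV⟩).asIdeal
  letI algSt : Algebra Γ(X, V) (X.presheaf.stalk x) :=
    TopCat.Presheaf.algebra_section_stalk X.presheaf (⟨x, hxV⟩ : V)
  haveI : IsLocalization.AtPrime (X.presheaf.stalk x) p :=
    hV.isLocalization_stalk ⟨x, hxV⟩
  apply isGeomUnibranch_of_forall_etale p (X.presheaf.stalk x)
  intro E0 _ _ _ q0 _ _ P1 hP1 P2 hP2 h1 h2
  let φ : CommRingCat.of Γ(X, V) ⟶ CommRingCat.of E0 := CommRingCat.ofHom (algebraMap Γ(X, V) E0)
  haveI : Etale (Spec.map φ) := by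
    rw [HasRingHomProperty.Spec_iff (P := @Etale)]
    exact RingHom.etale_algebraMap.mpr inferInstance
  haveI : IsOpenImmersion hV.fromSpec := hV.isOpenImmersion_fromSpec
  let g : Spec (CommRingCat.of E0) ⟶ X := Spec.map φ ≫ hV.fromSpec
  let u : ↥(Spec (CommRingCat.of E0)) := (⟨q0, inferInstance⟩ : PrimeSpectrum E0)
  have hgu : g u = x := by
    have h3 : (Spec.map φ) u = hV.primeIdealOf ⟨x, hxV⟩ := by
      apply PrimeSpectrum.ext
      show Ideal.comap (algebraMap Γ(X, V) E0) q0 = p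
      exact (Ideal.over_def q0 p).symm
    show hV.fromSpec ((Spec.map φ) u) = x
    rw [h3]
    exact hV.fromSpec_primeIdealOf ⟨x, hxV⟩
  have h4 := H _ g u inferInstance hgu
  exact minimalPrimes_unique_of_encard_eq_one (R := E0) ⟨q0, inferInstance⟩ h4 P1 hP1 P2 hP2 h1 h2

end Groth.Agent.H70.GeomUnibranchScheme
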