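import Mathlib
import Groth.Prelude.Def_CAlg2

/-!
# Integral birational extensions of a geometrically unibranch local ring (ring level)

`main`: let `φ : R → R'` be an integral ring map, `R` local and geometrically unibranch, such that
`nilradical R'` is prime, contracts to `nilradical R`, and `R'/nil` is "birational" over `R/nil`.
Then `R'` is local, geometrically unibranch, and its residue field is purely inseparable over that
of `R`.
(`transport_insep`, `ringExpChar_eq_of_injective`, `isGeomUnibranch_iff` are small lemmas in the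
style of helper23's / helper69's libraries, restated here to keep the import closure small.)
-/

set_option autoImplicit false
set_option linter.style.haveILetI false
set_option linter.unusedSectionVars false
set_option linter.unusedVariables false
universe u
open IsLocalRing

namespace Groth.Agent.H70.IntBirRing

theorem ringExpChar_eq_of_injective {R S : Type*} [NonAssocSemiring R] [NonAssocSemiring S]
    (f : R →+* S) (hf : Function.Injective f) : ringExpChar S = ringExpChar R := by
  haveI : CharP R (ringChar R) := ringChar.charP R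
  haveI : CharP S (ringChar R) := charP_of_injective_ringHom hf (ringChar R)
  have h : ringChar S = ringChar R := ringChar.eq S (ringChar R)
  unfold ringExpChar
  rw [h]

/-- Transport of the radicial-residue-field condition along a ring isomorphism. -/
theorem transport_insep {X N E : Type*} [CommRing X] [CommRing N] [CommRing E] (φ : N ≃+* E)
    (f : X →+* N) (g : X →+* E) (hφ : ∀ x, φ (f x) = g x)
    (H : ∀ (m' : Ideal N) [m'.IsMaximal] (y : N ⧸ m'), ∃ n : ℕ,
      y ^ (ringExpChar (N ⧸ m')) ^ n ∈ ((Ideal.Quotient.mk m').comp f).range) :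
    ∀ (M : Ideal E) [M.IsMaximal] (y : E ⧸ M), ∃ n : ℕ,
      y ^ (ringExpChar (E ⧸ M)) ^ n ∈ ((Ideal.Quotient.mk M).comp g).range := by
  intro M hM y
  have hmap : M = (M.comap (φ : N →+* E)).map (φ : N →+* E) :=
    (Ideal.map_comap_of_surjective _ φ.surjective M).symm
  haveI hm' : (M.comap (φ : N →+* E)).IsMaximal :=
    Ideal.comap_isMaximal_of_surjective _ φ.surjective
  let ψ : N ⧸ M.comap (φ : N →+* E) ≃+* E ⧸ M := Ideal.quotientEquiv _ M φ hmap
  obtain ⟨n, x, hx⟩ := H (M.comap (φ : N →+* E)) (ψ.symm y)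
  have hp : ringExpChar (E ⧸ M) = ringExpChar (N ⧸ M.comap (φ : N →+* E)) :=
    ringExpChar_eq_of_injective ψ.toRingHom ψ.injective
  refine ⟨n, x, ?_⟩
  rw [hp]
  have h1 := congrArg ψ hx
  rw [map_pow, ψ.apply_symm_apply] at h1
  rw [← h1, RingHom.comp_apply, RingHom.comp_apply]
  show _ = (Ideal.quotientEquiv _ M φ hmap) _
  rw [Ideal.quotientEquiv_mk, hφ]

theorem isGeomUnibranch_iff (R : Type u) [CommRing R] [IsLocalRing R]
    (hd : IsDomain (CAlg2.red R)) : CAlg2.IsGeomUnibranch R ↔
    (IsLocalRing (CAlg2.normRed R) ∧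
      ∀ (m' : Ideal (CAlg2.normRed R)) [m'.IsMaximal]
        (x : CAlg2.normRed R ⧸ m'), ∃ n : ℕ,
        x ^ (ringExpChar (CAlg2.normRed R ⧸ m')) ^ n ∈
          ((Ideal.Quotient.mk m').comp (algebraMap (CAlg2.red R) (CAlg2.normRed R))).range) := by
  constructor
  · rintro ⟨⟨_, hloc⟩, hres⟩
    refine ⟨hloc, fun m' _ x => ?_⟩
    obtain ⟨n, r, hr⟩ := hres m' x
    exact ⟨n, Ideal.Quotient.mk _ r, hr⟩
  · rintro ⟨hloc, hres⟩
    refine ⟨⟨hd, hloc⟩, fun m' _ x => ?_⟩
    obtain ⟨n, r', hr⟩ := hres m' x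
    obtain ⟨r, rfl⟩ := Ideal.Quotient.mk_surjective r'
    exact ⟨n, r, hr⟩

section Main

variable {R R' : Type u} [CommRing R] [IsLocalRing R] [CommRing R'] (φ : R →+* R')

/-- The comparison of normalizations. -/
theorem exists_normRed_equiv (hint : φ.IsIntegral) (hD : IsDomain (CAlg2.red R))
    (hq : (nilradical R').IsPrime)
    (hcomap : (nilradical R').comap φ = nilradical R)
    (hfrac : ∀ b : R', ∃ a s : R, s ∉ nilradical R ∧ φ s * b - φ a ∈ nilradical R') :
    ∃ ψ : CAlg2.normRed R ≃+* CAlg2.normRed R', ∀ r : R,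
      ψ (algebraMap (CAlg2.red R) (CAlg2.normRed R) (Ideal.Quotient.mk _ r)) =
        algebraMap (CAlg2.red R') (CAlg2.normRed R') (Ideal.Quotient.mk _ (φ r)) := by
  haveI : IsDomain (CAlg2.red R') := Ideal.Quotient.isDomain _
  have hle : nilradical R ≤ (nilradical R').comap φ := hcomap.ge
  let φb : CAlg2.red R →+* CAlg2.red R' := Ideal.quotientMap (nilradical R') φ hle
  have hφb : ∀ r : R, φb (Ideal.Quotient.mk _ r) = Ideal.Quotient.mk _ (φ r) :=
    fun r => Ideal.quotientMap_mk
  have hinj : Function.Injective φb := Ideal.quotientMap_injective' hcomap.le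
  letI algDD' : Algebra (CAlg2.red R) (CAlg2.red R') := φb.toAlgebra
  have hK : ∀ d : CAlg2.red R, algebraMap (CAlg2.red R) (FractionRing (CAlg2.red R')) d =
      algebraMap (CAlg2.red R') (FractionRing (CAlg2.red R')) (φb d) := fun d =>
    IsScalarTower.algebraMap_apply (CAlg2.red R) (CAlg2.red R') (FractionRing (CAlg2.red R')) d
  haveI hintA : Algebra.IsIntegral (CAlg2.red R) (CAlg2.red R') := by
    constructor
    intro e
    obtain ⟨b, rfl⟩ := Ideal.Quotient.mk_surjective e
    obtain ⟨p, hp, hpe⟩ := hint b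
    refine ⟨p.map (Ideal.Quotient.mk (nilradical R)), hp.map _, ?_⟩
    rw [Polynomial.eval₂_map]
    have h1 : (algebraMap (CAlg2.red R) (CAlg2.red R')).comp (Ideal.Quotient.mk (nilradical R)) =
        (Ideal.Quotient.mk (nilradical R')).comp φ := RingHom.ext hφb
    rw [h1, ← Polynomial.hom_eval₂, hpe, map_zero]
  haveI : FaithfulSMul (CAlg2.red R) (FractionRing (CAlg2.red R')) := by
    rw [faithfulSMul_iff_algebraMap_injective]
    intro a b hab
    rw [hK, hK] at hab
    exact hinj (IsFractionRing.injective (CAlg2.red R') (FractionRing (CAlg2.red R')) hab)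
  have hfracb : ∀ e : CAlg2.red R', ∃ a s : CAlg2.red R, s ≠ 0 ∧ φb s * e = φb a := by
    intro e
    obtain ⟨b, rfl⟩ := Ideal.Quotient.mk_surjective e
    obtain ⟨a, s, hs, h⟩ := hfrac b
    refine ⟨Ideal.Quotient.mk _ a, Ideal.Quotient.mk _ s, ?_, ?_⟩
    · intro h0
      exact hs (Ideal.Quotient.eq_zero_iff_mem.mp h0)
    · rw [hφb, hφb, ← map_mul, ← sub_eq_zero, ← map_sub]
      exact Ideal.Quotient.eq_zero_iff_mem.mpr h
  haveI : IsFractionRing (CAlg2.red R) (FractionRing (CAlg2.red R')) := by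
    apply IsFractionRing.of_field
    intro z
    obtain ⟨e1, e2, he2, rfl⟩ :=
      IsFractionRing.div_surjective (CAlg2.red R') (K := FractionRing (CAlg2.red R')) z
    obtain ⟨a1, s1, hs1, h1⟩ := hfracb e1
    obtain ⟨a2, s2, hs2, h2⟩ := hfracb e2
    have he2' : e2 ≠ 0 := nonZeroDivisors.ne_zero he2
    refine ⟨a1 * s2, a2 * s1, ?_⟩
    have hne : ∀ d : CAlg2.red R', d ≠ 0 →
        algebraMap (CAlg2.red R') (FractionRing (CAlg2.red R')) d ≠ 0 := fun d hd h =>
      hd (IsFractionRing.injective (CAlg2.red R') (FractionRing (CAlg2.red R'))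
        (h.trans (map_zero _).symm))
    have hs1' : φb s1 ≠ 0 := fun h => hs1 (hinj (h.trans (map_zero _).symm))
    have hs2' : φb s2 ≠ 0 := fun h => hs2 (hinj (h.trans (map_zero _).symm))
    have t1 : φb (a1 * s2) = φb s1 * e1 * φb s2 := by rw [map_mul, h1]
    have t2 : φb (a2 * s1) = φb s2 * e2 * φb s1 := by rw [map_mul, h2]
    rw [hK, hK, t1, t2, map_mul, map_mul, map_mul, map_mul]
    have n1 := hne _ hs1'
    have n2 := hne _ hs2'
    have n3 := hne _ he2'
    field_simp
  let ψ₁ : FractionRing (CAlg2.red R) ≃ₐ[CAlg2.red R] FractionRing (CAlg2.red R') :=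
    FractionRing.algEquiv (CAlg2.red R) (FractionRing (CAlg2.red R'))
  let e1 : CAlg2.normRed R ≃ₐ[CAlg2.red R]
      integralClosure (CAlg2.red R) (FractionRing (CAlg2.red R')) :=
    AlgEquiv.mapIntegralClosure ψ₁
  let e2 : integralClosure (CAlg2.red R) (FractionRing (CAlg2.red R')) ≃+* CAlg2.normRed R' :=
    { toFun := fun x => ⟨x.1, x.2.tower_top⟩
      invFun := fun y => ⟨y.1, isIntegral_trans y.1 y.2⟩
      left_inv := fun x => rfl
      right_inv := fun y => rfl
      map_mul' := fun x y => rfl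
      map_add' := fun x y => rfl }
  refine ⟨e1.toRingEquiv.trans e2, fun r => ?_⟩
  show e2 (e1 (algebraMap (CAlg2.red R) (CAlg2.normRed R) (Ideal.Quotient.mk _ r))) = _
  rw [e1.commutes]
  apply Subtype.ext
  show algebraMap (CAlg2.red R) (FractionRing (CAlg2.red R')) (Ideal.Quotient.mk _ r) =
    algebraMap (CAlg2.red R') (FractionRing (CAlg2.red R')) (Ideal.Quotient.mk _ (φ r))
  rw [hK, hφb]

/-- Main ring-level statement. -/
theorem main (hint : φ.IsIntegral) (hq : (nilradical R').IsPrime)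
    (hcomap : (nilradical R').comap φ = nilradical R)
    (hfrac : ∀ b : R', ∃ a s : R, s ∉ nilradical R ∧ φ s * b - φ a ∈ nilradical R')
    (hGU : CAlg2.IsGeomUnibranch R) :
    ∃ (_ : IsLocalRing R'), CAlg2.IsGeomUnibranch R' ∧
      ∀ x : ResidueField R', ∃ (n : ℕ) (r : R),
        x ^ (ringExpChar (ResidueField R')) ^ n = residue R' (φ r) := by
  have hD : IsDomain (CAlg2.red R) := hGU.1.1
  haveI hNloc : IsLocalRing (CAlg2.normRed R) := hGU.1.2
  haveI hD' : IsDomain (CAlg2.red R') := Ideal.Quotient.isDomain _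
  obtain ⟨ψ, hψ⟩ := exists_normRed_equiv φ hint hD hq hcomap hfrac
  haveI hN'loc : IsLocalRing (CAlg2.normRed R') := ψ.isLocalRing
  let c : R' →+* CAlg2.normRed R' :=
    (algebraMap (CAlg2.red R') (CAlg2.normRed R')).comp (Ideal.Quotient.mk (nilradical R'))
  have hcint : c.IsIntegral :=
    RingHom.IsIntegral.trans _ _ (RingHom.isIntegral_of_surjective _ Ideal.Quotient.mk_surjective)
      (algebraMap_isIntegral_iff.mpr inferInstance)
  have hcker : RingHom.ker c = nilradical R' := by
    ext x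
    rw [RingHom.mem_ker]
    show algebraMap (CAlg2.red R') (CAlg2.normRed R') (Ideal.Quotient.mk _ x) = 0 ↔ _
    rw [map_eq_zero_iff _ (FaithfulSMul.algebraMap_injective (CAlg2.red R') (CAlg2.normRed R')),
      Ideal.Quotient.eq_zero_iff_mem]
  haveI : Nontrivial R' :=
    ⟨0, 1, fun h => hq.ne_top ((Ideal.eq_top_iff_one _).mpr (h ▸ (nilradical R').zero_mem))⟩
  have hmax : ∀ M : Ideal R', M.IsMaximal →
      M = (maximalIdeal (CAlg2.normRed R')).comap c := by
    intro M hM
    letI : Algebra R' (CAlg2.normRed R') := c.toAlgebra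
    haveI : Algebra.IsIntegral R' (CAlg2.normRed R') := ⟨hcint⟩
    have hle : RingHom.ker (algebraMap R' (CAlg2.normRed R')) ≤ M := by
      show RingHom.ker c ≤ M
      rw [hcker]; exact nilradical_le_prime M
    obtain ⟨Q, hQ, hQM⟩ := Ideal.exists_ideal_over_maximal_of_isIntegral M hle
    rw [← hQM, IsLocalRing.eq_maximalIdeal hQ]
    rfl
  obtain ⟨M₀, hM₀⟩ := Ideal.exists_maximal R'
  have hloc : IsLocalRing R' := IsLocalRing.of_unique_max_ideal
    ⟨M₀, hM₀, fun M hM => (hmax M hM).trans (hmax M₀ hM₀).symm⟩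
  have H := transport_insep ψ
    ((algebraMap (CAlg2.red R) (CAlg2.normRed R)).comp (Ideal.Quotient.mk (nilradical R)))
    (c.comp φ) (fun r => hψ r) (fun m' _ y => hGU.2 m' y)
  refine ⟨hloc, ?_, ?_⟩
  · rw [isGeomUnibranch_iff R' hD']
    refine ⟨hN'loc, ?_⟩
    intro m' _ x
    obtain ⟨n, r, hr⟩ := H m' x
    exact ⟨n, Ideal.Quotient.mk _ (φ r), hr⟩
  · intro x
    obtain ⟨b, rfl⟩ := residue_surjective x
    obtain ⟨n, r, hr⟩ := H (maximalIdeal (CAlg2.normRed R'))
      (Ideal.Quotient.mk (maximalIdeal (CAlg2.normRed R')) (c b))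
    have hcomap_c : (maximalIdeal (CAlg2.normRed R')).comap c = maximalIdeal R' :=
      (hmax _ (maximalIdeal.isMaximal R')).symm
    let ι : ResidueField R' →+* CAlg2.normRed R' ⧸ maximalIdeal (CAlg2.normRed R') :=
      Ideal.quotientMap (maximalIdeal (CAlg2.normRed R')) c (le_of_eq hcomap_c.symm)
    have hι : ∀ y : R', ι (residue R' y) = Ideal.Quotient.mk _ (c y) := fun y =>
      Ideal.quotientMap_mk
    have hιinj : Function.Injective ι := ι.injective
    have hp : ringExpChar (CAlg2.normRed R' ⧸ maximalIdeal (CAlg2.normRed R')) =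
        ringExpChar (ResidueField R') := ringExpChar_eq_of_injective ι hιinj
    refine ⟨n, r, hιinj ?_⟩
    rw [map_pow, hι, hι, ← hp, ← hr]
    rfl

end Main

end Groth.Agent.H70.IntBirRing
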