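import Mathlib
import Groth.Agent.H70.BranchTop

/-!
# Counting irreducible components through a point via minimal primes
-/

set_option autoImplicit false
set_option linter.style.haveILetI false
set_option linter.unusedSectionVars false
universe u
open AlgebraicGeometry CategoryTheory TopologicalSpace

namespace Groth.Agent.H70.BranchTop

section Top

variable {Y : Type*} [TopologicalSpace Y]

theorem encard_irreducibleComponents_eq [QuasiSober Y] [T0Space Y] (u : Y) :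
    {Z : Set Y | Z ∈ irreducibleComponents Y ∧ u ∈ Z}.encard =
      {ξ : Y | ξ ∈ maxPtsTop Y ∧ ξ ⤳ u}.encard := by
  have himg : (fun ξ : Y => closure ({ξ} : Set Y)) '' {ξ : Y | ξ ∈ maxPtsTop Y ∧ ξ ⤳ u} =
      {Z : Set Y | Z ∈ irreducibleComponents Y ∧ u ∈ Z} := by
    ext Z
    constructor
    · rintro ⟨ξ, ⟨hξ, hξu⟩, rfl⟩
      exact ⟨closure_mem_irreducibleComponents hξ, specializes_iff_mem_closure.mp hξu⟩
    · rintro ⟨hZ, huZ⟩
      obtain ⟨ξ, hξ, he⟩ := exists_maxPtsTop_closure_eq hZ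
      exact ⟨ξ, ⟨hξ, specializes_iff_mem_closure.mpr (he ▸ huZ)⟩, he⟩
  have hinj : Set.InjOn (fun ξ : Y => closure ({ξ} : Set Y))
      {ξ : Y | ξ ∈ maxPtsTop Y ∧ ξ ⤳ u} := by
    rintro ξ ⟨hξ, -⟩ ξ' ⟨hξ', -⟩ h
    have h2 : closure ({ξ} : Set Y) = closure {ξ'} := h
    exact hξ' ξ (specializes_iff_closure_subset.mpr h2.ge)
  rw [← himg, hinj.encard_image]

end Top

theorem mem_maxPtsTop_primeSpectrum_iff {R : Type u} [CommRing R] {ξ : PrimeSpectrum R} :
    ξ ∈ maxPtsTop (PrimeSpectrum R) ↔ ξ.asIdeal ∈ minimalPrimes R := by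
  refine ⟨fun h => ⟨⟨ξ.2, bot_le⟩, ?_⟩, mem_maxPtsTop_primeSpectrum⟩
  rintro q ⟨hq, -⟩ hle
  have h1 : (⟨q, hq⟩ : PrimeSpectrum R) ⤳ ξ := (PrimeSpectrum.le_iff_specializes _ _).mp hle
  have h2 := h _ h1
  rw [← h2]

/-- On `Spec R`, the number of irreducible components through `u` is the number of minimal
primes below `u`. -/
theorem encard_primeSpectrum {R : Type u} [CommRing R] (u : PrimeSpectrum R) :
    {Z : Set (PrimeSpectrum R) | Z ∈ irreducibleComponents (PrimeSpectrum R) ∧ u ∈ Z}.encard =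
      {P : Ideal R | P ∈ minimalPrimes R ∧ P ≤ u.asIdeal}.encard := by
  rw [encard_irreducibleComponents_eq]
  have himg : PrimeSpectrum.asIdeal '' {ξ : PrimeSpectrum R | ξ ∈ maxPtsTop _ ∧ ξ ⤳ u} =
      {P : Ideal R | P ∈ minimalPrimes R ∧ P ≤ u.asIdeal} := by
    ext P
    constructor
    · rintro ⟨ξ, ⟨hξ, hξu⟩, rfl⟩
      exact ⟨mem_maxPtsTop_primeSpectrum_iff.mp hξ, (PrimeSpectrum.le_iff_specializes _ _).mpr hξu⟩
    · rintro ⟨hP, hPu⟩
      exact ⟨⟨P, hP.1.1⟩, ⟨mem_maxPtsTop_primeSpectrum hP,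
        (PrimeSpectrum.le_iff_specializes _ _).mp hPu⟩, rfl⟩
  rw [← himg, Set.InjOn.encard_image]
  intro a _ b _ h
  exact PrimeSpectrum.ext h

open Groth.Agent.H70.LocDomain Groth.Agent.H70.UnramUnibranchScheme in
/-- On a scheme, the number of irreducible components through `u` is the number of minimal primes
of an affine chart below the prime of `u`. -/
theorem encard_scheme {U : Scheme.{u}} (u : U) {W : U.Opens} (hW : IsAffineOpen W) (huW : u ∈ W) :
    {Z : Set U | Z ∈ irreducibleComponents U ∧ u ∈ Z}.encard =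
      {P : Ideal Γ(U, W) | P ∈ minimalPrimes Γ(U, W) ∧
        P ≤ (hW.primeIdealOf ⟨u, huW⟩).asIdeal}.encard := by
  rw [encard_irreducibleComponents_eq]
  let T : Set (PrimeSpectrum Γ(U, W)) :=
    {𝔓 | 𝔓.asIdeal ∈ minimalPrimes Γ(U, W) ∧ 𝔓.asIdeal ≤ (hW.primeIdealOf ⟨u, huW⟩).asIdeal}
  have h1 : (fun 𝔓 => hW.fromSpec 𝔓) '' T = {ξ : U | ξ ∈ maxPtsTop U ∧ ξ ⤳ u} := by
    ext ξ
    constructor
    · rintro ⟨𝔓, ⟨hmin, hle⟩, rfl⟩
      have hmem := fromSpec_mem hW 𝔓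
      have e := primeIdealOf_fromSpec hW 𝔓 hmem
      refine ⟨?_, ?_⟩
      · show hW.fromSpec 𝔓 ∈ maxPts U
        rw [mem_maxPts_iff hW hmem, e]
        exact hmin
      · apply specializes_of_primeIdealOf_le hW huW hmem
        rw [e]
        exact hle
    · rintro ⟨hξ, hξu⟩
      have hξW : ξ ∈ W := hξu.mem_open W.isOpen huW
      refine ⟨hW.primeIdealOf ⟨ξ, hξW⟩, ⟨(mem_maxPts_iff hW hξW).mp hξ,
        primeIdealOf_le_of_specializes hW hξu huW hξW⟩, hW.fromSpec_primeIdealOf ⟨ξ, hξW⟩⟩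
  have h2 : PrimeSpectrum.asIdeal '' T = {P : Ideal Γ(U, W) | P ∈ minimalPrimes Γ(U, W) ∧
        P ≤ (hW.primeIdealOf ⟨u, huW⟩).asIdeal} := by
    ext P
    constructor
    · rintro ⟨𝔓, h𝔓, rfl⟩
      exact h𝔓
    · rintro ⟨hP, hPu⟩
      exact ⟨⟨P, hP.1.1⟩, ⟨hP, hPu⟩, rfl⟩
  have i1 : Set.InjOn (fun 𝔓 => hW.fromSpec 𝔓) T := fun a _ b _ h =>
    hW.fromSpec.isOpenEmbedding.injective h
  have i2 : Set.InjOn PrimeSpectrum.asIdeal T := fun a _ b _ h => PrimeSpectrum.ext h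
  rw [← h1, ← h2, i1.encard_image, i2.encard_image]
  rfl

end Groth.Agent.H70.BranchTop
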