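import Mathlib
import Groth.Prelude.Def_EGA4Misc
import Groth.Agent.H70.Birational
import Groth.Agent.H70.BranchCount

/-!
# Birationality of `Spec R' ⟶ Spec R` in ring terms
-/

set_option autoImplicit false
set_option linter.style.haveILetI false
universe u
open AlgebraicGeometry CategoryTheory TopologicalSpace IsLocalRing

namespace Groth.Agent.H70.IntBirSpec

open Groth.Agent.H70.BranchTop Groth.Agent.H70.Birational

section Ev

variable (A : CommRingCat.{u}) (x : Spec A)

/-- Evaluation of a ring element at a point of the spectrum. -/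
noncomputable def ev : A →+* (Spec A).residueField x :=
  ((Scheme.ΓSpecIso A).inv ≫ (Spec A).Γevaluation x).hom

theorem ev_eq_zero_iff (a : A) : ev A x a = 0 ↔ a ∈ x.asIdeal := by
  have h1 : ev A x a = (Spec A).evaluation ⊤ x trivial ((Scheme.ΓSpecIso A).inv a) := rfl
  rw [h1, Scheme.evaluation_eq_zero_iff_notMem_basicOpen, basicOpen_eq_of_affine]
  show ¬ (a ∉ x.asIdeal) ↔ a ∈ x.asIdeal
  exact not_not

theorem exists_ev_frac (c : (Spec A).residueField x) :
    ∃ a s : A, s ∉ x.asIdeal ∧ c * ev A x s = ev A x a := by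
  have hT : IsAffineOpen (⊤ : (Spec A).Opens) := isAffineOpen_top _
  letI algSt : Algebra Γ(Spec A, ⊤) ((Spec A).presheaf.stalk x) :=
    TopCat.Presheaf.algebra_section_stalk (Spec A).presheaf (⟨x, trivial⟩ : (⊤ : (Spec A).Opens))
  haveI : IsLocalization.AtPrime ((Spec A).presheaf.stalk x)
      (hT.primeIdealOf ⟨x, trivial⟩).asIdeal := hT.isLocalization_stalk ⟨x, trivial⟩
  obtain ⟨t, rfl⟩ := (Spec A).residue_surjective x c
  obtain ⟨⟨a', s'⟩, hts⟩ := IsLocalization.surj (hT.primeIdealOf ⟨x, trivial⟩).asIdeal.primeCompl t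
  have hunit : IsUnit (algebraMap Γ(Spec A, ⊤) ((Spec A).presheaf.stalk x) s'.1) :=
    IsLocalization.map_units _ s'
  obtain ⟨a, rfl⟩ : ∃ a : A, (Scheme.ΓSpecIso A).inv a = a' :=
    ⟨(Scheme.ΓSpecIso A).hom a', by simp⟩
  obtain ⟨s, hs⟩ : ∃ s : A, (Scheme.ΓSpecIso A).inv s = s'.1 :=
    ⟨(Scheme.ΓSpecIso A).hom s'.1, by simp⟩
  have hevs : ev A x s = (Spec A).residue x
      (algebraMap Γ(Spec A, ⊤) ((Spec A).presheaf.stalk x) s'.1) := by
    rw [← hs]; rfl
  have heva : ev A x a = (Spec A).residue x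
      (algebraMap Γ(Spec A, ⊤) ((Spec A).presheaf.stalk x) ((Scheme.ΓSpecIso A).inv a)) := rfl
  refine ⟨a, s, ?_, ?_⟩
  · intro hsx
    have h0 : ev A x s = 0 := (ev_eq_zero_iff A x s).mpr hsx
    rw [hevs] at h0
    have hu : IsUnit ((Spec A).residue x
        (algebraMap Γ(Spec A, ⊤) ((Spec A).presheaf.stalk x) s'.1)) := hunit.map _
    exact hu.ne_zero h0
  · rw [hevs, heva, ← map_mul]
    exact congrArg _ hts

end Ev

theorem ev_naturality {R R' : CommRingCat.{u}} (φ : R ⟶ R') (x' : Spec R') (a : R) :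
    (Spec.map φ).residueFieldMap x' (ev R ((Spec.map φ) x') a) = ev R' x' (φ a) := by
  have h1 : ev R ((Spec.map φ) x') a =
      (Spec R).Γevaluation ((Spec.map φ) x') ((Scheme.ΓSpecIso R).inv a) := rfl
  have h2 : ev R' x' (φ a) = (Spec R').Γevaluation x' ((Scheme.ΓSpecIso R').inv (φ a)) := rfl
  rw [h1, h2, Scheme.Γevaluation_naturality_apply]
  congr 1
  have := congrArg (fun f => f.hom a) (Scheme.ΓSpecIso_inv_naturality φ)
  exact this.symm

/-- Ring-level consequences of birationality of `Spec R' ⟶ Spec R` when `Spec R` is irreducible. -/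
theorem ring_facts {R R' : Type u} [CommRing R] [CommRing R'] (φ : R →+* R')
    (hp : (nilradical R).IsPrime)
    (hbir : RadPt.IsBirational (Spec.map (CommRingCat.ofHom φ))) :
    (nilradical R').IsPrime ∧ (nilradical R').comap φ = nilradical R ∧
      ∀ b : R', ∃ a s : R, s ∉ nilradical R ∧ φ s * b - φ a ∈ nilradical R' := by
  obtain ⟨hbij, hpt⟩ := hbir
  rw [genericPoints_eq_maxPtsTop, genericPoints_eq_maxPtsTop] at hbij
  rw [genericPoints_eq_maxPtsTop] at hpt
  -- the unique minimal prime of `R`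
  have hmin : ∀ P : Ideal R, P ∈ minimalPrimes R → P = nilradical R := by
    intro P hP
    haveI := hP.1.1
    exact le_antisymm (hP.2 ⟨hp, bot_le⟩ (nilradical_le_prime P)) (nilradical_le_prime P)
  have hnilmin : nilradical R ∈ minimalPrimes R := by
    refine ⟨⟨hp, bot_le⟩, fun Q hQ _ => ?_⟩
    haveI := hQ.1
    exact nilradical_le_prime Q
  let P : Spec (CommRingCat.of R) := (⟨nilradical R, hp⟩ : PrimeSpectrum R)
  have hP : P ∈ maxPtsTop (Spec (CommRingCat.of R)) :=
    (mem_maxPtsTop_primeSpectrum_iff (R := R) (ξ := (⟨nilradical R, hp⟩ : PrimeSpectrum R))).mpr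
      hnilmin
  obtain ⟨Q, hQ, hQP⟩ := hbij.surjOn hP
  have hQmin : (Q : PrimeSpectrum R').asIdeal ∈ minimalPrimes R' :=
    (mem_maxPtsTop_primeSpectrum_iff (R := R') (ξ := (Q : PrimeSpectrum R'))).mp hQ
  have hQcomap : (Q : PrimeSpectrum R').asIdeal.comap φ = nilradical R := by
    have := congrArg PrimeSpectrum.asIdeal hQP
    exact this
  -- every minimal prime of `R'` is `Q`
  have hall : ∀ q : Ideal R', q ∈ minimalPrimes R' → q = (Q : PrimeSpectrum R').asIdeal := by
    intro q hq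
    let Q' : Spec (CommRingCat.of R') := (⟨q, hq.1.1⟩ : PrimeSpectrum R')
    have hQ' : Q' ∈ maxPtsTop (Spec (CommRingCat.of R')) :=
      (mem_maxPtsTop_primeSpectrum_iff (R := R') (ξ := (⟨q, hq.1.1⟩ : PrimeSpectrum R'))).mpr hq
    have h1 := hbij.mapsTo hQ'
    have h2 : ((Spec.map (CommRingCat.ofHom φ)) Q' : PrimeSpectrum R).asIdeal ∈ minimalPrimes R :=
      (mem_maxPtsTop_primeSpectrum_iff (R := R)).mp h1
    have h3 : (Spec.map (CommRingCat.ofHom φ)) Q' = P := PrimeSpectrum.ext (hmin _ h2)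
    have h4 : Q' = Q := hbij.injOn hQ' hQ (h3.trans hQP.symm)
    exact congrArg PrimeSpectrum.asIdeal h4
  have hnil' : nilradical R' = (Q : PrimeSpectrum R').asIdeal := by
    have h1 : minimalPrimes R' = {(Q : PrimeSpectrum R').asIdeal} := by
      ext q
      exact ⟨fun hq => hall q hq, fun hq => hq ▸ hQmin⟩
    have h2 : sInf (minimalPrimes R') = nilradical R' := by
      show sInf (⊥ : Ideal R').minimalPrimes = _
      rw [Ideal.sInf_minimalPrimes]; rfl
    rw [← h2, h1, sInf_singleton]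
  refine ⟨hnil' ▸ (Q : PrimeSpectrum R').2, by rw [hnil', hQcomap], fun b => ?_⟩
  -- the fraction condition
  have hres := (hpt P hP).2 Q hQP
  obtain ⟨c, hc⟩ := hres.2 (ev (CommRingCat.of R') Q b)
  obtain ⟨a, s, hs, hcs⟩ := exists_ev_frac (CommRingCat.of R)
    ((Spec.map (CommRingCat.ofHom φ)) Q) c
  refine ⟨a, s, ?_, ?_⟩
  · intro hs'
    apply hs
    rw [hQP]
    exact hs'
  · rw [hnil', ← ev_eq_zero_iff (CommRingCat.of R') Q]
    have h1 := congrArg ((Spec.map (CommRingCat.ofHom φ)).residueFieldMap Q).hom hcs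
    rw [map_mul] at h1
    have e1 := ev_naturality (CommRingCat.ofHom φ) Q s
    have e2 := ev_naturality (CommRingCat.ofHom φ) Q a
    have h2 : ev (CommRingCat.of R') Q b * ev (CommRingCat.of R') Q (φ s) =
        ev (CommRingCat.of R') Q (φ a) := by
      rw [← hc]
      exact (congrArg₂ (· * ·) rfl e1.symm).trans (h1.trans e2)
    rw [map_sub, map_mul, mul_comm, h2, sub_self]

end Groth.Agent.H70.IntBirSpec
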