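import Mathlib
import Groth.Agent.S9407
import Groth.Agent.H49.UnramFibre
import Groth.Agent.H70.LocDomain
import Groth.Agent.H70.UnramUnibranchGlobal

/-!
# Quasi-finite dominant morphisms with smooth fibres in characteristic zero over a
geometrically unibranch base are étale
-/

set_option autoImplicit false
set_option linter.style.haveILetI false
universe u
open AlgebraicGeometry CategoryTheory Limits TopologicalSpace

namespace Groth.Agent.H70.SmoothQF

theorem formallyUnramified_of_smooth_quasiFinite (K A : Type u) [Field K] [CharZero K]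
    [CommRing A] [Algebra K A] [Algebra.Smooth K A] [Algebra.QuasiFinite K A] :
    Algebra.FormallyUnramified K A := by
  haveI : Module.Finite K A := Module.Finite.of_quasiFinite
  haveI : IsReduced A := Groth.Agent.S9407.result K A
  haveI : IsArtinianRing A := IsArtinianRing.of_finite K A
  haveI : Algebra.FiniteType K A := inferInstance
  rw [← Algebra.unramifiedLocus_eq_univ_iff]
  rw [Set.eq_univ_iff_forall]
  intro q
  show Algebra.FormallyUnramified K (Localization.AtPrime q.asIdeal)
  have hsurj := IsArtinianRing.localization_surjective q.asIdeal.primeCompl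
    (Localization.AtPrime q.asIdeal)
  haveI : IsArtinianRing (Localization.AtPrime q.asIdeal) :=
    hsurj.isArtinianRing
  haveI : IsReduced (Localization.AtPrime q.asIdeal) :=
    inferInstance
  have hfield : IsField (Localization.AtPrime q.asIdeal) :=
    IsArtinianRing.isField_of_isReduced_of_isLocalRing _
  letI := hfield.toField
  haveI : Module.Finite K (Localization.AtPrime q.asIdeal) := by
    have : Module.Finite A (Localization.AtPrime q.asIdeal) :=
      Module.Finite.of_surjective (Algebra.linearMap A _) hsurj
    exact Module.Finite.trans A _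
  haveI : Algebra.IsAlgebraic K (Localization.AtPrime q.asIdeal) := inferInstance
  haveI : Algebra.IsSeparable K (Localization.AtPrime q.asIdeal) := inferInstance
  exact Algebra.FormallyUnramified.of_isSeparable K _

theorem formallyUnramified_of_smooth_lqf_aux {κ : Type u} [Field κ] [CharZero κ] {F : Scheme.{u}}
    (g : F ⟶ Spec (CommRingCat.of κ)) [Smooth g] [LocallyQuasiFinite g]
    {R : CommRingCat.{u}} (j : Spec R ⟶ F) [IsOpenImmersion j] :
    FormallyUnramified (j ≫ g) := by
  obtain ⟨φ, hφ⟩ := Spec.map_surjective (j ≫ g)
  have h1 : Smooth (Spec.map φ) := hφ ▸ inferInstance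
  have h2 : LocallyQuasiFinite (Spec.map φ) := hφ ▸ inferInstance
  rw [← hφ]
  rw [HasRingHomProperty.Spec_iff (P := @Smooth)] at h1
  rw [HasRingHomProperty.Spec_iff (P := @LocallyQuasiFinite)] at h2
  rw [HasRingHomProperty.Spec_iff (P := @FormallyUnramified)]
  algebraize [φ.hom]
  exact formallyUnramified_of_smooth_quasiFinite κ _

theorem formallyUnramified_of_smooth_lqf {κ : Type u} [Field κ] [CharZero κ] {F : Scheme.{u}}
    (g : F ⟶ Spec (CommRingCat.of κ)) [Smooth g] [LocallyQuasiFinite g] :
    FormallyUnramified g := by
  rw [IsZariskiLocalAtSource.iff_of_openCover (P := @FormallyUnramified) F.affineCover]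
  intro i
  have h : IsOpenImmersion (F.affineCover.f i) := inferInstance
  exact @formallyUnramified_of_smooth_lqf_aux _ _ _ _ g _ _ _ (F.affineCover.f i) h

theorem formallyUnramified_of_smooth_fibres {k : Type u} [Field k] [CharZero k] {S : Scheme.{u}}
    (σ : S ⟶ Spec (CommRingCat.of k)) {X : Scheme.{u}} (f : X ⟶ S) [LocallyOfFiniteType f]
    [LocallyQuasiFinite f]
    (hfib : ∀ s : S, Smooth (Limits.pullback.snd f (S.fromSpecResidueField s))) :
    FormallyUnramified f := by
  apply Groth.Agent.H49.UnramFibre.formallyUnramified_of_fiberToSpecResidueField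
  intro s
  haveI : Smooth (f.fiberToSpecResidueField s) := hfib s
  haveI : LocallyQuasiFinite (f.fiberToSpecResidueField s) := by
    exact MorphismProperty.pullback_snd (P := @LocallyQuasiFinite) f _ inferInstance
  obtain ⟨φ, hφ⟩ := Spec.map_surjective (S.fromSpecResidueField s ≫ σ)
  haveI : CharZero (S.residueField s) := by
    have := φ.hom.injective
    exact charZero_of_injective_ringHom this
  exact formallyUnramified_of_smooth_lqf (κ := S.residueField s) (f.fiberToSpecResidueField s)

theorem flat_fromSpecStalk (X : Scheme.{u}) (x : X) : Flat (X.fromSpecStalk x) := by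
  obtain ⟨_, ⟨U, hU, rfl⟩, hxU, -⟩ :=
    X.isBasis_affineOpens.exists_subset_of_mem_open (Set.mem_univ x) isOpen_univ
  rw [← hU.fromSpecStalk_eq_fromSpecStalk hxU]
  dsimp [IsAffineOpen.fromSpecStalk]
  have : Flat (Spec.map (X.presheaf.germ U x hxU)) := by
    rw [Flat.SpecMap_iff]
    letI : Algebra Γ(X, U) (X.presheaf.stalk x) := (X.presheaf.germ U x hxU).hom.toAlgebra
    haveI := hU.isLocalization_stalk ⟨x, hxU⟩
    exact IsLocalization.flat (X.presheaf.stalk x) (hU.primeIdealOf ⟨x, hxU⟩).asIdeal.primeCompl
  have h2 : IsOpenImmersion hU.fromSpec := hU.isOpenImmersion_fromSpec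
  exact Flat.comp _ _

theorem genericPoint_mem_range {X S : Scheme.{u}} (f : X ⟶ S) [IsIntegral S] [IsDominant f]
    [QuasiCompact f] : genericPoint S ∈ Set.range f := by
  haveI : IsSchemeTheoreticallyDominant f := .of_isDominant f
  haveI : Flat (S.fromSpecStalk (genericPoint S)) := flat_fromSpecStalk S _
  haveI : IsSchemeTheoreticallyDominant (pullback.snd f (S.fromSpecStalk (genericPoint S))) :=
    inferInstance
  haveI : IsDominant (pullback.snd f (S.fromSpecStalk (genericPoint S))) := inferInstance
  have hne : Nonempty ↥(pullback f (S.fromSpecStalk (genericPoint S))) := by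
    by_contra h
    rw [not_nonempty_iff] at h
    have hd := (pullback.snd f (S.fromSpecStalk (genericPoint S))).denseRange
    have hr : Set.range (pullback.snd f (S.fromSpecStalk (genericPoint S))) = ∅ :=
      Set.range_eq_empty _
    have h2 := hd.closure_eq
    rw [hr, closure_empty] at h2
    have hne2 : Nonempty ↥(Spec (S.presheaf.stalk (genericPoint S))) := inferInstance
    obtain ⟨z⟩ := hne2
    exact (h2 ▸ Set.mem_univ z : z ∈ (∅ : Set _))
  obtain ⟨z⟩ := hne
  refine ⟨pullback.fst f _ z, ?_⟩
  have h1 : f (pullback.fst f _ z) =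
      S.fromSpecStalk (genericPoint S) (pullback.snd f _ z) := by
    rw [← Scheme.Hom.comp_apply, pullback.condition, Scheme.Hom.comp_apply]
  rw [h1]
  have h2 : S.fromSpecStalk (genericPoint S) (pullback.snd f _ z) ⤳ genericPoint S := by
    have : S.fromSpecStalk (genericPoint S) (pullback.snd f _ z) ∈
        Set.range (S.fromSpecStalk (genericPoint S)) := ⟨_, rfl⟩
    rwa [Scheme.range_fromSpecStalk] at this
  exact (h2.antisymm ((genericPoint_spec S).specializes trivial)).eq

theorem etale_of_quasiFinite_dominant {k : Type u} [Field k] [CharZero k] {S : Scheme.{u}}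
    (σ : S ⟶ Spec (CommRingCat.of k)) [IsLocallyNoetherian S] [IsReduced S]
    (hS : ∀ s : S, CAlg2.IsGeomUnibranch (S.presheaf.stalk s))
    {X : Scheme.{u}} (f : X ⟶ S) [LocallyOfFiniteType f] [QuasiCompact f] [LocallyQuasiFinite f]
    [IsDominant f] [ConnectedSpace X]
    (hfib : ∀ s : S, Smooth (Limits.pullback.snd f (S.fromSpecResidueField s))) :
    Etale f := by
  haveI : FormallyUnramified f := formallyUnramified_of_smooth_fibres σ f hfib
  haveI : ConnectedSpace S := by
    have h1 : _root_.IsPreconnected (Set.range f) := isPreconnected_range f.continuous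
    have h2 := h1.closure
    rw [f.denseRange.closure_eq] at h2
    haveI : Nonempty S := ⟨f (Classical.arbitrary X)⟩
    exact { isPreconnected_univ := h2, toNonempty := ‹_› }
  have hdomst : ∀ s : S, IsDomain (S.presheaf.stalk s) := fun s => by
    have h1 : IsDomain (CAlg2.red (S.presheaf.stalk s)) := (hS s).1.1
    have h2 : (nilradical (S.presheaf.stalk s)).IsPrime :=
      (Ideal.Quotient.isDomain_iff_prime _).mp h1
    have h3 : nilradical (S.presheaf.stalk s) = ⊥ := nilradical_eq_zero _
    rw [h3] at h2
    exact IsDomain.of_bot_isPrime _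
  haveI : IsIntegral S := Groth.Agent.H70.LocDomain.isIntegral_of_connected_of_isDomain_stalk hdomst
  exact (Groth.Agent.H70.UnramUnibranchScheme.etale_and_irreducible f hS
    (genericPoint_mem_range f)).1

end Groth.Agent.H70.SmoothQF
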