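import Mathlib
import Groth.Agent.H70.IntBirRing
import Groth.Agent.H70.IntBirSpec
import Groth.Agent.H70.Birational
import Groth.Agent.H70.SmoothQF
import Groth.Agent.H70.GeomUnibranchScheme
import Groth.Agent.H70.LocDomain

/-!
# Integral birational morphisms and geometric unibranchness: scheme-level assembly (⟹)
-/

set_option autoImplicit false
set_option linter.style.haveILetI false
universe u
open AlgebraicGeometry CategoryTheory CategoryTheory.Limits TopologicalSpace IsLocalRing

namespace Groth.Agent.H70.IntBirScheme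

open Groth.Agent.H70.BranchTop Groth.Agent.H70.Birational

section Field

variable {K L K' M : Type*} [Field K] [Field L] [Field K'] [Field M]

theorem pi_of_square (a : K →+* L) (b : L →+* M) (c : K →+* K') (d : K' →+* M)
    (h : b.comp a = d.comp c) (hc : Function.Surjective c) (hd : d.IsPurelyInseparable) :
    a.IsPurelyInseparable := by
  let q := ringExpChar K
  haveI : ExpChar K' q := expChar_of_injective_ringHom c.injective q
  algebraize [a, d]
  rw [RingHom.IsPurelyInseparable]
  rw [isPurelyInseparable_iff_pow_mem K q]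
  intro l
  obtain ⟨n, k', hk'⟩ := IsPurelyInseparable.pow_mem K' q (b l)
  obtain ⟨k, rfl⟩ := hc k'
  refine ⟨n, k, ?_⟩
  apply b.injective
  rw [map_pow, ← hk']
  exact congrArg (fun φ => φ k) h

theorem pi_of_square' (a : K →+* L) (b : L →+* M) (c : K →+* K') (d : K' →+* M)
    (h : b.comp a = d.comp c) (hb : Function.Surjective b) (ha : a.IsPurelyInseparable) :
    d.IsPurelyInseparable := by
  let q := ringExpChar K
  haveI : ExpChar K' q := expChar_of_injective_ringHom c.injective q
  algebraize [a, d]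
  rw [RingHom.IsPurelyInseparable]
  rw [isPurelyInseparable_iff_pow_mem K' q]
  intro m
  obtain ⟨l, rfl⟩ := hb m
  obtain ⟨n, k, hk⟩ := IsPurelyInseparable.pow_mem K q l
  refine ⟨n, c k, ?_⟩
  rw [← map_pow, ← hk]
  exact (congrArg (fun φ => φ k) h).symm

end Field

section Square

variable {X Y X' Y' : Scheme.{u}} {f : X ⟶ Y} {g : Y' ⟶ Y} {f' : X' ⟶ Y'} {g' : X' ⟶ X}

theorem residueField_square (w : g' ≫ f = f' ≫ g) (z : X') :
    (g'.residueFieldMap z).hom.comp (f.residueFieldMap (g' z)).hom =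
      (f'.residueFieldMap z).hom.comp ((g.residueFieldMap (f' z)).hom.comp
        (Y.residueFieldCongr (show f (g' z) = g (f' z) by
          rw [← Scheme.Hom.comp_apply, w, Scheme.Hom.comp_apply])).hom.hom) := by
  have h1 : f.residueFieldMap (g' z) ≫ g'.residueFieldMap z = (g' ≫ f).residueFieldMap z :=
    (Scheme.residueFieldMap_comp g' f z).symm
  have h2 := Scheme.Hom.residueFieldMap_congr w z
  have h3 : (f' ≫ g).residueFieldMap z = g.residueFieldMap (f' z) ≫ f'.residueFieldMap z :=
    Scheme.residueFieldMap_comp f' g z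
  rw [h2, h3] at h1
  have := congrArg CommRingCat.Hom.hom h1
  simpa [CommRingCat.hom_comp, RingHom.comp_assoc] using this

theorem isPurelyInseparable_of_square (w : g' ≫ f = f' ≫ g) (z : X')
    (hc : Function.Bijective (g.residueFieldMap (f' z)).hom)
    (hd : (f'.residueFieldMap z).hom.IsPurelyInseparable) :
    (f.residueFieldMap (g' z)).hom.IsPurelyInseparable := by
  refine pi_of_square _ _ _ _ (residueField_square w z) ?_ hd
  exact hc.surjective.comp (ConcreteCategory.bijective_of_isIso _).surjective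

theorem isPurelyInseparable_of_square' (w : g' ≫ f = f' ≫ g) (z : X')
    (hb : Function.Bijective (g'.residueFieldMap z).hom)
    (ha : (f.residueFieldMap (g' z)).hom.IsPurelyInseparable) :
    (f'.residueFieldMap z).hom.IsPurelyInseparable :=
  pi_of_square' _ _ _ _ (residueField_square w z) hb.surjective ha

end Square

section Local

variable {X Y : Scheme.{u}}

theorem bijective_residueFieldMap_fromSpecStalk (y : Y) (t : Spec (Y.presheaf.stalk y)) :
    Function.Bijective ((Y.fromSpecStalk y).residueFieldMap t).hom := by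
  refine ⟨RingHom.injective _, ?_⟩
  have h1 := Scheme.residue_residueFieldMap (Y.fromSpecStalk y) t
  have h2 : Function.Surjective ((Y.fromSpecStalk y).stalkMap t ≫ (Spec _).residue t).hom := by
    rw [CommRingCat.hom_comp, RingHom.coe_comp]
    exact (Scheme.residue_surjective _ t).comp ((Y.fromSpecStalk y).stalkMap_surjective t)
  rw [← h1] at h2
  rw [CommRingCat.hom_comp, RingHom.coe_comp] at h2
  exact Function.Surjective.of_comp h2

/-- transfer of geometric unibranchness between two models of the localization at a prime. -/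
theorem isGeomUnibranch_of_isLocalization {A : Type u} [CommRing A] (p : Ideal A) [p.IsPrime]
    (R₁ R₂ : Type u) [CommRing R₁] [IsLocalRing R₁] [Algebra A R₁] [IsLocalization.AtPrime R₁ p]
    [CommRing R₂] [IsLocalRing R₂] [Algebra A R₂] [IsLocalization.AtPrime R₂ p]
    (h : CAlg2.IsGeomUnibranch R₁) : CAlg2.IsGeomUnibranch R₂ :=
  GeomUnibranchNbhd.isGeomUnibranch_of_forall_etale p R₂
    (fun E0 _ _ _ q0 _ _ P1 hP1 P2 hP2 h1 h2 =>
      GeomUnibranchNbhd.minimalPrimes_unique_of_isGeomUnibranch p R₁ h q0 P1 hP1 P2 hP2 h1 h2)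

set_option maxHeartbeats 1600000 in
theorem local_data (f : X ⟶ Y) [IsIntegralHom f] (hf : RadPt.IsBirational f) (y : Y)
    (hGU : CAlg2.IsGeomUnibranch (Y.presheaf.stalk y)) :
    (∀ z z' : ↑(pullback f (Y.fromSpecStalk y)),
      pullback.snd f (Y.fromSpecStalk y) z = closedPoint (Y.presheaf.stalk y) →
      pullback.snd f (Y.fromSpecStalk y) z' = closedPoint (Y.presheaf.stalk y) → z = z') ∧
    ∀ z : ↑(pullback f (Y.fromSpecStalk y)),
      pullback.snd f (Y.fromSpecStalk y) z = closedPoint (Y.presheaf.stalk y) →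
      CAlg2.IsGeomUnibranch ((pullback f (Y.fromSpecStalk y)).presheaf.stalk z) ∧
      ((pullback.snd f (Y.fromSpecStalk y)).residueFieldMap z).hom.IsPurelyInseparable := by
  let R : CommRingCat := Y.presheaf.stalk y
  let ι : Spec R ⟶ Y := Y.fromSpecStalk y
  haveI : Flat ι := SmoothQF.flat_fromSpecStalk Y y
  let P : Scheme.{u} := pullback f ι
  let p₁ : P ⟶ X := pullback.fst f ι
  let p₂ : P ⟶ Spec R := pullback.snd f ι
  have sq : IsPullback p₁ p₂ f ι := IsPullback.of_hasPullback f ι
  have hbir₂ : RadPt.IsBirational p₂ := isBirational_of_isPullback sq hf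
  haveI : IsIntegralHom p₂ := inferInstanceAs (IsIntegralHom (pullback.snd f ι))
  haveI : IsAffine P := isAffine_of_isAffineHom p₂
  let R' : CommRingCat := Γ(P, ⊤)
  let e : P ≅ Spec R' := P.isoSpec
  let φ : R ⟶ R' := (Scheme.ΓSpecIso R).inv ≫ p₂.appTop
  have hfac : p₂ = e.hom ≫ Spec.map φ := by
    have h1 := Scheme.isoSpec_hom_naturality p₂
    rw [Scheme.isoSpec_Spec_hom] at h1
    have h2 : Spec.map φ = Spec.map p₂.appTop ≫ Spec.map (Scheme.ΓSpecIso R).inv :=
      Spec.map_comp _ _
    rw [h2, ← Category.assoc]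
    show p₂ = (P.isoSpec.hom ≫ Spec.map p₂.appTop) ≫ _
    rw [h1, Category.assoc, ← Spec.map_comp, Iso.inv_hom_id, Spec.map_id, Category.comp_id]
  have hfac' : Spec.map φ = e.inv ≫ p₂ := by rw [hfac, Iso.inv_hom_id_assoc]
  have hbirφ : RadPt.IsBirational (Spec.map φ) :=
    isBirational_of_isPullback (g := 𝟙 (Spec R)) (g' := e.inv)
      (IsPullback.of_horiz_isIso ⟨by rw [hfac', Category.comp_id]⟩) hbir₂
  have hint : φ.hom.IsIntegral := by
    have : IsIntegralHom (Spec.map φ) := by rw [hfac']; infer_instance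
    exact IsIntegralHom.SpecMap_iff.mp this
  have hp : (nilradical R).IsPrime := (Ideal.Quotient.isDomain_iff_prime _).mp hGU.1.1
  obtain ⟨hq, hcomap, hfrac⟩ := IntBirSpec.ring_facts φ.hom hp hbirφ
  obtain ⟨hloc, hGU', hres⟩ := IntBirRing.main φ.hom hint hq hcomap hfrac hGU
  haveI := hloc
  -- the only point over the closed point
  have hcl : ∀ z : P, p₂ z = closedPoint R → e.hom z = closedPoint R' := by
    intro z hz
    have h1 : (Spec.map φ) (e.hom z) = closedPoint R := by
      rw [← Scheme.Hom.comp_apply, ← hfac]; exact hz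
    have h2 : (e.hom z : PrimeSpectrum R').asIdeal.comap φ.hom = maximalIdeal R :=
      congrArg PrimeSpectrum.asIdeal h1
    have h2' : ((e.hom z : PrimeSpectrum R').asIdeal.comap φ.hom).IsMaximal :=
      h2 ▸ maximalIdeal.isMaximal R
    have h3 : (e.hom z : PrimeSpectrum R').asIdeal.IsMaximal :=
      Ideal.isMaximal_of_isIntegral_of_isMaximal_comap' φ.hom hint _ h2'
    apply PrimeSpectrum.ext
    exact IsLocalRing.eq_maximalIdeal h3
  have huniq : ∀ z z' : P, p₂ z = closedPoint R → p₂ z' = closedPoint R → z = z' := by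
    intro z z' hz hz'
    apply e.hom.homeomorph.injective
    show e.hom z = e.hom z'
    rw [hcl z hz, hcl z' hz']
  refine ⟨huniq, fun z hz => ⟨?_, ?_⟩⟩
  · -- geometric unibranchness of the stalk
    have hzcl : IsClosed ({z} : Set P) := by
      have : ({z} : Set P) = p₂ ⁻¹' {closedPoint R} := by
        ext z'
        simp only [Set.mem_singleton_iff, Set.mem_preimage]
        exact ⟨fun h => h ▸ hz, fun h => huniq z' z h hz⟩
      rw [this]
      exact (isClosed_singleton_closedPoint R).preimage p₂.continuous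
    have hV : IsAffineOpen (⊤ : P.Opens) := isAffineOpen_top P
    have hmax := hV.primeIdealOf_isMaximal_of_isClosed ⟨z, trivial⟩ hzcl
    let p : Ideal R' := (hV.primeIdealOf ⟨z, trivial⟩).asIdeal
    have hp' : p = maximalIdeal R' := IsLocalRing.eq_maximalIdeal hmax
    letI algSt : Algebra R' (P.presheaf.stalk z) :=
      TopCat.Presheaf.algebra_section_stalk P.presheaf (⟨z, trivial⟩ : (⊤ : P.Opens))
    haveI : IsLocalization.AtPrime (P.presheaf.stalk z) p := hV.isLocalization_stalk ⟨z, trivial⟩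
    haveI : IsLocalization.AtPrime R' p := by
      apply IsLocalization.of_le_isUnit
      intro s hs
      have hs' : s ∉ maximalIdeal R' := by rw [← hp']; exact hs
      exact IsLocalRing.notMem_maximalIdeal.mp hs'
    exact isGeomUnibranch_of_isLocalization p R' (P.presheaf.stalk z) hGU'
  · -- purely inseparable residue field extension
    have pφ : ((Spec.map φ).residueFieldMap (closedPoint R')).hom.IsPurelyInseparable := by
      let x' : Spec R' := closedPoint R'
      let K := (Spec R).residueField ((Spec.map φ) x')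
      let E := (Spec R').residueField x'
      let q := ringExpChar K
      let j : ResidueField R' →+* E := Ideal.Quotient.lift (maximalIdeal R') (IntBirSpec.ev R' x')
        (fun a ha => (IntBirSpec.ev_eq_zero_iff R' x' a).mpr ha)
      have hq' : ringExpChar (ResidueField R') = q := by
        have h1 := IntBirRing.ringExpChar_eq_of_injective j j.injective
        have h2 := IntBirRing.ringExpChar_eq_of_injective
          ((Spec.map φ).residueFieldMap x').hom (RingHom.injective _)
        exact h1.symm.trans h2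
      algebraize [((Spec.map φ).residueFieldMap x').hom]
      rw [RingHom.IsPurelyInseparable, isPurelyInseparable_iff_pow_mem K q]
      intro c
      obtain ⟨a, s, hs, hcs⟩ := IntBirSpec.exists_ev_frac R' x' c
      have hsu : IsUnit s := IsLocalRing.notMem_maximalIdeal.mp hs
      obtain ⟨t, ht⟩ := hsu.exists_right_inv
      have hc : c = IntBirSpec.ev R' x' (a * t) := by
        rw [map_mul, ← hcs, mul_assoc, ← map_mul, ht, map_one, mul_one]
      obtain ⟨n, r, hnr⟩ := hres (residue R' (a * t))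
      rw [hq'] at hnr
      refine ⟨n, IntBirSpec.ev R _ r, ?_⟩
      have h5 := congrArg j hnr
      rw [map_pow] at h5
      have h6 : ∀ b : R', j (residue R' b) = IntBirSpec.ev R' x' b := fun b => rfl
      rw [h6, h6] at h5
      rw [hc, h5]
      exact IntBirSpec.ev_naturality φ x' r
    have hw : e.hom ≫ Spec.map φ = p₂ ≫ 𝟙 _ := by rw [← hfac, Category.comp_id]
    refine isPurelyInseparable_of_square' hw z
      (ConcreteCategory.bijective_of_isIso (e.hom.residueFieldMap z)) ?_
    rw [hcl z hz]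
    exact pφ

/-- If `q₁ : W' ⟶ W` is a generalizing map and `W'` has a unique maximal point above `w'`,
then `W` has at most one maximal point above `q₁ w'`. -/
theorem unique_maxPt_of_generalizing {W W' : Scheme.{u}} (q₁ : W' ⟶ W) (hq₁ : GeneralizingMap q₁)
    (w' : W') (h : ∀ ζ₁ ∈ maxPtsTop W', ∀ ζ₂ ∈ maxPtsTop W', ζ₁ ⤳ w' → ζ₂ ⤳ w' → ζ₁ = ζ₂)
    (ξ₁ ξ₂ : W) (h₁ : ξ₁ ∈ maxPtsTop W) (h₂ : ξ₂ ∈ maxPtsTop W) (hs₁ : ξ₁ ⤳ q₁ w')
    (hs₂ : ξ₂ ⤳ q₁ w') : ξ₁ = ξ₂ := by
  have lift : ∀ ξ ∈ maxPtsTop W, ξ ⤳ q₁ w' → ∃ ζ ∈ maxPtsTop W', ζ ⤳ w' ∧ q₁ ζ = ξ := by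
    intro ξ hξ hs
    obtain ⟨t, ht1, ht2⟩ := hq₁ hs
    obtain ⟨ζ, hζ, hζt⟩ := LocDomain.exists_maxPts_specializes t
    refine ⟨ζ, hζ, hζt.trans ht1, ?_⟩
    have h3 : q₁ ζ ⤳ ξ := ht2 ▸ hζt.map q₁.continuous
    exact hξ _ h3
  obtain ⟨ζ₁, hζ₁, hζ₁s, rfl⟩ := lift ξ₁ h₁ hs₁
  obtain ⟨ζ₂, hζ₂, hζ₂s, rfl⟩ := lift ξ₂ h₂ hs₂
  rw [h ζ₁ hζ₁ ζ₂ hζ₂ hζ₁s hζ₂s]

theorem forward (f : X ⟶ Y) [IsIntegralHom f] (hf : RadPt.IsBirational f) (y : Y)
    (hGU : CAlg2.IsGeomUnibranch (Y.presheaf.stalk y)) :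
    RadPt.IsRadicialAt f y ∧ ∀ x : X, f x = y → CAlg2.IsGeomUnibranch (X.presheaf.stalk x) := by
  obtain ⟨huniq, hprop⟩ := local_data f hf y hGU
  let R : CommRingCat := Y.presheaf.stalk y
  let ι : Spec R ⟶ Y := Y.fromSpecStalk y
  haveI : Flat ι := SmoothQF.flat_fromSpecStalk Y y
  let P : Scheme.{u} := pullback f ι
  let p₁ : P ⟶ X := pullback.fst f ι
  let p₂ : P ⟶ Spec R := pullback.snd f ι
  have sq : IsPullback p₁ p₂ f ι := IsPullback.of_hasPullback f ι
  have hcp : ι (closedPoint R) = y := Scheme.fromSpecStalk_closedPoint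
  have hex : ∀ x : X, f x = y → ∃ z : P, p₁ z = x ∧ p₂ z = closedPoint R := fun x hx =>
    exists_of_isPullback sq x (closedPoint R) (by rw [hx, hcp])
  refine ⟨⟨?_, ?_⟩, ?_⟩
  · intro x x' hx hx'
    obtain ⟨z, hz1, hz2⟩ := hex x hx
    obtain ⟨z', hz1', hz2'⟩ := hex x' hx'
    rw [← hz1, ← hz1', huniq z z' hz2 hz2']
  · intro x hx
    obtain ⟨z, hz1, hz2⟩ := hex x hx
    subst hz1
    exact isPurelyInseparable_of_square sq.w z
      (bijective_residueFieldMap_fromSpecStalk y (p₂ z)) (hprop z hz2).2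
  · intro x hx
    obtain ⟨z, hz1, hz2⟩ := hex x hx
    subst hz1
    have hGUz := (hprop z hz2).1
    apply GeomUnibranchScheme.isGeomUnibranch_of_forall_encard_eq_one
    intro W g w hg hgw
    haveI := hg
    rw [encard_eq_one_iff]
    obtain ⟨ξ, hξ, hξw⟩ := LocDomain.exists_maxPts_specializes w
    refine ⟨ξ, ⟨hξ, hξw⟩, ?_⟩
    rintro ξ' ⟨hξ', hξ'w⟩
    let W' : Scheme.{u} := pullback g p₁
    let q₁ : W' ⟶ W := pullback.fst g p₁
    let q₂ : W' ⟶ P := pullback.snd g p₁
    have sq' : IsPullback q₁ q₂ g p₁ := IsPullback.of_hasPullback g p₁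
    haveI : Flat p₁ := inferInstanceAs (Flat (pullback.fst f ι))
    haveI : Flat q₁ := inferInstanceAs (Flat (pullback.fst g p₁))
    haveI : Etale q₂ := inferInstanceAs (Etale (pullback.snd g p₁))
    obtain ⟨w', hw'1, hw'2⟩ := exists_of_isPullback sq' w z hgw
    subst hw'1
    have henc := GeomUnibranchScheme.encard_eq_one_of_isGeomUnibranch q₂ w' (hw'2 ▸ hGUz)
    rw [encard_eq_one_iff] at henc
    obtain ⟨ζ₀, -, hζ₀⟩ := henc
    refine unique_maxPt_of_generalizing q₁ (Flat.generalizingMap q₁) w' ?_ ξ' ξ hξ' hξ hξ'w hξw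
    intro ζ₁ hζ₁ ζ₂ hζ₂ hs₁ hs₂
    rw [hζ₀ ζ₁ ⟨hζ₁, hs₁⟩, hζ₀ ζ₂ ⟨hζ₂, hs₂⟩]

end Local

end Groth.Agent.H70.IntBirScheme
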