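import Mathlib
import Groth.Agent.H70.IntBirScheme
import Groth.Agent.H7.GeomFibre

/-!
# Étale squares: residue field extensions and fibres
-/

set_option autoImplicit false
set_option linter.style.haveILetI false
universe u
open AlgebraicGeometry CategoryTheory CategoryTheory.Limits

namespace Groth.Agent.H70.EtaleSquare

theorem locallyQuasiFinite_of_etale {X Y : Scheme.{u}} (a : X ⟶ Y) [Etale a] :
    LocallyQuasiFinite a := by
  rw [HasRingHomProperty.iff_appLE (P := @LocallyQuasiFinite)]
  intro U V e
  have h := HasRingHomProperty.appLE (P := @Etale) a inferInstance U V e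
  algebraize [(a.appLE U.1 V.1 e).hom]
  exact RingHom.quasiFinite_algebraMap.mpr inferInstance

theorem finite_residueFieldMap_of_etale {X Y : Scheme.{u}} (a : X ⟶ Y) [Etale a] (x : X) :
    (a.residueFieldMap x).hom.Finite := by
  haveI := locallyQuasiFinite_of_etale a
  exact Groth.Agent.H7.finite_residueFieldMap a x (a.quasiFiniteAt x)

section Field

variable {k K k' K' : Type u} [Field k] [Field K] [Field k'] [Field K']

theorem trdeg_eq_of_square (i : k →+* K) (j : K →+* K') (i' : k' →+* K') (c : k →+* k')
    (h : j.comp i = i'.comp c) (hj : j.Finite) (hc : c.Finite) :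
    @Algebra.trdeg k K _ _ i.toAlgebra = @Algebra.trdeg k' K' _ _ i'.toAlgebra := by
  letI a1 : Algebra k K := i.toAlgebra
  letI a2 : Algebra K K' := j.toAlgebra
  letI a3 : Algebra k' K' := i'.toAlgebra
  letI a4 : Algebra k k' := c.toAlgebra
  letI a5 : Algebra k K' := (j.comp i).toAlgebra
  haveI : IsScalarTower k K K' := IsScalarTower.of_algebraMap_eq' rfl
  haveI : IsScalarTower k k' K' := IsScalarTower.of_algebraMap_eq' h
  haveI : Module.Finite K K' := RingHom.finite_algebraMap.mp hj
  haveI : Module.Finite k k' := RingHom.finite_algebraMap.mp hc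
  haveI : Algebra.IsAlgebraic K K' := Algebra.IsAlgebraic.of_finite K K'
  haveI : Algebra.IsAlgebraic k k' := Algebra.IsAlgebraic.of_finite k k'
  have h1 : Algebra.trdeg k K + Algebra.trdeg K K' = Algebra.trdeg k K' :=
    trdeg_add_eq k K (A := K')
  have h2 : Algebra.trdeg k k' + Algebra.trdeg k' K' = Algebra.trdeg k K' :=
    trdeg_add_eq k k' (A := K')
  rw [trdeg_eq_zero (R := K) (A := K'), add_zero] at h1
  rw [trdeg_eq_zero (R := k) (A := k'), zero_add] at h2
  exact h1.trans h2.symm

end Field

end Groth.Agent.H70.EtaleSquare
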