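import Mathlib
import Groth.Agent.H70.EtaleSquare

/-!
# The map induced on fibres by an étale square is étale
-/

set_option autoImplicit false
set_option linter.style.haveILetI false
universe u
open AlgebraicGeometry CategoryTheory CategoryTheory.Limits

namespace Groth.Agent.H70.EtaleFibreMap

open Groth.Agent.H70.EtaleSquare

theorem etale_SpecMap_residueFieldMap {V V' : Scheme.{u}} (b : V' ⟶ V) [Etale b] (v' : V') :
    Etale (Spec.map (b.residueFieldMap v')) := by
  rw [HasRingHomProperty.Spec_iff (P := @Etale)]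
  have hfin := finite_residueFieldMap_of_etale b v'
  letI : Algebra (V.residueField (b v')) (V'.residueField v') :=
    (b.residueFieldMap v').hom.toAlgebra
  haveI : Algebra.IsSeparable (V.residueField (b v')) (V'.residueField v') := inferInstance
  haveI : Module.Finite (V.residueField (b v')) (V'.residueField v') :=
    RingHom.finite_algebraMap.mp hfin
  haveI : Algebra.FormallyEtale (V.residueField (b v')) (V'.residueField v') :=
    Algebra.FormallyEtale.of_isSeparable _ _
  haveI : Algebra.FinitePresentation (V.residueField (b v')) (V'.residueField v') :=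
    Algebra.FinitePresentation.of_finiteType.mp inferInstance
  haveI : Algebra.Etale (V.residueField (b v')) (V'.residueField v') := ⟨inferInstance, inferInstance⟩
  exact RingHom.etale_algebraMap.mpr inferInstance

theorem etale_fiberMap {U U' V V' : Scheme.{u}} (h : U ⟶ V) (h' : U' ⟶ V') (a : U' ⟶ U)
    (b : V' ⟶ V) [Etale a] [Etale b] (comm : h' ≫ b = a ≫ h) (v' : V')
    (φ : h'.fiber v' ⟶ h.fiber (b v')) (hφ1 : φ ≫ h.fiberι (b v') = h'.fiberι v' ≫ a)
    (hφ2 : φ ≫ h.fiberToSpecResidueField (b v') =
      h'.fiberToSpecResidueField v' ≫ Spec.map (b.residueFieldMap v')) :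
    Etale φ := by
  let c := Spec.map (b.residueFieldMap v')
  haveI : Etale c := etale_SpecMap_residueFieldMap b v'
  let j := V.fromSpecResidueField (b v')
  let j' := V'.fromSpecResidueField v'
  have hjj : c ≫ j = j' ≫ b := Scheme.Hom.SpecMap_residueFieldMap_fromSpecResidueField b v'
  let ι := h.fiberι (b v')
  let π := h.fiberToSpecResidueField (b v')
  let ι' := h'.fiberι v'
  let π' := h'.fiberToSpecResidueField v'
  have sqF : IsPullback ι π h j := IsPullback.of_hasPullback _ _
  have sqF' : IsPullback ι' π' h' j' := IsPullback.of_hasPullback _ _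
  -- `P = U ×_V V'`
  let pr₁ : pullback h b ⟶ U := pullback.fst h b
  let pr₂ : pullback h b ⟶ V' := pullback.snd h b
  have sqP : IsPullback pr₁ pr₂ h b := IsPullback.of_hasPullback h b
  haveI : Etale pr₁ := inferInstanceAs (Etale (pullback.fst h b))
  let w : U' ⟶ pullback h b := pullback.lift a h' comm.symm
  have hw1 : w ≫ pr₁ = a := pullback.lift_fst _ _ _
  have hw2 : w ≫ pr₂ = h' := pullback.lift_snd _ _ _
  haveI : Etale (w ≫ pr₁) := hw1 ▸ inferInstance
  haveI : Etale w := Etale.of_comp w pr₁
  -- `Q = F ×_k k'`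
  let q₁ : pullback π c ⟶ h.fiber (b v') := pullback.fst π c
  let q₂ : pullback π c ⟶ Spec (V'.residueField v') := pullback.snd π c
  have sqQ : IsPullback q₁ q₂ π c := IsPullback.of_hasPullback π c
  haveI : Etale q₁ := inferInstanceAs (Etale (pullback.fst π c))
  have big : IsPullback (q₁ ≫ ι) q₂ h (c ≫ j) := sqQ.paste_horiz sqF
  rw [hjj] at big
  let r : pullback π c ⟶ pullback h b := sqP.lift (q₁ ≫ ι) (q₂ ≫ j') (by
    rw [Category.assoc q₂ j' b]; exact big.w)
  have hr1 : r ≫ pr₁ = q₁ ≫ ι := sqP.lift_fst _ _ _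
  have hr2 : r ≫ pr₂ = q₂ ≫ j' := sqP.lift_snd _ _ _
  have sqQP : IsPullback r q₂ pr₂ j' := IsPullback.of_right (by rw [hr1]; exact big) hr2 sqP
  let t : h'.fiber v' ⟶ pullback π c := sqQP.lift (ι' ≫ w) π' (by
    rw [Category.assoc, hw2]; exact sqF'.w)
  have ht1 : t ≫ r = ι' ≫ w := sqQP.lift_fst _ _ _
  have ht2 : t ≫ q₂ = π' := sqQP.lift_snd _ _ _
  have top : IsPullback ι' t w r := by
    refine IsPullback.of_bot ?_ ht1.symm sqQP
    rw [ht2, hw2]
    exact sqF'
  haveI : Etale t := MorphismProperty.of_isPullback (P := @Etale) top inferInstance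
  have hφ : φ = t ≫ q₁ := by
    apply sqF.hom_ext
    · rw [hφ1, Category.assoc, ← hr1, ← Category.assoc, ht1, Category.assoc, hw1]
    · rw [hφ2, Category.assoc, sqQ.w, ← Category.assoc, ht2]
  rw [hφ]
  infer_instance

end Groth.Agent.H70.EtaleFibreMap
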