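import Mathlib
import Groth.Agent.H24.DimLift
import Groth.Agent.H9.FibDimTarget
import Groth.Agent.H70.EtaleFibreMap

/-!
# Étale morphisms preserve local dimension; fibre dimension is étale local
-/

set_option autoImplicit false
set_option linter.style.haveILetI false
universe u
open AlgebraicGeometry CategoryTheory CategoryTheory.Limits TopologicalSpace Topology

namespace Groth.Agent.H70.LocalDimEtale

section Top

variable {X Y : Type*} [TopologicalSpace X] [TopologicalSpace Y]

/-- A continuous map without specializations inside its fibres does not lower dimension. -/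
theorem topologicalKrullDim_le_of_fibres [QuasiSober X] [T0Space Y] (f : X → Y)
    (hc : Continuous f) (hfib : ∀ x x' : X, x ⤳ x' → f x = f x' → x = x') :
    topologicalKrullDim X ≤ topologicalKrullDim Y := by
  unfold topologicalKrullDim
  let F : IrreducibleCloseds X → IrreducibleCloseds Y := fun Z =>
    ⟨closure (f '' (Z : Set X)), (Z.isIrreducible.image f hc.continuousOn).closure,
      isClosed_closure⟩
  refine Order.krullDim_le_of_strictMono F ?_
  intro Z Z' hlt
  have hle : (Z : Set X) ⊆ Z' := hlt.le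
  refine lt_of_le_of_ne (closure_mono (Set.image_mono hle)) ?_
  intro heq
  have heq' : closure (f '' (Z : Set X)) = closure (f '' (Z' : Set X)) :=
    congrArg (fun W : IrreducibleCloseds Y => (W : Set Y)) heq
  obtain ⟨ζ, hζ⟩ := QuasiSober.sober Z.isIrreducible Z.isClosed
  obtain ⟨ζ', hζ'⟩ := QuasiSober.sober Z'.isIrreducible Z'.isClosed
  have h1 : closure (f '' (Z : Set X)) = closure {f ζ} := by
    rw [← hζ.def, ← Set.image_singleton]
    exact le_antisymm (closure_minimal (image_closure_subset_closure_image hc) isClosed_closure)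
      (closure_mono (Set.image_mono subset_closure))
  have h2 : closure (f '' (Z' : Set X)) = closure {f ζ'} := by
    rw [← hζ'.def, ← Set.image_singleton]
    exact le_antisymm (closure_minimal (image_closure_subset_closure_image hc) isClosed_closure)
      (closure_mono (Set.image_mono subset_closure))
  have h3 : f ζ = f ζ' := by
    have : Inseparable (f ζ) (f ζ') := by
      rw [inseparable_iff_closure_eq, ← h1, ← h2, heq']
    exact this.eq
  have h4 : ζ' ⤳ ζ := by
    rw [specializes_iff_mem_closure, hζ'.def]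
    exact hle (hζ.mem)
  have h5 : ζ' = ζ := hfib ζ' ζ h4 h3.symm
  apply hlt.ne
  apply IrreducibleCloseds.ext
  rw [← hζ.def, ← hζ'.def, h5]

theorem localDim_eq_of_isOpenMap [QuasiSober X] [QuasiSober Y] [T0Space Y] (f : X → Y)
    (hc : Continuous f) (ho : IsOpenMap f) (hg : GeneralizingMap f)
    (hfib : ∀ x x' : X, x ⤳ x' → f x = f x' → x = x') (x : X) :
    FlatMor.localDim X x = FlatMor.localDim Y (f x) := by
  have key : ∀ W : Opens X,
      topologicalKrullDim ↥(W : Set X) = topologicalKrullDim ↥(f '' (W : Set X)) := by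
    intro W
    let r : ↥(W : Set X) → ↥(f '' (W : Set X)) := fun a => ⟨f a.1, a.1, a.2, rfl⟩
    have hrc : Continuous r := (hc.comp continuous_subtype_val).subtype_mk _
    have hrs : Function.Surjective r := by
      rintro ⟨_, a, ha, rfl⟩
      exact ⟨⟨a, ha⟩, rfl⟩
    haveI : QuasiSober ↥(W : Set X) := W.isOpen.isOpenEmbedding_subtypeVal.quasiSober
    haveI : QuasiSober ↥(f '' (W : Set X)) :=
      (ho _ W.isOpen).isOpenEmbedding_subtypeVal.quasiSober
    apply le_antisymm
    · apply topologicalKrullDim_le_of_fibres r hrc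
      intro a a' hs he
      apply Subtype.ext
      exact hfib a.1 a'.1 (hs.map continuous_subtype_val) (congrArg Subtype.val he)
    · refine Groth.Agent.H24.topologicalKrullDim_le_of_generalizingMap r hrc ?_ hrs
      intro a y' hy'
      have h1 : (y' : Y) ⤳ f a.1 := hy'.map continuous_subtype_val
      obtain ⟨a', ha', hfa'⟩ := hg h1
      have ha'W : a' ∈ W := ha'.mem_open W.isOpen a.2
      refine ⟨⟨a', ha'W⟩, ?_, Subtype.ext hfa'⟩
      exact (IsInducing.subtypeVal.specializes_iff).mp ha'
  apply le_antisymm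
  · refine le_iInf fun V => ?_
    let W : Opens X := ⟨f ⁻¹' (V.1 : Set Y), V.1.2.preimage hc⟩
    have hxW : x ∈ W := V.2
    refine (Groth.Agent.H9.FibDim.localDim_le_of_mem X x W hxW).trans ?_
    rw [key W]
    exact Groth.Agent.H9.FibDim.dim_mono_subset (Set.image_preimage_subset f _)
  · refine le_iInf fun W => ?_
    let V : Opens Y := ⟨f '' (W.1 : Set X), ho _ W.1.2⟩
    have hxV : f x ∈ V := ⟨x, W.2, rfl⟩
    refine (Groth.Agent.H9.FibDim.localDim_le_of_mem Y (f x) V hxV).trans ?_
    rw [key W.1]
    exact le_rfl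

end Top

section Sch

open Groth.Agent.H70.EtaleSquare Groth.Agent.H70.EtaleFibreMap

/-- Étale morphisms preserve local dimension. -/
theorem localDim_eq_of_etale {X Y : Scheme.{u}} (φ : X ⟶ Y) [Etale φ] (x : X) :
    FlatMor.localDim X x = FlatMor.localDim Y (φ x) := by
  haveI : LocallyQuasiFinite φ := locallyQuasiFinite_of_etale φ
  refine localDim_eq_of_isOpenMap φ φ.continuous φ.isOpenMap (Flat.generalizingMap φ) ?_ x
  intro x₁ x₂ hs he
  have hd : _root_.IsDiscrete (φ ⁻¹' {φ x₂}) := Scheme.Hom.isDiscrete_preimage_singleton φ (φ x₂)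
  haveI : DiscreteTopology ↥(φ ⁻¹' {φ x₂}) := hd.to_subtype
  have h1 : x₁ ∈ φ ⁻¹' {φ x₂} := he
  have h2 : x₂ ∈ φ ⁻¹' {φ x₂} := rfl
  have hs' : (⟨x₁, h1⟩ : ↥(φ ⁻¹' {φ x₂})) ⤳ ⟨x₂, h2⟩ :=
    (IsInducing.subtypeVal.specializes_iff).mp hs
  exact congrArg Subtype.val hs'.eq

/-- The local dimension of the fibre is étale local on source and target. -/
theorem fibreDimAt_eq_of_etale_square {U U' V V' : Scheme.{u}} (h : U ⟶ V) (h' : U' ⟶ V')
    (a : U' ⟶ U) (b : V' ⟶ V) [Etale a] [Etale b] (comm : h' ≫ b = a ≫ h) (u' : U') :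
    FlatMor.fibreDimAt h (a u') = FlatMor.fibreDimAt h' u' := by
  let v' := h' u'
  have hcond : (h'.fiberι v' ≫ a) ≫ h =
      (h'.fiberToSpecResidueField v' ≫ Spec.map (b.residueFieldMap v')) ≫
        V.fromSpecResidueField (b v') := by
    rw [Category.assoc, ← comm, Category.assoc,
      Scheme.Hom.SpecMap_residueFieldMap_fromSpecResidueField, ← Category.assoc,
      ← Category.assoc]
    congr 1
    exact (IsPullback.of_hasPullback h' (V'.fromSpecResidueField v')).w
  let φ : h'.fiber v' ⟶ h.fiber (b v') := pullback.lift (h'.fiberι v' ≫ a)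
    (h'.fiberToSpecResidueField v' ≫ Spec.map (b.residueFieldMap v')) hcond
  have hφ1 : φ ≫ h.fiberι (b v') = h'.fiberι v' ≫ a := pullback.lift_fst _ _ _
  have hφ2 : φ ≫ h.fiberToSpecResidueField (b v') =
      h'.fiberToSpecResidueField v' ≫ Spec.map (b.residueFieldMap v') := pullback.lift_snd _ _ _
  haveI : Etale φ := etale_fiberMap h h' a b comm v' φ hφ1 hφ2
  have e1 := localDim_eq_of_etale φ (h'.asFiber u')
  have e2 := Groth.Agent.H9.FibDim.localDim_fiber h (b v') (φ (h'.asFiber u'))
  have e3 : (h.fiberι (b v')) (φ (h'.asFiber u')) = a u' := by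
    have := congrArg (fun g : h'.fiber v' ⟶ U => g (h'.asFiber u')) hφ1
    simp only [Scheme.Hom.comp_apply] at this
    rw [this, Scheme.Hom.fiberι_asFiber]
  rw [e3] at e2
  rw [← e2, ← e1]
  rfl

end Sch

end Groth.Agent.H70.LocalDimEtale
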