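import Mathlib
import Groth.Agent.H9.LocalDimField
import Groth.Agent.H70.LocalDimEtale

/-!
# Fibre dimension of a morphism smooth of relative dimension `n`
-/

set_option autoImplicit false
set_option linter.style.haveILetI false
universe u
open AlgebraicGeometry CategoryTheory CategoryTheory.Limits TopologicalSpace Topology

namespace Groth.Agent.H70.SmoothFibreDim

/-- The local dimension of the spectrum of a finite type domain over a field is its dimension. -/
theorem localDim_of_isDomain (k : Type u) [Field k] (A : Type u) [CommRing A] [Algebra k A]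
    [Algebra.FiniteType k A] [IsDomain A] (p : PrimeSpectrum A) :
    FlatMor.localDim (PrimeSpectrum A) p = ringKrullDim A := by
  rw [Groth.Agent.H9.LocalDimField.localDim_eq_iSup k A p]
  have hbot : (⊥ : Ideal A) ∈ minimalPrimes A := by
    rw [IsDomain.minimalPrimes_eq_singleton_bot]; rfl
  have hq : ∀ q0 : {q0 : PrimeSpectrum A // q0.asIdeal ∈ minimalPrimes A ∧ q0 ≤ p},
      ringKrullDim (A ⧸ q0.1.asIdeal) = ringKrullDim A := by
    rintro ⟨q0, h1, -⟩
    rw [IsDomain.minimalPrimes_eq_singleton_bot] at h1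
    have h1' : q0.asIdeal = ⊥ := h1
    exact ringKrullDim_eq_of_ringEquiv
      ((Ideal.quotEquivOfEq h1').trans (RingEquiv.quotientBot A))
  haveI : Nonempty {q0 : PrimeSpectrum A // q0.asIdeal ∈ minimalPrimes A ∧ q0 ≤ p} :=
    ⟨⟨⟨⊥, Ideal.isPrime_bot⟩, hbot, bot_le (a := p.asIdeal)⟩⟩
  simp only [hq]
  exact ciSup_const

theorem localDim_mvPolynomial (k : Type u) [Field k] (n : ℕ)
    (p : PrimeSpectrum (MvPolynomial (Fin n) k)) :
    FlatMor.localDim (PrimeSpectrum (MvPolynomial (Fin n) k)) p = (n : WithBot ℕ∞) := by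
  rw [localDim_of_isDomain k, MvPolynomial.ringKrullDim_of_isNoetherianRing,
    ringKrullDim_eq_zero_of_field]
  simp

open Groth.Agent.H70.LocalDimEtale

/-- The fibres of a morphism smooth of relative dimension `n` have local dimension `n`
everywhere. -/
theorem fibreDimAt_eq (n : ℕ) {X Y : Scheme.{u}} (f : X ⟶ Y)
    [SmoothOfRelativeDimension n f] (x : X) :
    FlatMor.fibreDimAt f x = (n : WithBot ℕ∞) := by
  let y := f x
  let g := f.fiberToSpecResidueField y
  haveI := smoothOfRelativeDimension_isStableUnderBaseChange n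
  haveI : SmoothOfRelativeDimension n g :=
    MorphismProperty.pullback_snd (P := @SmoothOfRelativeDimension n) _ _ inferInstance
  let x' := f.asFiber x
  obtain ⟨U, hU, V, hV, hx, e, hf⟩ :=
    SmoothOfRelativeDimension.exists_isStandardSmoothOfRelativeDimension (n := n) (f := g) x'
  have hUtop : U = ⊤ := by
    ext z
    simp only [Opens.coe_top, Set.mem_univ, iff_true, SetLike.mem_coe]
    have hz : z = g x' := Subsingleton.elim _ _
    rw [hz]
    exact e hx
  subst hUtop
  have hR : IsField Γ(Spec (Y.residueField y), ⊤) :=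
    MulEquiv.isField (Field.toIsField (Y.residueField y))
      (Scheme.ΓSpecIso (Y.residueField y)).commRingCatIsoToRingEquiv.toMulEquiv
  letI : Field Γ(Spec (Y.residueField y), ⊤) := hR.toField
  obtain ⟨ψ, -, hψ2⟩ := hf.exists_etale_mvPolynomial
  let φ : Spec Γ(f.fiber y, V) ⟶
      Spec (CommRingCat.of (MvPolynomial (Fin n) Γ(Spec (Y.residueField y), ⊤))) :=
    Spec.map (CommRingCat.ofHom ψ)
  haveI : Etale φ := (HasRingHomProperty.Spec_iff (P := @Etale)).mpr hψ2
  obtain ⟨z, hz⟩ : ∃ z, hV.fromSpec z = x' := by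
    have hx2 : x' ∈ Set.range hV.fromSpec := by rw [hV.range_fromSpec]; exact hx
    exact hx2
  have e1 := localDim_eq_of_etale hV.fromSpec z
  have e2 := localDim_eq_of_etale φ z
  rw [hz] at e1
  show FlatMor.localDim (f.fiber y) x' = n
  rw [← e1, e2]
  exact localDim_mvPolynomial Γ(Spec (Y.residueField y), ⊤) n _

end Groth.Agent.H70.SmoothFibreDim
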