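import Mathlib
import Groth.Agent.H70.GeomUnibranchNbhd
import Groth.Agent.H47.HensCompletion

/-!
# Counting minimal primes of (strict) henselizations via étale algebras (ring level)
-/

set_option autoImplicit false
set_option linter.style.haveILetI false
universe u
open IsLocalRing

namespace Groth.Agent.H70.BranchCountRing

open Groth.Agent.H70.SpreadEtale Groth.Agent.H70.UnramUnibranch

/-- A bound on a cardinality from bounds on finite subsets. -/
theorem encard_le_of_forall_finset {α : Type*} (T : Set α) (c : ℕ∞)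
    (h : ∀ F : Finset α, (∀ x ∈ F, x ∈ T) → (F.card : ℕ∞) ≤ c) : T.encard ≤ c := by
  classical
  by_cases hfin : T.Finite
  · have h1 := h hfin.toFinset (fun x hx => (hfin.mem_toFinset).mp hx)
    rwa [← hfin.encard_eq_coe_toFinset_card] at h1
  · have hinf : T.Infinite := hfin
    have hc : c = ⊤ := by
      rw [ENat.eq_top_iff_forall_ge]
      intro n
      obtain ⟨F, hF, hcard⟩ := hinf.exists_subset_card_eq n
      have := h F (fun x hx => hF hx)
      rwa [hcard] at this
    rw [hc]
    exact le_top

/-- (≥) direction: counting minimal primes below `q'` against those of a flat local target. -/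
theorem encard_minimalPrimes_le_of_flat_local {E : Type u} [CommRing E] (q' : Ideal E)
    [q'.IsPrime] (S : Type u) [CommRing S] [IsLocalRing S]
    (ψ0 : Localization.AtPrime q' →+* S) (hψloc : IsLocalHom ψ0) (hψflat : ψ0.Flat) :
    {P : Ideal E | P ∈ minimalPrimes E ∧ P ≤ q'}.encard ≤ ENat.card (minimalPrimes S) := by
  classical
  letI algL : Algebra (Localization.AtPrime q') S := ψ0.toAlgebra
  haveI : IsLocalHom (algebraMap (Localization.AtPrime q') S) := hψloc
  haveI : Module.Flat (Localization.AtPrime q') S := hψflat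
  haveI : Module.FaithfullyFlat (Localization.AtPrime q') S :=
    Module.FaithfullyFlat.of_flat_of_isLocalHom
  let θ : E →+* S :=
    (algebraMap (Localization.AtPrime q') S).comp (algebraMap E (Localization.AtPrime q'))
  have key : ∀ (q1 : Ideal E), q1 ∈ minimalPrimes E → q1 ≤ q' →
      ∃ M ∈ minimalPrimes S, M.comap θ = q1 := by
    intro q1 hq1 h1
    haveI : q1.IsPrime := hq1.1.1
    have hdisj : Disjoint (q'.primeCompl : Set E) (q1 : Set E) := by
      rw [Set.disjoint_left]
      intro x hx hx1
      exact hx (h1 hx1)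
    let Q1 : Ideal (Localization.AtPrime q') := q1.map (algebraMap E (Localization.AtPrime q'))
    haveI hQ1 : Q1.IsPrime :=
      IsLocalization.isPrime_of_isPrime_disjoint q'.primeCompl _ q1 inferInstance hdisj
    have hQ1c : Q1.comap (algebraMap E (Localization.AtPrime q')) = q1 :=
      IsLocalization.under_map_of_isPrime_disjoint q'.primeCompl _ inferInstance hdisj
    obtain ⟨N1, hN1⟩ := PrimeSpectrum.comap_surjective_of_faithfullyFlat
      (A := Localization.AtPrime q') (B := S) ⟨Q1, hQ1⟩
    have hN1' : N1.asIdeal.comap (algebraMap (Localization.AtPrime q') S) = Q1 :=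
      congrArg PrimeSpectrum.asIdeal hN1
    obtain ⟨M, hM, hMle⟩ := Ideal.exists_minimalPrimes_le (I := ⊥) (J := N1.asIdeal) bot_le
    haveI : M.IsPrime := hM.1.1
    have hle : M.comap θ ≤ q1 := by
      rw [← hQ1c, ← hN1']
      show Ideal.comap θ M ≤ Ideal.comap (algebraMap E _)
        (Ideal.comap (algebraMap _ S) N1.asIdeal)
      rw [Ideal.comap_comap]
      exact Ideal.comap_mono hMle
    exact ⟨M, hM, le_antisymm hle (hq1.2 ⟨Ideal.comap_isPrime _ _, bot_le⟩ hle)⟩
  choose f hf1 hf2 using key
  let F : ↥{P : Ideal E | P ∈ minimalPrimes E ∧ P ≤ q'} → ↥(minimalPrimes S) :=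
    fun P => ⟨f P.1 P.2.1 P.2.2, hf1 P.1 P.2.1 P.2.2⟩
  have hF : Function.Injective F := by
    intro P P' h
    have h1 : f P.1 P.2.1 P.2.2 = f P'.1 P'.2.1 P'.2.2 := congrArg Subtype.val h
    apply Subtype.ext
    rw [← hf2 P.1 P.2.1 P.2.2, ← hf2 P'.1 P'.2.1 P'.2.2, h1]
  exact ENat.card_le_card_of_injective hF

/-- Contractions of minimal primes along a map from an étale algebra to a flat local algebra are
minimal primes below the contraction of the maximal ideal. -/
theorem comap_mem_minimalPrimes_of_etale {A0 : Type u} [CommRing A0] (S : Type u) [CommRing S]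
    [IsLocalRing S] [Algebra A0 S] [Module.Flat A0 S] (E0 : Type u) [CommRing E0] [Algebra A0 E0]
    [Algebra.Etale A0 E0] (φ0 : E0 →ₐ[A0] S) (M : Ideal S) (hM : M ∈ minimalPrimes S) :
    M.comap φ0.toRingHom ∈ minimalPrimes E0 ∧
      M.comap φ0.toRingHom ≤ (maximalIdeal S).comap φ0.toRingHom := by
  classical
  haveI : M.IsPrime := hM.1.1
  refine ⟨?_, Ideal.comap_mono (IsLocalRing.le_maximalIdeal (Ideal.IsPrime.ne_top ‹_›))⟩
  let q0 : Ideal E0 := (maximalIdeal S).comap φ0.toRingHom
  haveI : q0.IsPrime := Ideal.comap_isPrime _ _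
  have hunit : ∀ y : q0.primeCompl, IsUnit (φ0.toRingHom y) := fun y => by
    by_contra h
    exact y.2 ((mem_maximalIdeal _).mpr h)
  let χ : Localization.AtPrime q0 →+* S :=
    IsLocalization.lift (M := q0.primeCompl) (S := Localization.AtPrime q0) (g := φ0.toRingHom)
      hunit
  have hχ : ∀ e : E0, χ (algebraMap E0 (Localization.AtPrime q0) e) = φ0 e :=
    fun e => IsLocalization.lift_eq hunit e
  letI : Algebra (Localization.AtPrime q0) S := χ.toAlgebra
  haveI : IsScalarTower A0 (Localization.AtPrime q0) S := IsScalarTower.of_algebraMap_eq fun a => by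
    show algebraMap A0 S a = χ (algebraMap A0 (Localization.AtPrime q0) a)
    rw [IsScalarTower.algebraMap_apply A0 E0 (Localization.AtPrime q0), hχ, φ0.commutes]
  haveI : Module.Flat (Localization.AtPrime q0) S :=
    Algebra.FormallyUnramified.flat_of_restrictScalars A0 _ S
  have h1 := Groth.Agent.H47.HensCompletion.comap_mem_minimalPrimes
    (S := Localization.AtPrime q0) (T := S) hM
  have h2 := IsLocalization.minimalPrimes_map q0.primeCompl (Localization.AtPrime q0)
    (⊥ : Ideal E0)
  rw [Ideal.map_bot] at h2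
  have h3 : (M.comap (algebraMap (Localization.AtPrime q0) S)).under E0 ∈
      (⊥ : Ideal E0).minimalPrimes := by
    have : M.comap (algebraMap (Localization.AtPrime q0) S) ∈
        (⊥ : Ideal (Localization.AtPrime q0)).minimalPrimes := h1
    rw [h2] at this
    exact this
  have h4 : (M.comap (algebraMap (Localization.AtPrime q0) S)).under E0 =
      M.comap φ0.toRingHom := by
    rw [Ideal.under_def, Ideal.comap_comap]
    congr 1
    ext e
    exact hχ e
  rw [← h4]
  exact h3


/-- (≤) direction: finitely many minimal primes of an ind-étale local algebra are separated by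
an étale algebra over the chart. -/
theorem exists_etale_card_le {A0 : Type u} [CommRing A0] (p : Ideal A0) [p.IsPrime]
    (Rp : Type u) [CommRing Rp] [IsLocalRing Rp] [Algebra A0 Rp] [IsLocalization.AtPrime Rp p]
    (S : Type u) [CommRing S] [IsLocalRing S] [Algebra Rp S] [Algebra A0 S] [IsScalarTower A0 Rp S]
    (hI : Groth.Agent.H47.HensNoeth.IsIndEtaleLocal Rp S)
    (F : Finset (Ideal S)) (hF : ∀ M ∈ F, M ∈ minimalPrimes S) :
    ∃ (E0 : Type u) (_ : CommRing E0) (_ : Algebra A0 E0) (_ : Algebra.Etale A0 E0)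
      (φ0 : E0 →ₐ[A0] S),
      (F.card : ℕ∞) ≤ {P : Ideal E0 | P ∈ minimalPrimes E0 ∧
        P ≤ (maximalIdeal S).comap φ0.toRingHom}.encard := by
  classical
  haveI : Module.Flat Rp S := hI.flat
  haveI : Module.Flat A0 Rp := IsLocalization.flat Rp p.primeCompl
  haveI : Module.Flat A0 S := Module.Flat.trans A0 Rp S
  have hT : ∀ t ∈ p.primeCompl, IsUnit (algebraMap A0 S t) := fun t ht => by
    rw [IsScalarTower.algebraMap_apply A0 Rp S]
    exact (IsLocalization.map_units Rp (⟨t, ht⟩ : p.primeCompl)).map (algebraMap Rp S)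
  let sep : Ideal S → Ideal S → S := fun M M' =>
    if h : ∃ x, x ∈ M ∧ x ∉ M' then h.choose else 0
  have hsep : ∀ M ∈ F, ∀ M' ∈ F, M ≠ M' → sep M M' ∈ M ∧ sep M M' ∉ M' := by
    intro M hM M' hM' hne
    have hex : ∃ x, x ∈ M ∧ x ∉ M' := by
      by_contra hcon
      push Not at hcon
      have hle : M ≤ M' := fun x hx => hcon x hx
      exact hne (le_antisymm hle ((hF M' hM').2 (hF M hM).1 hle))
    simp only [sep, dif_pos hex]
    exact hex.choose_spec
  let Y : Finset S := (F ×ˢ F).image (fun MM => sep MM.1 MM.2)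
  obtain ⟨E, _, _, _, φ, hφ⟩ := hI.rep Y
  choose! pre hpre using hφ
  letI : Algebra A0 E := ((algebraMap Rp E).comp (algebraMap A0 Rp)).toAlgebra
  haveI : IsScalarTower A0 Rp E := IsScalarTower.of_algebraMap_eq (fun _ => rfl)
  let φA : E →ₐ[A0] S := φ.restrictScalars A0
  obtain ⟨E0, _, _, _, φ0, h0⟩ := exists_etale_model p Rp E S hT φA (Y.image pre)
  refine ⟨E0, inferInstance, inferInstance, inferInstance, φ0, ?_⟩
  have hmem : ∀ M ∈ F, M.comap φ0.toRingHom ∈ {P : Ideal E0 | P ∈ minimalPrimes E0 ∧
      P ≤ (maximalIdeal S).comap φ0.toRingHom} :=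
    fun M hM => comap_mem_minimalPrimes_of_etale S E0 φ0 M (hF M hM)
  have hinj : Set.InjOn (fun M : Ideal S => M.comap φ0.toRingHom) (F : Set (Ideal S)) := by
    intro M hM M' hM' heq
    by_contra hne
    obtain ⟨hx1, hx2⟩ := hsep M hM M' hM' hne
    have hxY : sep M M' ∈ Y :=
      Finset.mem_image.mpr ⟨(M, M'), Finset.mem_product.mpr ⟨hM, hM'⟩, rfl⟩
    obtain ⟨e, w, hw, he⟩ := h0 (pre (sep M M')) (Finset.mem_image_of_mem pre hxY)
    have he' : φ0 e = w * sep M M' := by
      rw [he]
      congr 1
      exact hpre (sep M M') hxY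
    have h1 : e ∈ M.comap φ0.toRingHom := by
      show φ0 e ∈ M
      rw [he']
      exact M.mul_mem_left _ hx1
    have h2 : e ∉ M'.comap φ0.toRingHom := by
      intro h
      have h3 : w * sep M M' ∈ M' := he' ▸ h
      haveI hM'p : M'.IsPrime := (hF M' hM').1.1
      rcases hM'p.mem_or_mem h3 with h4 | h4
      · exact hM'p.ne_top (Ideal.eq_top_of_isUnit_mem _ h4 hw)
      · exact hx2 h4
    have heq' : M.comap φ0.toRingHom = M'.comap φ0.toRingHom := heq
    rw [heq'] at h1
    exact h2 h1
  calc (F.card : ℕ∞) = (F : Set (Ideal S)).encard := (Set.encard_coe_eq_coe_finsetCard F).symm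
    _ = ((fun M : Ideal S => M.comap φ0.toRingHom) '' (F : Set (Ideal S))).encard :=
        hinj.encard_image.symm
    _ ≤ _ := Set.encard_le_encard (by
        rintro _ ⟨M, hM, rfl⟩
        exact hmem M hM)

end Groth.Agent.H70.BranchCountRing
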