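import Mathlib
import Groth.Agent.H70.BranchCountRing
import Groth.Agent.H47.StrictQuot
import Groth.Agent.H47.Hens4
import Groth.Agent.S13598
import Groth.Agent.S9238
import Groth.Agent.S9237

/-!
# Branch counts of quotients via (strict) henselizations; minimal primes over an ideal (ring level)
-/

set_option autoImplicit false
set_option linter.style.haveILetI false
universe u
open IsLocalRing

namespace Groth.Agent.H70.FibreBranchRing

open Groth.Agent.H70.SpreadEtale Groth.Agent.H70.UnramUnibranch Groth.Agent.H70.BranchCountRing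

section GoingDown

variable {S T : Type*} [CommRing S] [CommRing T] [Algebra S T] [Module.Flat S T]

/-- Going down: contraction of a prime minimal over `J T` is minimal over `J`. -/
theorem comap_mem_minimalPrimes_over {J : Ideal S} {P : Ideal T}
    (hP : P ∈ (J.map (algebraMap S T)).minimalPrimes) :
    P.comap (algebraMap S T) ∈ J.minimalPrimes := by
  haveI : P.IsPrime := hP.1.1
  haveI : (P.comap (algebraMap S T)).IsPrime := Ideal.comap_isPrime _ _
  refine ⟨⟨inferInstance, Ideal.map_le_iff_le_comap.mp hP.1.2⟩, ?_⟩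
  rintro q ⟨hq, hJq⟩ hle
  haveI := hq
  haveI : P.LiesOver (P.comap (algebraMap S T)) := ⟨rfl⟩
  obtain ⟨Q, hQP, hQ, hQq⟩ := Ideal.exists_ideal_le_liesOver_of_le (p := q)
    (q := P.comap (algebraMap S T)) P hle
  have hJQ : J.map (algebraMap S T) ≤ Q := by
    rw [Ideal.map_le_iff_le_comap]
    have : q = Q.comap (algebraMap S T) := hQq.over
    rw [← this]
    exact hJq
  have hPQ : P ≤ Q := hP.2 ⟨hQ, hJQ⟩ hQP
  have hQeq : Q = P := le_antisymm hQP hPQ
  rw [hQq.over, hQeq]

end GoingDown

/-- Relative version of `comap_mem_minimalPrimes_of_etale`. -/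
theorem comap_mem_minimalPrimes_of_etale_over {A0 : Type u} [CommRing A0] (S : Type u) [CommRing S]
    [IsLocalRing S] [Algebra A0 S] [Module.Flat A0 S] (E0 : Type u) [CommRing E0] [Algebra A0 E0]
    [Algebra.Etale A0 E0] (φ0 : E0 →ₐ[A0] S) (J : Ideal A0) (M : Ideal S)
    (hM : M ∈ (J.map (algebraMap A0 S)).minimalPrimes) :
    M.comap φ0.toRingHom ∈ (J.map (algebraMap A0 E0)).minimalPrimes ∧
      M.comap φ0.toRingHom ≤ (maximalIdeal S).comap φ0.toRingHom := by
  classical
  haveI : M.IsPrime := hM.1.1
  refine ⟨?_, Ideal.comap_mono (IsLocalRing.le_maximalIdeal (Ideal.IsPrime.ne_top ‹_›))⟩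
  let q0 : Ideal E0 := (maximalIdeal S).comap φ0.toRingHom
  haveI : q0.IsPrime := Ideal.comap_isPrime _ _
  have hunit : ∀ y : q0.primeCompl, IsUnit (φ0.toRingHom y) := fun y => by
    by_contra h
    exact y.2 ((mem_maximalIdeal _).mpr h)
  let χ : Localization.AtPrime q0 →+* S :=
    IsLocalization.lift (M := q0.primeCompl) (S := Localization.AtPrime q0) (g := φ0.toRingHom)
      hunit
  have hχ : ∀ e : E0, χ (algebraMap E0 (Localization.AtPrime q0) e) = φ0 e :=
    fun e => IsLocalization.lift_eq hunit e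
  letI : Algebra (Localization.AtPrime q0) S := χ.toAlgebra
  haveI : IsScalarTower A0 (Localization.AtPrime q0) S := IsScalarTower.of_algebraMap_eq fun a => by
    show algebraMap A0 S a = χ (algebraMap A0 (Localization.AtPrime q0) a)
    rw [IsScalarTower.algebraMap_apply A0 E0 (Localization.AtPrime q0), hχ, φ0.commutes]
  haveI : Module.Flat (Localization.AtPrime q0) S :=
    Algebra.FormallyUnramified.flat_of_restrictScalars A0 _ S
  let JE : Ideal E0 := J.map (algebraMap A0 E0)
  have hJmap : (JE.map (algebraMap E0 (Localization.AtPrime q0))).map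
      (algebraMap (Localization.AtPrime q0) S) = J.map (algebraMap A0 S) := by
    rw [Ideal.map_map, Ideal.map_map]
    congr 1
    ext a
    show χ (algebraMap E0 (Localization.AtPrime q0) (algebraMap A0 E0 a)) = _
    rw [hχ, φ0.commutes]
  have h1 : M.comap (algebraMap (Localization.AtPrime q0) S) ∈
      (JE.map (algebraMap E0 (Localization.AtPrime q0))).minimalPrimes := by
    apply comap_mem_minimalPrimes_over
    rw [hJmap]
    exact hM
  have h2 := IsLocalization.minimalPrimes_map q0.primeCompl (Localization.AtPrime q0) JE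
  have h3 : (M.comap (algebraMap (Localization.AtPrime q0) S)).under E0 ∈ JE.minimalPrimes := by
    rw [h2] at h1
    exact h1
  have h4 : (M.comap (algebraMap (Localization.AtPrime q0) S)).under E0 =
      M.comap φ0.toRingHom := by
    rw [Ideal.under_def, Ideal.comap_comap]
    congr 1
    ext e
    exact hχ e
  rw [← h4]
  exact h3

/-- Relative version of `exists_etale_card_le`: finitely many primes of an ind-étale local algebra
minimal over `J S` are separated by an étale algebra over the chart. -/
theorem exists_etale_card_le_over {A0 : Type u} [CommRing A0] (p : Ideal A0) [p.IsPrime]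
    (Rp : Type u) [CommRing Rp] [IsLocalRing Rp] [Algebra A0 Rp] [IsLocalization.AtPrime Rp p]
    (S : Type u) [CommRing S] [IsLocalRing S] [Algebra Rp S] [Algebra A0 S] [IsScalarTower A0 Rp S]
    (hI : Groth.Agent.H47.HensNoeth.IsIndEtaleLocal Rp S) (J : Ideal A0)
    (F : Finset (Ideal S)) (hF : ∀ M ∈ F, M ∈ (J.map (algebraMap A0 S)).minimalPrimes) :
    ∃ (E0 : Type u) (_ : CommRing E0) (_ : Algebra A0 E0) (_ : Algebra.Etale A0 E0)
      (φ0 : E0 →ₐ[A0] S),
      (F.card : ℕ∞) ≤ {P : Ideal E0 | P ∈ (J.map (algebraMap A0 E0)).minimalPrimes ∧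
        P ≤ (maximalIdeal S).comap φ0.toRingHom}.encard := by
  classical
  haveI : Module.Flat Rp S := hI.flat
  haveI : Module.Flat A0 Rp := IsLocalization.flat Rp p.primeCompl
  haveI : Module.Flat A0 S := Module.Flat.trans A0 Rp S
  have hT : ∀ t ∈ p.primeCompl, IsUnit (algebraMap A0 S t) := fun t ht => by
    rw [IsScalarTower.algebraMap_apply A0 Rp S]
    exact (IsLocalization.map_units Rp (⟨t, ht⟩ : p.primeCompl)).map (algebraMap Rp S)
  let sep : Ideal S → Ideal S → S := fun M M' =>
    if h : ∃ x, x ∈ M ∧ x ∉ M' then h.choose else 0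
  have hsep : ∀ M ∈ F, ∀ M' ∈ F, M ≠ M' → sep M M' ∈ M ∧ sep M M' ∉ M' := by
    intro M hM M' hM' hne
    have hex : ∃ x, x ∈ M ∧ x ∉ M' := by
      by_contra hcon
      push Not at hcon
      have hle : M ≤ M' := fun x hx => hcon x hx
      exact hne (le_antisymm hle ((hF M' hM').2 (hF M hM).1 hle))
    simp only [sep, dif_pos hex]
    exact hex.choose_spec
  let Y : Finset S := (F ×ˢ F).image (fun MM => sep MM.1 MM.2)
  obtain ⟨E, _, _, _, φ, hφ⟩ := hI.rep Y
  choose! pre hpre using hφ
  letI : Algebra A0 E := ((algebraMap Rp E).comp (algebraMap A0 Rp)).toAlgebra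
  haveI : IsScalarTower A0 Rp E := IsScalarTower.of_algebraMap_eq (fun _ => rfl)
  let φA : E →ₐ[A0] S := φ.restrictScalars A0
  obtain ⟨E0, _, _, _, φ0, h0⟩ := exists_etale_model p Rp E S hT φA (Y.image pre)
  refine ⟨E0, inferInstance, inferInstance, inferInstance, φ0, ?_⟩
  have hmem : ∀ M ∈ F, M.comap φ0.toRingHom ∈
      {P : Ideal E0 | P ∈ (J.map (algebraMap A0 E0)).minimalPrimes ∧
      P ≤ (maximalIdeal S).comap φ0.toRingHom} :=
    fun M hM => comap_mem_minimalPrimes_of_etale_over S E0 φ0 J M (hF M hM)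
  have hinj : Set.InjOn (fun M : Ideal S => M.comap φ0.toRingHom) (F : Set (Ideal S)) := by
    intro M hM M' hM' heq
    by_contra hne
    obtain ⟨hx1, hx2⟩ := hsep M hM M' hM' hne
    have hxY : sep M M' ∈ Y :=
      Finset.mem_image.mpr ⟨(M, M'), Finset.mem_product.mpr ⟨hM, hM'⟩, rfl⟩
    obtain ⟨e, w, hw, he⟩ := h0 (pre (sep M M')) (Finset.mem_image_of_mem pre hxY)
    have he' : φ0 e = w * sep M M' := by
      rw [he]
      congr 1
      exact hpre (sep M M') hxY
    have h1 : e ∈ M.comap φ0.toRingHom := by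
      show φ0 e ∈ M
      rw [he']
      exact M.mul_mem_left _ hx1
    have h2 : e ∉ M'.comap φ0.toRingHom := by
      intro h
      have h3 : w * sep M M' ∈ M' := he' ▸ h
      haveI hM'p : M'.IsPrime := (hF M' hM').1.1
      rcases hM'p.mem_or_mem h3 with h4 | h4
      · exact hM'p.ne_top (Ideal.eq_top_of_isUnit_mem _ h4 hw)
      · exact hx2 h4
    have heq' : M.comap φ0.toRingHom = M'.comap φ0.toRingHom := heq
    rw [heq'] at h1
    exact h2 h1
  calc (F.card : ℕ∞) = (F : Set (Ideal S)).encard := (Set.encard_coe_eq_coe_finsetCard F).symm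
    _ = ((fun M : Ideal S => M.comap φ0.toRingHom) '' (F : Set (Ideal S))).encard :=
        hinj.encard_image.symm
    _ ≤ _ := Set.encard_le_encard (by
        rintro _ ⟨M, hM, rfl⟩
        exact hmem M hM)

/-! ### Transport of (strict) henselizations along ring isomorphisms of the base -/

theorem isStrictHenselization_of_ringEquiv {A B S : Type u} [CommRing A] [IsLocalRing A]
    [CommRing B] [IsLocalRing B] [CommRing S] [IsLocalRing S] [Algebra A S]
    [IsLocalHom (algebraMap A S)] [Hensel.IsStrictHenselization A S] [Algebra B S]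
    [IsLocalHom (algebraMap B S)] (e : B ≃+* A)
    (he : ∀ b, algebraMap B S b = algebraMap A S (e b)) : Hensel.IsStrictHenselization B S := by
  have hcl := Hensel.IsStrictHenselization.isSepClosure (R := A) (S := S)
  refine ⟨Hensel.IsStrictHenselization.henselian (R := A), ⟨hcl.sep_closed, ?_⟩, ?_⟩
  · haveI := hcl.separable
    let e₁ : ResidueField A ≃+* ResidueField B := ResidueField.mapEquiv e.symm
    refine Algebra.IsSeparable.of_equiv_equiv e₁ (RingEquiv.refl (ResidueField S)) ?_
    ext z
    obtain ⟨a, rfl⟩ := residue_surjective z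
    show algebraMap (ResidueField B) (ResidueField S) (residue B (e.symm a)) =
      algebraMap (ResidueField A) (ResidueField S) (residue A a)
    show residue S (algebraMap B S (e.symm a)) = residue S (algebraMap A S a)
    rw [he, RingEquiv.apply_symm_apply]
  · intro T _ _ f _ τ hτ
    let f' : A →+* T := f.comp e.symm.toRingHom
    haveI : IsLocalHom e.symm.toRingHom := by
      constructor
      intro a ha
      have := ha.map e.toRingHom
      simpa using this
    haveI : IsLocalHom f' := RingHom.isLocalHom_comp _ _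
    have hτ' : τ.comp (ResidueField.map (algebraMap A S)) = ResidueField.map f' := by
      ext z
      obtain ⟨a, rfl⟩ := residue_surjective z
      have h1 := congrArg (fun ψ => ψ (residue B (e.symm a))) hτ
      simp only [RingHom.comp_apply, ResidueField.map_residue] at h1
      rw [he, RingEquiv.apply_symm_apply] at h1
      simp only [RingHom.comp_apply, ResidueField.map_residue]
      exact h1
    obtain ⟨g, ⟨hg1, hg2⟩, huniq⟩ :=
      Hensel.IsStrictHenselization.universal (R := A) (S := S) T f' τ hτ'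
    refine ⟨g, ⟨?_, hg2⟩, ?_⟩
    · ext b
      have h1 := congrArg (fun ψ => ψ (e b)) hg1
      simp only [RingHom.comp_apply] at h1
      rw [RingHom.comp_apply, he, h1]
      show f (e.symm (e b)) = f b
      rw [RingEquiv.symm_apply_apply]
    · rintro g' ⟨hg'1, hg'2⟩
      apply huniq
      refine ⟨?_, hg'2⟩
      ext a
      have h1 := congrArg (fun ψ => ψ (e.symm a)) hg'1
      simp only [RingHom.comp_apply] at h1
      rw [he, RingEquiv.apply_symm_apply] at h1
      rw [RingHom.comp_apply, h1]
      rfl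

theorem isHenselization_of_ringEquiv {A B S : Type u} [CommRing A] [IsLocalRing A]
    [CommRing B] [IsLocalRing B] [CommRing S] [IsLocalRing S] [Algebra A S]
    [IsLocalHom (algebraMap A S)] [Hensel.IsHenselization A S] [Algebra B S]
    [IsLocalHom (algebraMap B S)] (e : B ≃+* A)
    (he : ∀ b, algebraMap B S b = algebraMap A S (e b)) : Hensel.IsHenselization B S := by
  refine ⟨Hensel.IsHenselization.henselian (R := A), ?_⟩
  intro T _ _ f hf
  let f' : A →+* T := f.comp e.symm.toRingHom
  haveI : IsLocalHom e.symm.toRingHom := by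
    constructor
    intro a ha
    have := ha.map e.toRingHom
    simpa using this
  haveI := hf
  have hf' : IsLocalHom f' := RingHom.isLocalHom_comp _ _
  obtain ⟨g, hg1, huniq⟩ := Hensel.IsHenselization.universal (R := A) (S := S) T f' hf'
  refine ⟨g, ?_, ?_⟩
  · ext b
    have h1 := congrArg (fun ψ => ψ (e b)) hg1
    simp only [RingHom.comp_apply] at h1
    rw [RingHom.comp_apply, he, h1]
    show f (e.symm (e b)) = f b
    rw [RingEquiv.symm_apply_apply]
  · intro g' hg'1
    apply huniq
    ext a
    have h1 := congrArg (fun ψ => ψ (e.symm a)) hg'1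
    simp only [RingHom.comp_apply] at h1
    rw [he, RingEquiv.apply_symm_apply] at h1
    rw [RingHom.comp_apply, h1]
    rfl

theorem isLocalHom_ringEquiv {A B : Type*} [CommRing A] [CommRing B] (e : B ≃+* A) :
    IsLocalHom e.toRingHom := by
  constructor
  intro a ha
  have := ha.map e.symm.toRingHom
  simpa using this

theorem numGeomBranches_eq_of_ringEquiv {A B : Type u} [CommRing A] [IsLocalRing A]
    [CommRing B] [IsLocalRing B] (e : B ≃+* A) :
    Brnch.numGeomBranches B = Brnch.numGeomBranches A := by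
  obtain ⟨S, _, _, _, _, hsh⟩ := Groth.Agent.S0537.result A
  haveI := hsh
  letI : Algebra B S := ((algebraMap A S).comp e.toRingHom).toAlgebra
  haveI : IsLocalHom e.toRingHom := isLocalHom_ringEquiv e
  haveI : IsLocalHom (algebraMap B S) :=
    RingHom.isLocalHom_comp (algebraMap A S) e.toRingHom
  haveI := isStrictHenselization_of_ringEquiv (S := S) e (fun _ => rfl)
  rw [← Groth.Agent.S9238.result A S, ← Groth.Agent.S9238.result B S]

theorem numBranches_eq_of_ringEquiv {A B : Type u} [CommRing A] [IsLocalRing A]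
    [CommRing B] [IsLocalRing B] (e : B ≃+* A) :
    Brnch.numBranches B = Brnch.numBranches A := by
  let S := Groth.Agent.H47.Hens.Hloc A
  letI : Algebra B S := ((algebraMap A S).comp e.toRingHom).toAlgebra
  haveI : IsLocalHom e.toRingHom := isLocalHom_ringEquiv e
  haveI : IsLocalHom (algebraMap B S) :=
    RingHom.isLocalHom_comp (algebraMap A S) e.toRingHom
  haveI := isHenselization_of_ringEquiv (S := S) e (fun _ => rfl)
  rw [← Groth.Agent.S9237.result A S, ← Groth.Agent.S9237.result B S]

/-! ### Branch counts of a quotient -/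

theorem ker_le_maximalIdeal {Rp B : Type*} [CommRing Rp] [IsLocalRing Rp] [CommRing B]
    [Nontrivial B] (π : Rp →+* B) : RingHom.ker π ≤ maximalIdeal Rp := by
  intro a ha
  rw [mem_maximalIdeal, mem_nonunits_iff]
  intro hu
  have h1 : IsUnit (π a) := hu.map π
  rw [RingHom.mem_ker] at ha
  rw [ha] at h1
  exact not_isUnit_zero h1

theorem encard_minimalPrimes_quotient {R : Type*} [CommRing R] (J : Ideal R) :
    ENat.card (minimalPrimes (R ⧸ J)) = J.minimalPrimes.encard := by
  have hsurj : Function.Surjective (Ideal.Quotient.mk J) := Ideal.Quotient.mk_surjective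
  have h2 := Ideal.comap_minimalPrimes_eq_of_surjective hsurj (⊥ : Ideal (R ⧸ J))
  rw [← RingHom.ker_eq_comap_bot, Ideal.mk_ker] at h2
  rw [h2, (Ideal.comap_injective_of_surjective _ hsurj).injOn.encard_image]
  rfl

theorem numGeomBranches_eq_of_surjective {Rp B : Type u} [CommRing Rp] [IsLocalRing Rp]
    [CommRing B] [IsLocalRing B] (π : Rp →+* B) (hπ : Function.Surjective π)
    (Rsh : Type u) [CommRing Rsh] [IsLocalRing Rsh] [Algebra Rp Rsh]
    [IsLocalHom (algebraMap Rp Rsh)] [Hensel.IsStrictHenselization Rp Rsh] :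
    Brnch.numGeomBranches B = ((RingHom.ker π).map (algebraMap Rp Rsh)).minimalPrimes.encard := by
  have hI : RingHom.ker π ≤ maximalIdeal Rp := ker_le_maximalIdeal π
  have hJ : (RingHom.ker π).map (algebraMap Rp Rsh) ≤ maximalIdeal Rsh :=
    Groth.Agent.H47.Unibranch.map_le_maximalIdeal Rp _ hI
  haveI : IsLocalRing (Rp ⧸ RingHom.ker π) :=
    Groth.Agent.H47.Unibranch.isLocalRing_quotient _
      (fun h' => (IsLocalRing.maximalIdeal.isMaximal _).ne_top (top_le_iff.mp (h' ▸ hI)))
  haveI : IsLocalRing (Rsh ⧸ (RingHom.ker π).map (algebraMap Rp Rsh)) :=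
    Groth.Agent.H47.Unibranch.isLocalRing_quotient _
      (fun h' => (IsLocalRing.maximalIdeal.isMaximal _).ne_top (top_le_iff.mp (h' ▸ hJ)))
  haveI : IsLocalHom (algebraMap (Rp ⧸ RingHom.ker π)
      (Rsh ⧸ (RingHom.ker π).map (algebraMap Rp Rsh))) :=
    Groth.Agent.H47.Unibranch.isLocalHom_quotient_map Rp _ _
  haveI : Hensel.IsStrictHenselization (Rp ⧸ RingHom.ker π)
      (Rsh ⧸ (RingHom.ker π).map (algebraMap Rp Rsh)) :=
    Groth.Agent.H47.StrictQuot.isStrictHenselization_quotient (RingHom.ker π)
  rw [numGeomBranches_eq_of_ringEquiv (RingHom.quotientKerEquivOfSurjective hπ).symm,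
    ← Groth.Agent.S9238.result (Rp ⧸ RingHom.ker π)
      (Rsh ⧸ (RingHom.ker π).map (algebraMap Rp Rsh))]
  exact encard_minimalPrimes_quotient _

theorem numBranches_eq_of_surjective {Rp B : Type u} [CommRing Rp] [IsLocalRing Rp]
    [CommRing B] [IsLocalRing B] (π : Rp →+* B) (hπ : Function.Surjective π)
    (Rh : Type u) [CommRing Rh] [IsLocalRing Rh] [Algebra Rp Rh]
    [IsLocalHom (algebraMap Rp Rh)] [Hensel.IsHenselization Rp Rh] :
    Brnch.numBranches B = ((RingHom.ker π).map (algebraMap Rp Rh)).minimalPrimes.encard := by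
  have hI : RingHom.ker π ≤ maximalIdeal Rp := ker_le_maximalIdeal π
  have hJ : (RingHom.ker π).map (algebraMap Rp Rh) ≤ maximalIdeal Rh :=
    Groth.Agent.H47.Unibranch.map_le_maximalIdeal Rp _ hI
  haveI : IsLocalRing (Rp ⧸ RingHom.ker π) :=
    Groth.Agent.H47.Unibranch.isLocalRing_quotient _
      (fun h' => (IsLocalRing.maximalIdeal.isMaximal _).ne_top (top_le_iff.mp (h' ▸ hI)))
  haveI : IsLocalRing (Rh ⧸ (RingHom.ker π).map (algebraMap Rp Rh)) :=
    Groth.Agent.H47.Unibranch.isLocalRing_quotient _
      (fun h' => (IsLocalRing.maximalIdeal.isMaximal _).ne_top (top_le_iff.mp (h' ▸ hJ)))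
  haveI : IsLocalHom (algebraMap (Rp ⧸ RingHom.ker π)
      (Rh ⧸ (RingHom.ker π).map (algebraMap Rp Rh))) :=
    Groth.Agent.H47.Unibranch.isLocalHom_quotient_map Rp _ _
  haveI : Hensel.IsHenselization (Rp ⧸ RingHom.ker π)
      (Rh ⧸ (RingHom.ker π).map (algebraMap Rp Rh)) :=
    Groth.Agent.S13598.result (RingHom.ker π) hI
  rw [numBranches_eq_of_ringEquiv (RingHom.quotientKerEquivOfSurjective hπ).symm,
    ← Groth.Agent.S9237.result (Rp ⧸ RingHom.ker π)
      (Rh ⧸ (RingHom.ker π).map (algebraMap Rp Rh))]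
  exact encard_minimalPrimes_quotient _

end Groth.Agent.H70.FibreBranchRing
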