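import Mathlib
import Groth.Agent.H29.FlatCM
import Groth.Agent.H29.FiberStalkAt
import Groth.Agent.H9.FibreFormula

/-!
# Fibre dimension of a composition
-/

set_option autoImplicit false
set_option linter.style.haveILetI false
universe u
open AlgebraicGeometry CategoryTheory CategoryTheory.Limits IsLocalRing

namespace Groth.Agent.H70.FibDimComp

section Ring

variable {B C : Type u} [CommRing B] [CommRing C] [IsLocalRing B] [IsLocalRing C] [Algebra B C]
  [IsLocalHom (algebraMap B C)]

/-- For a local homomorphism `B → C` and a proper ideal `I` of `B` with `B/I`, `C/IC` Noetherian: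
`dim C/IC ≤ dim B/I + dim C/m_B C`, with equality when `C` is flat over `B`. -/
theorem dim_quot_le (I : Ideal B) (hI : I ≠ ⊤) [IsNoetherianRing (B ⧸ I)]
    [IsNoetherianRing (C ⧸ I.map (algebraMap B C))] :
    ringKrullDim (C ⧸ I.map (algebraMap B C)) ≤
        ringKrullDim (B ⧸ I) + ringKrullDim (C ⧸ (maximalIdeal B).map (algebraMap B C)) ∧
      (Module.Flat B C → ringKrullDim (C ⧸ I.map (algebraMap B C)) =
        ringKrullDim (B ⧸ I) + ringKrullDim (C ⧸ (maximalIdeal B).map (algebraMap B C))) := by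
  have hIle : I ≤ maximalIdeal B := le_maximalIdeal hI
  have hLle : (maximalIdeal B).map (algebraMap B C) ≤ maximalIdeal C :=
    map_maximalIdeal_le (algebraMap B C)
  have hJL : I.map (algebraMap B C) ≤ (maximalIdeal B).map (algebraMap B C) := Ideal.map_mono hIle
  have hJle : I.map (algebraMap B C) ≤ maximalIdeal C := hJL.trans hLle
  haveI : Nontrivial (B ⧸ I) := Ideal.Quotient.nontrivial_iff.mpr hI
  haveI : Nontrivial (C ⧸ I.map (algebraMap B C)) := Ideal.Quotient.nontrivial_iff.mpr
    (ne_top_of_le_ne_top (maximalIdeal.isMaximal C).ne_top hJle)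
  haveI hmkJ : IsLocalHom (Ideal.Quotient.mk (I.map (algebraMap B C))) :=
    IsLocalHom.of_surjective _ Ideal.Quotient.mk_surjective
  haveI : IsLocalRing (B ⧸ I) :=
    IsLocalRing.of_surjective' (Ideal.Quotient.mk I) Ideal.Quotient.mk_surjective
  haveI : IsLocalRing (C ⧸ I.map (algebraMap B C)) :=
    IsLocalRing.of_surjective' (Ideal.Quotient.mk _) Ideal.Quotient.mk_surjective
  haveI : IsLocalHom (algebraMap (B ⧸ I) (C ⧸ I.map (algebraMap B C))) := ⟨fun a ha => by
    obtain ⟨x, rfl⟩ := Ideal.Quotient.mk_surjective a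
    have h1 : IsUnit ((Ideal.Quotient.mk (I.map (algebraMap B C))) (algebraMap B C x)) := ha
    have h2 := (isUnit_map_iff (Ideal.Quotient.mk (I.map (algebraMap B C))) _).mp h1
    have h3 := (isUnit_map_iff (algebraMap B C) _).mp h2
    exact h3.map _⟩
  haveI : (maximalIdeal (C ⧸ I.map (algebraMap B C))).LiesOver (maximalIdeal (B ⧸ I)) :=
    ⟨(IsLocalRing.maximalIdeal_comap (algebraMap (B ⧸ I) (C ⧸ I.map (algebraMap B C)))).symm⟩
  -- the ideal `m_{B/I} (C/IC)` and the double quotient
  have hideal : (maximalIdeal (B ⧸ I)).map (algebraMap (B ⧸ I) (C ⧸ I.map (algebraMap B C))) =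
      ((maximalIdeal B).map (algebraMap B C)).map
        (Ideal.Quotient.mk (I.map (algebraMap B C))) := by
    rw [← Groth.Agent.H29.FlatCM.map_mk_maximalIdeal I hI, Ideal.map_map, Ideal.map_map]
    rfl
  have hne : ((maximalIdeal B).map (algebraMap B C)).map
      (Ideal.Quotient.mk (I.map (algebraMap B C))) ≠ ⊤ := by
    intro htop
    have h1 := congrArg (Ideal.comap (Ideal.Quotient.mk (I.map (algebraMap B C)))) htop
    rw [Ideal.comap_map_of_surjective _ Ideal.Quotient.mk_surjective, Ideal.comap_top,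
      ← RingHom.ker_eq_comap_bot, Ideal.mk_ker, sup_eq_left.mpr hJL] at h1
    exact (maximalIdeal.isMaximal C).ne_top (top_le_iff.mp (h1 ▸ hLle))
  haveI : Nontrivial ((C ⧸ I.map (algebraMap B C)) ⧸
      (maximalIdeal (B ⧸ I)).map (algebraMap (B ⧸ I) (C ⧸ I.map (algebraMap B C)))) :=
    Ideal.Quotient.nontrivial_iff.mpr (hideal ▸ hne)
  haveI : IsLocalRing ((C ⧸ I.map (algebraMap B C)) ⧸
      (maximalIdeal (B ⧸ I)).map (algebraMap (B ⧸ I) (C ⧸ I.map (algebraMap B C)))) :=
    IsLocalRing.of_surjective' (Ideal.Quotient.mk _) Ideal.Quotient.mk_surjective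
  have hmax : (maximalIdeal (C ⧸ I.map (algebraMap B C))).map (Ideal.Quotient.mk
      ((maximalIdeal (B ⧸ I)).map (algebraMap (B ⧸ I) (C ⧸ I.map (algebraMap B C))))) =
      maximalIdeal _ :=
    Groth.Agent.H29.FlatCM.map_mk_maximalIdeal _ (hideal ▸ hne)
  have hdimQ : ringKrullDim ((C ⧸ I.map (algebraMap B C)) ⧸
      (maximalIdeal (B ⧸ I)).map (algebraMap (B ⧸ I) (C ⧸ I.map (algebraMap B C)))) =
      ringKrullDim (C ⧸ (maximalIdeal B).map (algebraMap B C)) :=
    ringKrullDim_eq_of_ringEquiv ((Ideal.quotEquivOfEq hideal).trans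
      (DoubleQuot.quotQuotEquivQuotOfLE hJL))
  rw [← hdimQ, ← IsLocalRing.maximalIdeal_height_eq_ringKrullDim
      (R := C ⧸ I.map (algebraMap B C)),
    ← IsLocalRing.maximalIdeal_height_eq_ringKrullDim (R := B ⧸ I),
    ← IsLocalRing.maximalIdeal_height_eq_ringKrullDim
      (R := (C ⧸ I.map (algebraMap B C)) ⧸
        (maximalIdeal (B ⧸ I)).map (algebraMap (B ⧸ I) (C ⧸ I.map (algebraMap B C)))), ← hmax]
  constructor
  · exact_mod_cast Ideal.height_le_height_add_of_liesOver (maximalIdeal (B ⧸ I))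
      (maximalIdeal (C ⧸ I.map (algebraMap B C)))
  · intro hflat
    haveI : Module.Flat (B ⧸ I) (C ⧸ I.map (algebraMap B C)) :=
      Module.Flat.of_linearEquiv
        (Algebra.TensorProduct.quotIdealMapEquivQuotTensor C I).toLinearEquiv
    exact_mod_cast Ideal.height_eq_height_add_of_liesOver_of_hasGoingDown
      (maximalIdeal (B ⧸ I)) (maximalIdeal (C ⧸ I.map (algebraMap B C)))

end Ring

section Scheme

open Groth.Agent.H9.FibreFormula Groth.Agent.H29.FiberStalkAt

instance isLocallyNoetherian_fiber {X Y : Scheme.{u}} (f : X ⟶ Y) [LocallyOfFiniteType f] (y : Y) :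
    IsLocallyNoetherian (f.fiber y) :=
  inferInstanceAs (IsLocallyNoetherian (pullback f (Y.fromSpecResidueField y)))

set_option maxHeartbeats 800000 in
theorem fibreDimAt_comp {X Y S : Scheme.{u}} (f : X ⟶ Y) (g : Y ⟶ S) [LocallyOfFiniteType f]
    [LocallyOfFiniteType g] (x : X) :
    FlatMor.fibreDimAt (f ≫ g) x ≤ FlatMor.fibreDimAt f x + FlatMor.fibreDimAt g (f.base x) ∧
      ((f.stalkMap x).hom.Flat →
        FlatMor.fibreDimAt (f ≫ g) x =
          FlatMor.fibreDimAt f x + FlatMor.fibreDimAt g (f.base x)) := by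
  obtain ⟨n1, b1, ht1, hd1, hf1⟩ := fibre_formula f x
  obtain ⟨n2, b2, ht2, hd2, hf2⟩ := fibre_formula g (f.base x)
  obtain ⟨n3, b3, ht3, hd3, hf3⟩ := fibre_formula (f ≫ g) x
  -- transcendence degrees
  have hn : n3 = n2 + n1 := by
    letI a01 : Algebra (S.residueField (g.base (f.base x))) (Y.residueField (f.base x)) :=
      (g.residueFieldMap (f.base x)).hom.toAlgebra
    letI a12 : Algebra (Y.residueField (f.base x)) (X.residueField x) :=
      (f.residueFieldMap x).hom.toAlgebra
    letI a02 : Algebra (S.residueField (g.base (f.base x))) (X.residueField x) :=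
      ((f ≫ g).residueFieldMap x).hom.toAlgebra
    haveI : IsScalarTower (S.residueField (g.base (f.base x))) (Y.residueField (f.base x))
        (X.residueField x) := IsScalarTower.of_algebraMap_eq' (by
      show ((f ≫ g).residueFieldMap x).hom = _
      rw [Scheme.residueFieldMap_comp]
      rfl)
    have h := trdeg_add_eq (S.residueField (g.base (f.base x)))
      (Y.residueField (f.base x)) (A := X.residueField x)
    have ht3' : Algebra.trdeg (S.residueField (g.base (f.base x))) (X.residueField x) = n3 := ht3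
    have ht2' : Algebra.trdeg (S.residueField (g.base (f.base x))) (Y.residueField (f.base x)) =
        n2 := ht2
    have ht1' : Algebra.trdeg (Y.residueField (f.base x)) (X.residueField x) = n1 := ht1
    rw [ht3', ht2', ht1'] at h
    exact_mod_cast h.symm
  -- dimensions of the local rings of the fibres
  letI algBC : Algebra (Y.presheaf.stalk (f.base x)) (X.presheaf.stalk x) :=
    (f.stalkMap x).hom.toAlgebra
  haveI : IsLocalHom (algebraMap (Y.presheaf.stalk (f.base x)) (X.presheaf.stalk x)) :=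
    inferInstanceAs (IsLocalHom (f.stalkMap x).hom)
  set I : Ideal (Y.presheaf.stalk (f.base x)) :=
    (maximalIdeal (S.presheaf.stalk (g.base (f.base x)))).map (g.stalkMap (f.base x)).hom with hIdef
  have hI : I ≠ ⊤ :=
    ne_top_of_le_ne_top (maximalIdeal.isMaximal _).ne_top
      (map_maximalIdeal_le (g.stalkMap (f.base x)).hom)
  obtain ⟨eg⟩ := nonempty_fiberStalkEquiv g (f.base x)
  obtain ⟨ef⟩ := nonempty_fiberStalkEquiv f x
  obtain ⟨efg⟩ := nonempty_fiberStalkEquiv (f ≫ g) x
  have hIC : I.map (algebraMap (Y.presheaf.stalk (f.base x)) (X.presheaf.stalk x)) =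
      (maximalIdeal (S.presheaf.stalk ((f ≫ g).base x))).map ((f ≫ g).stalkMap x).hom := by
    rw [hIdef, Ideal.map_map, stalkMap_comp_hom]
    rfl
  haveI : IsNoetherianRing (Y.presheaf.stalk (f.base x) ⧸ I) :=
    isNoetherianRing_of_ringEquiv _ eg.symm
  haveI : IsNoetherianRing (X.presheaf.stalk x ⧸
      I.map (algebraMap (Y.presheaf.stalk (f.base x)) (X.presheaf.stalk x))) :=
    isNoetherianRing_of_ringEquiv _ ((Ideal.quotEquivOfEq hIC).trans efg).symm
  obtain ⟨hle, heq⟩ := dim_quot_le (B := Y.presheaf.stalk (f.base x)) (C := X.presheaf.stalk x) I hI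
  have e3 : ringKrullDim (X.presheaf.stalk x ⧸
      I.map (algebraMap (Y.presheaf.stalk (f.base x)) (X.presheaf.stalk x))) = b3 := by
    rw [ringKrullDim_eq_of_ringEquiv ((Ideal.quotEquivOfEq hIC).trans efg)]
    exact hd3
  have e2 : ringKrullDim (Y.presheaf.stalk (f.base x) ⧸ I) = b2 := by
    rw [ringKrullDim_eq_of_ringEquiv eg]
    exact hd2
  have e1 : ringKrullDim (X.presheaf.stalk x ⧸ (maximalIdeal (Y.presheaf.stalk (f.base x))).map
      (algebraMap (Y.presheaf.stalk (f.base x)) (X.presheaf.stalk x))) = b1 := by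
    rw [← hd1]
    exact ringKrullDim_eq_of_ringEquiv ef
  rw [e3, e2, e1] at hle heq
  have hle' : b3 ≤ b2 + b1 := by exact_mod_cast hle
  rw [hf1, hf2, hf3, hn]
  constructor
  · have : n2 + n1 + b3 ≤ (n1 + b1) + (n2 + b2) := by omega
    exact_mod_cast this
  · intro hflat
    have heq' : b3 = b2 + b1 := by exact_mod_cast heq hflat
    have : n2 + n1 + b3 = (n1 + b1) + (n2 + b2) := by omega
    exact_mod_cast this

end Scheme

end Groth.Agent.H70.FibDimComp
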