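import Mathlib
import Groth.Agent.H60.Miracle
import Groth.Agent.H70.FibDimComp
import Groth.Prelude.Def_Cyc

/-!
# Relative dimension `d` is the pointwise condition `fibreDimAt = d`
-/

set_option autoImplicit false
set_option linter.style.haveILetI false
universe u
open AlgebraicGeometry CategoryTheory CategoryTheory.Limits

namespace Groth.Agent.H70.RelDimPointwise

open Groth.Agent.H54 Groth.Agent.H60.Miracle

theorem localDim_fiber_eq {X Y : Scheme.{u}} (f : X ⟶ Y) (y : Y) (z : f.fiber y) :
    FlatMor.localDim (f.fiber y) z = FlatMor.fibreDimAt f (f.fiberι y z) := by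
  have key : ∀ (y' : Y) (z' : f.fiber y') (x : X) (_ : f.fiberι y' z' = x),
      FlatMor.localDim (f.fiber y') z' = FlatMor.fibreDimAt f x := by
    intro y' z' x hx
    have hy : f.base x = y' := by rw [← hx]; exact fiberι_mem f y' z'
    subst hy
    have : z' = f.asFiber x :=
      (f.fiberι _).isEmbedding.injective (by rw [hx, f.fiberι_asFiber])
    rw [this]
    rfl
  exact key y z _ rfl

/-- A scheme locally of finite type over a field is equidimensional of dimension `e` iff all its
local dimensions are `e`. -/
theorem equidim_iff {k : Type u} [Field k] {F : Scheme.{u}} (s : F ⟶ Spec (CommRingCat.of k))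
    [LocallyOfFiniteType s] (e : ℕ) :
    (∀ Z ∈ irreducibleComponents (F : Type u), topologicalKrullDim Z = e) ↔
      ∀ z : F, FlatMor.localDim F z = e := by
  constructor
  · intro hX z
    obtain ⟨b, hb⟩ : ∃ b : ℕ, Order.coheight z = b :=
      ⟨_, (ENat.natCast_toNat (coheight_ne_top s z)).symm⟩
    rw [localDim_eq s z b hb]
    have h := tdeg_add_coheight_eq s e hX z
    rw [hb] at h
    have h' : tdeg s z + b = e := by exact_mod_cast h
    exact_mod_cast h'
  · intro h Z hZ
    have hZirr : IsIrreducible Z := hZ.1
    have hZcl : IsClosed Z := isClosed_of_mem_irreducibleComponents Z hZ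
    obtain ⟨ξ, hξ⟩ := QuasiSober.sober hZirr hZcl
    have hcl : closure ({ξ} : Set F) = Z := hξ.def
    have hmax : IsMax ξ := by
      intro t hξt
      -- `ξ ≤ t` means `t ⤳ ξ`
      have hsp : t ⤳ ξ := hξt
      have h1 : Z ⊆ closure ({t} : Set F) := by
        rw [← hcl]
        exact closure_minimal (Set.singleton_subset_iff.mpr hsp.mem_closure) isClosed_closure
      have h2 : closure ({t} : Set F) ⊆ Z :=
        hZ.2 isIrreducible_singleton.closure h1
      have h3 : t ∈ Z := h2 (subset_closure rfl)
      rw [← hcl] at h3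
      exact (specializes_iff_mem_closure.mpr h3)
    have hco : Order.coheight ξ = (0 : ℕ) := by
      rw [Nat.cast_zero, Order.coheight_eq_zero]
      exact hmax
    have h1 := localDim_eq s ξ 0 hco
    rw [h ξ, add_zero] at h1
    rw [← hcl, topologicalKrullDim_closure_singleton s ξ]
    exact h1.symm

theorem hasRelDim_iff {X Y : Scheme.{u}} (f : X ⟶ Y) [LocallyOfFiniteType f] (d : ℕ) :
    Cyc.HasRelDim f d ↔ ∀ x : X, FlatMor.fibreDimAt f x = d := by
  constructor
  · intro hd x
    exact (equidim_iff (fiberQ f (f.base x)) d).mp (hd (f.base x)) (f.asFiber x)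
  · intro h y
    refine (equidim_iff (fiberQ f y) d).mpr fun z => ?_
    rw [localDim_fiber_eq]
    exact h _

end Groth.Agent.H70.RelDimPointwise
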