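import Mathlib
import Groth.Agent.H60.EquidimBC
import Groth.Agent.H60.FibreDimBC
import Groth.Agent.H70.LocalDimEtale
import Groth.Prelude.Def_Cyc

/-!
# Relative dimension and base change (arbitrary cartesian squares)
-/

set_option autoImplicit false
set_option linter.style.haveILetI false
universe u
open AlgebraicGeometry CategoryTheory CategoryTheory.Limits TopologicalSpace Topology

namespace Groth.Agent.H70.RelDimBC

theorem equidim_of_homeomorph {A B : Type*} [TopologicalSpace A] [TopologicalSpace B]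
    (φ : A ≃ₜ B) (d : WithBot ℕ∞)
    (hB : ∀ T ∈ irreducibleComponents B, topologicalKrullDim T = d) :
    ∀ T ∈ irreducibleComponents A, topologicalKrullDim T = d := by
  intro T hT
  have h1 : φ '' T ∈ irreducibleComponents B :=
    image_mem_irreducibleComponents_of_isPreirreducible_fiber φ φ.continuous φ.isOpenMap
      (fun x => (Set.subsingleton_singleton.preimage φ.injective).isPreirreducible)
      φ.surjective hT
  rw [← hB _ h1]
  exact IsHomeomorph.topologicalKrullDim_eq _ (φ.image T).isHomeomorph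

/-- `HasRelDim` is invariant under precomposition with an isomorphism. -/
theorem hasRelDim_iso_comp {X X' Y : Scheme.{u}} (e : X' ≅ X) (p : X ⟶ Y) (d : ℕ)
    (hp : Cyc.HasRelDim p d) : Cyc.HasRelDim (e.hom ≫ p) d := by
  intro y
  let ψ : (e.hom ≫ p).fiber y ⟶ p.fiber y :=
    pullback.map (e.hom ≫ p) (Y.fromSpecResidueField y) p (Y.fromSpecResidueField y) e.hom
      (𝟙 _) (𝟙 _) (by simp) (by simp)
  haveI : IsIso ψ := pullback.map_isIso _ _ _ _ _ _ _ _ _
  exact equidim_of_homeomorph ψ.homeomorph _ (hp y)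

theorem main {X S X' S' : Scheme.{u}} (f : X ⟶ S) [LocallyOfFiniteType f] (g : S' ⟶ S)
    (g' : X' ⟶ X) (f' : X' ⟶ S') (hsq : IsPullback g' f' f g) (d : ℕ) :
    (∀ x' : ↑X', FlatMor.fibreDimAt f' x' = FlatMor.fibreDimAt f (g'.base x')) ∧
      ((∀ x : ↑X, FlatMor.fibreDimAt f x ≤ d) → ∀ x' : ↑X', FlatMor.fibreDimAt f' x' ≤ d) ∧
        (Cyc.HasRelDim f d → Cyc.HasRelDim f' d) := by
  let e : X' ≅ pullback f g := hsq.isoPullback
  have he1 : e.hom ≫ pullback.fst f g = g' := hsq.isoPullback_hom_fst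
  have he2 : e.hom ≫ pullback.snd f g = f' := hsq.isoPullback_hom_snd
  have h1 : ∀ x' : ↑X', FlatMor.fibreDimAt f' x' = FlatMor.fibreDimAt f (g'.base x') := by
    intro x'
    have a1 := Groth.Agent.H70.LocalDimEtale.fibreDimAt_eq_of_etale_square (pullback.snd f g) f'
      e.hom (𝟙 S') (by rw [Category.comp_id, he2]) x'
    have a2 := Groth.Agent.H60.FibreDimBC.fibreDimAt_baseChange f g (e.hom x')
    rw [← a1, a2]
    congr 1
    rw [← he1]
    rfl
  refine ⟨h1, fun hle x' => (h1 x').le.trans (hle _), fun hd => ?_⟩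
  rw [← he2]
  apply hasRelDim_iso_comp
  intro y'
  exact Groth.Agent.H60.EquidimBC.fibres_equidim_baseChange f g d hd y'

end Groth.Agent.H70.RelDimBC
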