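import Mathlib

/-!
# Étale coordinates: localization of the base and translation along a section
-/

set_option autoImplicit false
set_option linter.style.haveILetI false
universe u

namespace Groth.Agent.H70.EtaleCoords

open MvPolynomial

attribute [local instance] MvPolynomial.algebraMvPolynomial

/-- Étale coordinates stay étale after localizing the base at an element. -/
theorem etale_eval₂_of_localization {R₀ B₀ R' B' : Type u} [CommRing R₀] [CommRing B₀]
    [CommRing R'] [CommRing B'] [Algebra R₀ R'] [Algebra B₀ B'] (a : R₀)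
    [IsLocalization.Away a R'] (φ₀ : R₀ →+* B₀) [IsLocalization.Away (φ₀ a) B']
    (φ' : R' →+* B') (hφ : φ'.comp (algebraMap R₀ R') = (algebraMap B₀ B').comp φ₀) (n : ℕ)
    (ψ : MvPolynomial (Fin n) R₀ →+* B₀) (hψC : ψ.comp C = φ₀) (hψ : ψ.Etale) :
    (MvPolynomial.eval₂Hom φ' (fun j => algebraMap B₀ B' (ψ (X j)))).Etale := by
  set Φ := MvPolynomial.eval₂Hom φ' (fun j => algebraMap B₀ B' (ψ (X j))) with hΦ
  have hcomp : Φ.comp (algebraMap (MvPolynomial (Fin n) R₀) (MvPolynomial (Fin n) R')) =
      (algebraMap B₀ B').comp ψ := by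
    apply MvPolynomial.ringHom_ext
    · intro r
      have h1 := congrArg (fun h => h r) hφ
      have h2 := congrArg (fun h => h r) hψC
      simp only [RingHom.comp_apply] at h1 h2
      show Φ (MvPolynomial.map (algebraMap R₀ R') (C r)) = algebraMap B₀ B' (ψ (C r))
      rw [MvPolynomial.map_C, hΦ, MvPolynomial.coe_eval₂Hom, MvPolynomial.eval₂_C, h1, h2]
    · intro j
      show Φ (MvPolynomial.map (algebraMap R₀ R') (X j)) = algebraMap B₀ B' (ψ (X j))
      rw [MvPolynomial.map_X, hΦ, MvPolynomial.coe_eval₂Hom, MvPolynomial.eval₂_X]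
  -- the composite is étale
  have h1 : ((algebraMap B₀ B').comp ψ).Etale := by
    refine RingHom.Etale.stableUnderComposition _ _ hψ (RingHom.etale_algebraMap.mpr ?_)
    exact Algebra.Etale.of_isLocalizationAway (φ₀ a)
  haveI : IsLocalization.Away (C a : MvPolynomial (Fin n) R₀) (MvPolynomial (Fin n) R') := by
    have := MvPolynomial.isLocalization (σ := Fin n) (Submonoid.powers a) R'
    rwa [Submonoid.map_powers] at this
  haveI : Algebra.Etale (MvPolynomial (Fin n) R₀) (MvPolynomial (Fin n) R') :=
    Algebra.Etale.of_isLocalizationAway (C a)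
  letI algAB : Algebra (MvPolynomial (Fin n) R') B' := Φ.toAlgebra
  letI alg0B : Algebra (MvPolynomial (Fin n) R₀) B' := ((algebraMap B₀ B').comp ψ).toAlgebra
  haveI : IsScalarTower (MvPolynomial (Fin n) R₀) (MvPolynomial (Fin n) R') B' :=
    IsScalarTower.of_algebraMap_eq' hcomp.symm
  haveI : Algebra.Etale (MvPolynomial (Fin n) R₀) B' := RingHom.etale_algebraMap.mp h1
  have := Algebra.Etale.of_restrictScalars (R := MvPolynomial (Fin n) R₀)
    (A := MvPolynomial (Fin n) R') (B := B')
  exact RingHom.etale_algebraMap.mpr this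

/-- Translating étale coordinates by elements of the base keeps them étale. -/
theorem etale_eval₂_translate {R B : Type u} [CommRing R] [CommRing B] {ι : Type u}
    (φ : R →+* B) (c : ι → R) (g : ι → B) (h : (MvPolynomial.eval₂Hom φ g).Etale) :
    (MvPolynomial.eval₂Hom φ (fun j => g j - φ (c j))).Etale := by
  let τ : MvPolynomial ι R ≃ₐ[R] MvPolynomial ι R :=
    AlgEquiv.ofAlgHom (aeval fun j => X j - C (c j)) (aeval fun j => X j + C (c j))
      (by ext j; simp) (by ext j; simp)
  have hcomp : MvPolynomial.eval₂Hom φ (fun j => g j - φ (c j)) =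
      (MvPolynomial.eval₂Hom φ g).comp τ.toRingEquiv.toRingHom := by
    apply MvPolynomial.ringHom_ext
    · intro r
      simp [τ]
    · intro j
      simp [τ]
  rw [hcomp]
  exact RingHom.Etale.respectsIso.2 _ τ.toRingEquiv h

/-- Transport of étale coordinates along isomorphisms of the base, the target and the index
type. -/
theorem etale_eval₂_transport {R B R' B' : Type u} [CommRing R] [CommRing B] [CommRing R']
    [CommRing B'] {ι : Type} {ι' : Type u}
    (φ : R →+* B) (g : ι → B) (h : (MvPolynomial.eval₂Hom φ g).Etale) (eR : R' ≃+* R)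
    (eB : B ≃+* B') (eι : ι' ≃ ι) :
    (MvPolynomial.eval₂Hom ((eB.toRingHom.comp φ).comp eR.toRingHom)
      (fun j => eB (g (eι j)))).Etale := by
  let Θ : MvPolynomial ι' R' ≃+* MvPolynomial ι R :=
    (MvPolynomial.renameEquiv R' eι).toRingEquiv.trans (MvPolynomial.mapEquiv ι eR)
  have hcomp : MvPolynomial.eval₂Hom ((eB.toRingHom.comp φ).comp eR.toRingHom)
      (fun j => eB (g (eι j))) =
      (eB.toRingHom.comp (MvPolynomial.eval₂Hom φ g)).comp Θ.toRingHom := by
    apply MvPolynomial.ringHom_ext
    · intro r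
      simp [Θ]
    · intro j
      simp [Θ]
  rw [hcomp]
  exact RingHom.Etale.respectsIso.2 _ Θ (RingHom.Etale.respectsIso.1 _ eB h)

end Groth.Agent.H70.EtaleCoords
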