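import Mathlib
import Groth.Agent.H70.EtaleCoords

/-!
# Affine space over a base: smoothness, and étaleness of maps to it between affine schemes
-/

set_option autoImplicit false
set_option linter.style.haveILetI false
universe u
open AlgebraicGeometry CategoryTheory CategoryTheory.Limits MvPolynomial

namespace Groth.Agent.H70.AffineSpaceEtale

set_option backward.isDefEq.respectTransparency.types false in
instance smooth_affineSpace_over (n : Type u) [Finite n] (S : Scheme.{u}) :
    Smooth (𝔸(n; S) ↘ S) :=
  MorphismProperty.pullback_fst _ _ <| by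
  have := isIso_of_isTerminal specULiftZIsTerminal.{u} terminalIsTerminal (terminal.from _)
  rw [← terminal.comp_from (Spec.map (CommRingCat.ofHom C)),
    MorphismProperty.cancel_right_of_respectsIso (P := @Smooth),
    HasRingHomProperty.Spec_iff (P := @Smooth)]
  rw [RingHom.Smooth]
  have hsm : Algebra.Smooth (ULift.{u} ℤ) (MvPolynomial n (ULift.{u} ℤ)) :=
    ⟨inferInstance, inferInstance⟩
  convert! hsm
  exact Algebra.algebra_ext _ _ fun _ ↦ rfl

/-- For affine schemes, `homOfVector p v` is étale iff the ring map `R[X] → B` given by `p` and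
`v` is étale. -/
theorem etale_homOfVector_iff {U V : Scheme.{u}} [IsAffine U] [IsAffine V] (p : V ⟶ U)
    {n : Type u} (v : n → Γ(V, ⊤)) :
    Etale (AffineSpace.homOfVector p v) ↔ (MvPolynomial.eval₂Hom p.appTop.hom v).Etale := by
  rw [HasRingHomProperty.iff_of_isAffine (P := @Etale)]
  let ε : CommRingCat.of (MvPolynomial n Γ(U, ⊤)) ⟶ Γ(𝔸(n; U), ⊤) :=
    CommRingCat.ofHom (eval₂Hom ((𝔸(n; U) ↘ U).appTop).hom (AffineSpace.coord U))
  have hε : ε = (Scheme.ΓSpecIso _).inv ≫ (AffineSpace.isoOfIsAffine n U).hom.appTop := by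
    rw [AffineSpace.isoOfIsAffine_hom_appTop, Iso.inv_hom_id_assoc]
  haveI : IsIso ((AffineSpace.isoOfIsAffine n U).hom.appTop) :=
    ⟨(AffineSpace.isoOfIsAffine n U).inv.appTop, by
      rw [← Scheme.Hom.comp_appTop, Iso.inv_hom_id]; rfl, by
      rw [← Scheme.Hom.comp_appTop, Iso.hom_inv_id]; rfl⟩
  haveI : IsIso ε := by rw [hε]; infer_instance
  have hcomp : (ε ≫ (AffineSpace.homOfVector p v).appTop).hom =
      MvPolynomial.eval₂Hom p.appTop.hom v := by
    apply MvPolynomial.ringHom_ext
    · intro r
      show (AffineSpace.homOfVector p v).appTop.hom (ε.hom (C r)) = _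
      have h1 : ε.hom (C r) = ((𝔸(n; U) ↘ U).appTop).hom r := by simp [ε]
      rw [h1, ← CommRingCat.comp_apply, ← Scheme.Hom.comp_appTop, AffineSpace.homOfVector_over]
      simp
    · intro j
      show (AffineSpace.homOfVector p v).appTop.hom (ε.hom (X j)) = _
      have h1 : ε.hom (X j) = AffineSpace.coord U j := by simp [ε]
      rw [h1]
      rw [MvPolynomial.coe_eval₂Hom, MvPolynomial.eval₂_X]
      exact AffineSpace.homOfVector_appTop_coord p v j
  rw [← hcomp]
  exact (RingHom.Etale.respectsIso.cancel_left_isIso ε _).symm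

end Groth.Agent.H70.AffineSpaceEtale
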