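import Mathlib

/-!
# Closed points of schemes locally of finite type over an algebraically closed field

For a `k`-morphism `f : X ⟶ Y` of schemes locally of finite type over an algebraically closed field
and a closed point `x` of `X`: `f x` is closed, the residue field map `κ(f x) → κ(x)` is bijective,
and `κ(x)` is algebraically closed.
-/

set_option autoImplicit false
universe u
open CategoryTheory AlgebraicGeometry

namespace Groth.Agent.H70.ClosedPtAlgClosed

variable {k : Type u} [Field k] [IsAlgClosed k] {X Y : Scheme.{u}}
  (qX : X ⟶ Spec (CommRingCat.of k)) (qY : Y ⟶ Spec (CommRingCat.of k))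
  [LocallyOfFiniteType qX] [LocallyOfFiniteType qY] (f : X ⟶ Y) (hf : f ≫ qY = qX)
  (x : X) (hx : IsClosed ({x} : Set X))

include hf hx in
theorem isClosed_singleton_image : IsClosed ({f x} : Set Y) := by
  let p : Spec (CommRingCat.of k) ⟶ Y := pointOfClosedPoint qX x hx ≫ f
  have hp : p ≫ qY = 𝟙 _ := by rw [Category.assoc, hf, pointOfClosedPoint_comp]
  have h1 := (pointEquivClosedPoint qY ⟨p, hp⟩).2
  have e : p (IsLocalRing.closedPoint k) = f x := by
    simp [p, pointOfClosedPoint_apply]
  rw [← e]
  exact h1

include hf hx in
theorem residueFieldMap_bijective : Function.Bijective (f.residueFieldMap x).hom := by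
  have hy := isClosed_singleton_image qX qY f hf x hx
  have key : (residueFieldIsoBase qY (f x) hy).inv ≫ f.residueFieldMap x =
      (residueFieldIsoBase qX x hx).inv := by
    apply Spec.map_injective
    rw [Spec.map_comp, SpecMap_residueFieldIsoBase_inv, SpecMap_residueFieldIsoBase_inv,
      ← Category.assoc, Scheme.Hom.SpecMap_residueFieldMap_fromSpecResidueField, Category.assoc, hf]
  have h2 : f.residueFieldMap x =
      (residueFieldIsoBase qY (f x) hy).hom ≫ (residueFieldIsoBase qX x hx).inv := by
    rw [← key, Iso.hom_inv_id_assoc]
  rw [h2]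
  exact ConcreteCategory.bijective_of_isIso _

include qX hx in
theorem isAlgClosed_residueField : IsAlgClosed (X.residueField x) :=
  IsAlgClosed.of_ringEquiv (k := k) _
    (residueFieldIsoBase qX x hx).symm.commRingCatIsoToRingEquiv

end Groth.Agent.H70.ClosedPtAlgClosed
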