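import Groth.Agent.S9371
import Groth.Agent.S9372
import Groth.Agent.H8.FreeMod

/-!
# The conormal sheaf of an immersion commutes with restriction to an open of the target

`conormal_free_of_restrict`: if the conormal sheaf of `j ∣_ X₀` is free of rank `n` on an open `U₀`,
then the conormal sheaf of `j` is free of rank `n` on the image of `U₀`.
-/

set_option autoImplicit false
set_option linter.style.haveILetI false
universe u
open AlgebraicGeometry CategoryTheory Limits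

namespace Groth.Agent.H70.ConormalRestrict

open Scheme.Modules

/-- Transport of freeness along an isomorphism of schemes. -/
theorem free_of_restrict_iso {V W : Scheme.{u}} (κ : W ≅ V) (N : V.Modules) (n : ℕ)
    (e : N.restrict κ.hom ≅ FlatMod.freeMod W n) : Nonempty (N ≅ FlatMod.freeMod V n) := by
  have e1 : (N.restrict κ.hom).restrict κ.inv ≅ N :=
    ((restrictFunctorComp κ.inv κ.hom).symm ≪≫
      restrictFunctorCongr (show κ.inv ≫ κ.hom = 𝟙 V from κ.inv_hom_id) ≪≫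
      restrictFunctorId).app N
  exact ⟨e1.symm ≪≫ (restrictFunctor κ.inv).mapIso e ≪≫
    Groth.Agent.H8.restrictFreeIso κ.inv n⟩

/-- General transfer of freeness through an open immersion. -/
theorem free_image_of_free {X' X'₀ : Scheme.{u}} (ι₀ : X'₀ ⟶ X') [IsOpenImmersion ι₀]
    (M : X'.Modules) (M₀ : X'₀.Modules) (Φ : M.restrict ι₀ ≅ M₀) (U₀ : X'₀.Opens) (n : ℕ)
    (e₀ : M₀.restrict U₀.ι ≅ FlatMod.freeMod (↑U₀) n) :
    Nonempty (M.restrict (ι₀ ''ᵁ U₀).ι ≅ FlatMod.freeMod (↑(ι₀ ''ᵁ U₀)) n) := by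
  let κ : (↑U₀ : Scheme.{u}) ≅ ↑(ι₀ ''ᵁ U₀) := ι₀.isoImage U₀
  have hκ : κ.hom ≫ (ι₀ ''ᵁ U₀).ι = U₀.ι ≫ ι₀ := Scheme.Hom.isoImage_hom_ι ι₀ U₀
  apply free_of_restrict_iso κ
  exact ((restrictFunctorComp κ.hom (ι₀ ''ᵁ U₀).ι).symm ≪≫ restrictFunctorCongr hκ ≪≫
    restrictFunctorComp U₀.ι ι₀).app M ≪≫ (restrictFunctor U₀.ι).mapIso Φ ≪≫ e₀

/-- The conormal sheaf of the restriction of `j` over an open `X₀` of the target is the restriction
of the conormal sheaf of `j`. -/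
theorem nonempty_conormal_restrict_iso {X' X : Scheme.{u}} (j : X' ⟶ X) [IsImmersion j]
    [QuasiCompact j] (X₀ : X.Opens) :
    Nonempty ((Omega.conormal j).restrict (j ⁻¹ᵁ X₀).ι ≅ Omega.conormal (j ∣_ X₀)) := by
  haveI : IsImmersion (j ∣_ X₀) := inferInstance
  haveI : QuasiCompact (j ∣_ X₀) := inferInstance
  have hpb : IsPullback (j ∣_ X₀) (j ⁻¹ᵁ X₀).ι X₀.ι j := isPullback_morphismRestrict j X₀
  obtain ⟨φ, hφ, -⟩ := Groth.Agent.S9371.result (j ∣_ X₀) j X₀.ι (j ⁻¹ᵁ X₀).ι hpb.w.symm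
  haveI : IsIso φ :=
    (Groth.Agent.S9372.result (j ∣_ X₀) j X₀.ι (j ⁻¹ᵁ X₀).ι hpb φ hφ).2 inferInstance
  exact ⟨(restrictFunctorIsoPullback (j ⁻¹ᵁ X₀).ι).app (Omega.conormal j) ≪≫ asIso φ⟩

theorem conormal_free_of_restrict {X' X : Scheme.{u}} (j : X' ⟶ X) [IsImmersion j]
    [QuasiCompact j] (X₀ : X.Opens) (U₀ : (j ⁻¹ᵁ X₀).toScheme.Opens) (n : ℕ)
    (h : Nonempty ((Omega.conormal (j ∣_ X₀)).restrict U₀.ι ≅ FlatMod.freeMod (↑U₀) n)) :
    Nonempty ((Omega.conormal j).restrict ((j ⁻¹ᵁ X₀).ι ''ᵁ U₀).ι ≅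
      FlatMod.freeMod (↑((j ⁻¹ᵁ X₀).ι ''ᵁ U₀)) n) := by
  obtain ⟨Φ⟩ := nonempty_conormal_restrict_iso j X₀
  obtain ⟨e₀⟩ := h
  exact free_image_of_free (j ⁻¹ᵁ X₀).ι (Omega.conormal j) (Omega.conormal (j ∣_ X₀)) Φ U₀ n e₀

end Groth.Agent.H70.ConormalRestrict
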