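import Mathlib

/-!
# Injectivity of the cotangent map and regularity of the closed fibre

For a local homomorphism `φ : R → B` of Noetherian local rings which is surjective on residue fields,
with `K = 𝔪_R B`:
* if the cotangent map `𝔪_R/𝔪_R² → 𝔪_B/𝔪_B²` is injective then
  `embdim (B/K) + embdim R ≤ embdim B`;
* if `embdim (B/K) + embdim R ≤ embdim B` then the cotangent map is injective.
-/

set_option autoImplicit false
universe u
open IsLocalRing

namespace Groth.Agent.H70.CotangentInj

variable {R B : Type u} [CommRing R] [CommRing B] [IsLocalRing R] [IsLocalRing B]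
variable (φ : R →+* B) (h : maximalIdeal R ≤ (maximalIdeal B).comap φ.toIntAlgHom)

/-- Elementwise criterion for the injectivity of the cotangent map. -/
theorem injective_mapCotangent_iff :
    Function.Injective (Ideal.mapCotangent (maximalIdeal R) (maximalIdeal B) φ.toIntAlgHom h) ↔
      ∀ r ∈ maximalIdeal R, φ r ∈ maximalIdeal B ^ 2 → r ∈ maximalIdeal R ^ 2 := by
  rw [injective_iff_map_eq_zero]
  constructor
  · intro H r hr hφ
    have := H ((maximalIdeal R).toCotangent ⟨r, hr⟩) (by
      rw [Ideal.mapCotangent_toCotangent, Ideal.toCotangent_eq_zero]; exact hφ)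
    rwa [Ideal.toCotangent_eq_zero] at this
  · intro H v hv
    obtain ⟨⟨r, hr⟩, rfl⟩ := (maximalIdeal R).toCotangent_surjective v
    rw [Ideal.mapCotangent_toCotangent, Ideal.toCotangent_eq_zero] at hv
    rw [Ideal.toCotangent_eq_zero]
    exact H r hr hv

variable [IsLocalHom φ]

/-- Semilinearity of the cotangent map. -/
theorem mapCotangent_smul (c : ResidueField R) (v : CotangentSpace R) :
    Ideal.mapCotangent (maximalIdeal R) (maximalIdeal B) φ.toIntAlgHom h (c • v) =
      ResidueField.map φ c •
        Ideal.mapCotangent (maximalIdeal R) (maximalIdeal B) φ.toIntAlgHom h v := by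
  obtain ⟨a, rfl⟩ := IsLocalRing.residue_surjective c
  obtain ⟨⟨r, hr⟩, rfl⟩ := (maximalIdeal R).toCotangent_surjective v
  have h1 : residue R a • (maximalIdeal R).toCotangent ⟨r, hr⟩ =
      (maximalIdeal R).toCotangent ⟨a * r, Ideal.mul_mem_left _ _ hr⟩ := rfl
  rw [h1, Ideal.mapCotangent_toCotangent, Ideal.mapCotangent_toCotangent]
  rw [ResidueField.map_residue]
  have h2 : residue B (φ a) • (maximalIdeal B).toCotangent ⟨φ r, h hr⟩ =
      (maximalIdeal B).toCotangent ⟨φ a * φ r, Ideal.mul_mem_left _ _ (h hr)⟩ := rfl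
  erw [h2]
  congr 1
  exact Subtype.ext (map_mul φ a r)


section Generators

variable [IsNoetherianRing B]

/-- Elements of `𝔪_B` lying in `K = 𝔪_R B` have cotangent class in the span of the image of the
cotangent map. -/
theorem toCotangent_mem_span_of_mem_map (z : B) (hz : z ∈ maximalIdeal B)
    (hzK : z ∈ (maximalIdeal R).map φ) :
    (maximalIdeal B).toCotangent ⟨z, hz⟩ ∈ Submodule.span (ResidueField B) (Set.range
      (Ideal.mapCotangent (maximalIdeal R) (maximalIdeal B) φ.toIntAlgHom h)) := by
  set U := Submodule.span (ResidueField B) (Set.range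
      (Ideal.mapCotangent (maximalIdeal R) (maximalIdeal B) φ.toIntAlgHom h)) with hU
  -- the ideal of elements of `𝔪_B` with class in `U`
  let P : Submodule B (maximalIdeal B) :=
    Submodule.comap (maximalIdeal B).toCotangent (U.restrictScalars B)
  let J : Ideal B := Submodule.map (maximalIdeal B).subtype P
  have hJ : ∀ w : B, w ∈ J ↔ ∃ hw : w ∈ maximalIdeal B, (maximalIdeal B).toCotangent ⟨w, hw⟩ ∈ U := by
    intro w
    constructor
    · rintro ⟨⟨w', hw'⟩, hmem, rfl⟩
      exact ⟨hw', hmem⟩
    · rintro ⟨hw, hmem⟩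
      exact ⟨⟨w, hw⟩, hmem, rfl⟩
  have hKJ : (maximalIdeal R).map φ ≤ J := by
    rw [Ideal.map, Ideal.span_le]
    rintro _ ⟨r, hr, rfl⟩
    rw [SetLike.mem_coe, hJ]
    refine ⟨h hr, Submodule.subset_span ⟨(maximalIdeal R).toCotangent ⟨r, hr⟩, ?_⟩⟩
    rw [Ideal.mapCotangent_toCotangent]
    rfl
  obtain ⟨_, hmem⟩ := (hJ z).mp (hKJ hzK)
  exact hmem

/-- If the image of the cotangent map together with the classes of `y` span the cotangent space of
`B`, then the images of `y` generate the maximal ideal of `B ⧸ 𝔪_R B`. -/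
theorem maximalIdeal_quotient_eq_span {ι : Type*} (y : ι → maximalIdeal B)
    (hspan : Submodule.span (ResidueField B) (Set.range
      (Ideal.mapCotangent (maximalIdeal R) (maximalIdeal B) φ.toIntAlgHom h) ∪
        Set.range (fun c => (maximalIdeal B).toCotangent (y c))) = ⊤)
    [IsLocalRing (B ⧸ (maximalIdeal R).map φ)] :
    maximalIdeal (B ⧸ (maximalIdeal R).map φ) =
      Ideal.span (Set.range fun c => Ideal.Quotient.mk ((maximalIdeal R).map φ) (y c).1) := by
  set K := (maximalIdeal R).map φ with hK
  let s : Set (maximalIdeal B) := {z | z.1 ∈ K} ∪ Set.range y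
  have h1 : Submodule.span (ResidueField B) ((maximalIdeal B).toCotangent '' s) = ⊤ := by
    rw [eq_top_iff, ← hspan]
    apply Submodule.span_mono
    rintro w (⟨v, rfl⟩ | ⟨c, rfl⟩)
    · obtain ⟨⟨r, hr⟩, rfl⟩ := (maximalIdeal R).toCotangent_surjective v
      rw [Ideal.mapCotangent_toCotangent]
      exact ⟨⟨φ r, h hr⟩, Or.inl (Ideal.mem_map_of_mem φ hr), rfl⟩
    · exact ⟨y c, Or.inr ⟨c, rfl⟩, rfl⟩
  have h2 : Submodule.span B s = ⊤ := CotangentSpace.span_image_eq_top_iff.mp h1
  let g : maximalIdeal B →ₗ[B] (B ⧸ K) := (Submodule.mkQ K) ∘ₗ (maximalIdeal B).subtype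
  haveI : IsLocalHom (Ideal.Quotient.mk K) :=
    IsLocalHom.of_surjective _ Ideal.Quotient.mk_surjective
  apply le_antisymm
  · intro w hw
    obtain ⟨z, rfl⟩ := Ideal.Quotient.mk_surjective w
    have hz : z ∈ maximalIdeal B := by
      rw [mem_maximalIdeal, mem_nonunits_iff] at hw ⊢
      exact fun hu => hw (hu.map _)
    have h3 : (⟨z, hz⟩ : maximalIdeal B) ∈ Submodule.span B s := h2 ▸ Submodule.mem_top
    have h4 := Submodule.mem_map_of_mem (f := g) h3
    rw [Submodule.map_span] at h4
    refine (Submodule.span_le (p := (Ideal.span (Set.range fun c =>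
      Ideal.Quotient.mk K (y c).1)).restrictScalars B)).mpr ?_ h4
    rintro _ ⟨z', hz' | ⟨c, rfl⟩, rfl⟩
    · have h5 : g z' = 0 := (Submodule.Quotient.mk_eq_zero _).mpr hz'
      rw [h5]
      exact zero_mem _
    · exact Ideal.subset_span ⟨c, rfl⟩
  · rw [Ideal.span_le]
    rintro _ ⟨c, rfl⟩
    have h6 : (y c).1 ∈ maximalIdeal B := (y c).2
    rw [mem_maximalIdeal, mem_nonunits_iff] at h6
    show Ideal.Quotient.mk K (y c).1 ∈ maximalIdeal (B ⧸ K)
    rw [mem_maximalIdeal, mem_nonunits_iff]
    exact fun hu => h6 ((isUnit_map_iff (Ideal.Quotient.mk K) _).mp hu)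

/-- **Injective cotangent map ⇒ the embedding dimension of the closed fibre drops by `embdim R`.** -/
theorem spanFinrank_quotient_add_le [IsNoetherianRing R]
    (hres : Function.Surjective (ResidueField.map φ))
    (hinj : Function.Injective
      (Ideal.mapCotangent (maximalIdeal R) (maximalIdeal B) φ.toIntAlgHom h))
    [IsLocalRing (B ⧸ (maximalIdeal R).map φ)] :
    (maximalIdeal (B ⧸ (maximalIdeal R).map φ)).spanFinrank + (maximalIdeal R).spanFinrank ≤
      (maximalIdeal B).spanFinrank := by
  classical
  set ι := Ideal.mapCotangent (maximalIdeal R) (maximalIdeal B) φ.toIntAlgHom h with hι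
  set U : Submodule (ResidueField B) (CotangentSpace B) :=
    Submodule.span _ (Set.range ι) with hU
  have hd : Module.finrank (ResidueField R) (CotangentSpace R) ≤
      Module.finrank (ResidueField B) U := by
    let j : CotangentSpace R →+ U :=
      { toFun := fun v => ⟨ι v, Submodule.subset_span ⟨v, rfl⟩⟩
        map_zero' := by ext; simp
        map_add' := fun a b => by ext; simp }
    have hj : Function.Injective j := fun a b hab => hinj (congrArg Subtype.val hab)
    have hc : ∀ (c : ResidueField R) (v : CotangentSpace R),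
        j (c • v) = ResidueField.map φ c • j v := by
      intro c v
      ext
      exact mapCotangent_smul φ h c v
    have h1 := rank_le_of_surjective_injective (ResidueField.map φ) j hres hj hc
    exact Cardinal.toNat_le_toNat h1 (Module.rank_lt_aleph0 _ _)
  let b := Module.finBasis (ResidueField B) (CotangentSpace B ⧸ U)
  have hlift : ∀ c, ∃ y : maximalIdeal B, U.mkQ ((maximalIdeal B).toCotangent y) = b c := by
    intro c
    obtain ⟨w, hw⟩ := U.mkQ_surjective (b c)
    obtain ⟨y, rfl⟩ := (maximalIdeal B).toCotangent_surjective w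
    exact ⟨y, hw⟩
  choose y hy using hlift
  have hspan : Submodule.span (ResidueField B) (Set.range ι ∪
      Set.range (fun c => (maximalIdeal B).toCotangent (y c))) = ⊤ := by
    rw [Submodule.span_union, ← hU, ← Submodule.map_mkQ_eq_top, Submodule.map_span,
      ← Set.range_comp]
    have h2 : (U.mkQ ∘ fun c => (maximalIdeal B).toCotangent (y c)) = b := funext hy
    rw [h2]
    exact b.span_eq
  have hgen := maximalIdeal_quotient_eq_span φ h y hspan
  have ht : (maximalIdeal (B ⧸ (maximalIdeal R).map φ)).spanFinrank ≤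
      Module.finrank (ResidueField B) (CotangentSpace B ⧸ U) := by
    rw [hgen]
    refine (Submodule.spanFinrank_span_le_ncard_of_finite (Set.finite_range _)).trans ?_
    rw [← Set.image_univ]
    refine (Set.ncard_image_le (Set.finite_univ)).trans ?_
    rw [Set.ncard_univ, Nat.card_eq_fintype_card, Fintype.card_fin]
  have hquot := Submodule.finrank_quotient_add_finrank U
  rw [spanFinrank_maximalIdeal_eq_finrank_cotangentSpace (R := R),
    spanFinrank_maximalIdeal_eq_finrank_cotangentSpace (R := B)]
  omega

/-- The cotangent space of `B` is spanned by the image of the cotangent map and lifts of generators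
of the maximal ideal of the closed fibre. -/
theorem finrank_le_spanFinrank_add_finrank_span
    [IsLocalRing (B ⧸ (maximalIdeal R).map φ)] [IsNoetherianRing (B ⧸ (maximalIdeal R).map φ)] :
    (maximalIdeal B).spanFinrank ≤ (maximalIdeal (B ⧸ (maximalIdeal R).map φ)).spanFinrank +
      Module.finrank (ResidueField B) (Submodule.span (ResidueField B) (Set.range
        (Ideal.mapCotangent (maximalIdeal R) (maximalIdeal B) φ.toIntAlgHom h))) := by
  classical
  set K := (maximalIdeal R).map φ with hK
  set ι := Ideal.mapCotangent (maximalIdeal R) (maximalIdeal B) φ.toIntAlgHom h with hι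
  set U : Submodule (ResidueField B) (CotangentSpace B) :=
    Submodule.span _ (Set.range ι) with hU
  haveI : IsLocalHom (Ideal.Quotient.mk K) :=
    IsLocalHom.of_surjective _ Ideal.Quotient.mk_surjective
  obtain ⟨s, hcard, hspan⟩ := Submodule.FG.exists_span_finset_card_eq_spanFinrank
    (p := maximalIdeal (B ⧸ K)) (maximalIdeal (B ⧸ K)).fg_of_isNoetherianRing
  have hlift : ∀ w : s, ∃ y : maximalIdeal B, Ideal.Quotient.mk K y.1 = w.1 := by
    intro w
    obtain ⟨z, hz⟩ := Ideal.Quotient.mk_surjective w.1
    have hw : w.1 ∈ maximalIdeal (B ⧸ K) := hspan ▸ Submodule.subset_span w.2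
    refine ⟨⟨z, ?_⟩, hz⟩
    rw [mem_maximalIdeal, mem_nonunits_iff] at hw ⊢
    exact fun hu => hw (hz ▸ hu.map _)
  choose y hy using hlift
  let s' : Set (maximalIdeal B) := {z | z.1 ∈ K} ∪ Set.range y
  let g : maximalIdeal B →ₗ[B] (B ⧸ K) := (Submodule.mkQ K) ∘ₗ (maximalIdeal B).subtype
  have hker : LinearMap.ker g ≤ Submodule.span B s' := by
    intro z hz
    refine Submodule.subset_span (Or.inl ?_)
    exact (Submodule.Quotient.mk_eq_zero _).mp hz
  have hmap : Submodule.map g ⊤ ≤ Submodule.map g (Submodule.span B s') := by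
    rintro _ ⟨z, -, rfl⟩
    have hz : g z ∈ maximalIdeal (B ⧸ K) := by
      have h6 : z.1 ∈ maximalIdeal B := z.2
      rw [mem_maximalIdeal, mem_nonunits_iff] at h6
      show Ideal.Quotient.mk K z.1 ∈ maximalIdeal (B ⧸ K)
      rw [mem_maximalIdeal, mem_nonunits_iff]
      exact fun hu => h6 ((isUnit_map_iff (Ideal.Quotient.mk K) _).mp hu)
    rw [← hspan] at hz
    have h7 : (Submodule.span (B ⧸ K) (s : Set (B ⧸ K))).restrictScalars B =
        Submodule.span B (s : Set (B ⧸ K)) :=
      Submodule.restrictScalars_span B (B ⧸ K) Ideal.Quotient.mk_surjective _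
    have h8 : g z ∈ Submodule.span B (s : Set (B ⧸ K)) := h7 ▸ hz
    rw [Submodule.map_span]
    refine Submodule.span_mono ?_ h8
    intro w hw
    exact ⟨y ⟨w, hw⟩, Or.inr ⟨⟨w, hw⟩, rfl⟩, hy ⟨w, hw⟩⟩
  have h2 : Submodule.span B s' = ⊤ := by
    rw [eq_top_iff]
    have h9 := Submodule.comap_mono (f := g) hmap
    rw [Submodule.comap_map_eq, Submodule.comap_map_eq] at h9
    exact (le_sup_left.trans h9).trans (sup_le le_rfl hker)
  have h1 : Submodule.span (ResidueField B) ((maximalIdeal B).toCotangent '' s') = ⊤ :=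
    CotangentSpace.span_image_eq_top_iff.mpr h2
  have htop : (⊤ : Submodule (ResidueField B) (CotangentSpace B)) ≤
      U ⊔ Submodule.span (ResidueField B)
        (Set.range fun w : s => (maximalIdeal B).toCotangent (y w)) := by
    rw [← h1, Submodule.span_le]
    rintro _ ⟨z, hz | ⟨w, rfl⟩, rfl⟩
    · exact Submodule.mem_sup_left (toCotangent_mem_span_of_mem_map φ h z.1 z.2 hz)
    · exact Submodule.mem_sup_right (Submodule.subset_span ⟨w, rfl⟩)
  have hfr : Module.finrank (ResidueField B) (CotangentSpace B) ≤
      Module.finrank (ResidueField B) U + s.card := by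
    have h10 := Submodule.finrank_mono htop
    rw [finrank_top] at h10
    refine h10.trans ((Submodule.finrank_add_le_finrank_add_finrank _ _).trans ?_)
    refine Nat.add_le_add_left ?_ _
    refine (finrank_range_le_card _).trans ?_
    simp
  rw [spanFinrank_maximalIdeal_eq_finrank_cotangentSpace (R := B), ← hcard, add_comm]
  exact hfr

/-- If the cotangent map kills a nonzero vector, the span of its image has dimension
`< embdim R`. -/
theorem finrank_span_lt [IsNoetherianRing R] (v : CotangentSpace R) (hv : v ≠ 0)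
    (hιv : Ideal.mapCotangent (maximalIdeal R) (maximalIdeal B) φ.toIntAlgHom h v = 0) :
    Module.finrank (ResidueField B) (Submodule.span (ResidueField B) (Set.range
        (Ideal.mapCotangent (maximalIdeal R) (maximalIdeal B) φ.toIntAlgHom h))) + 1 ≤
      (maximalIdeal R).spanFinrank := by
  classical
  set ι := Ideal.mapCotangent (maximalIdeal R) (maximalIdeal B) φ.toIntAlgHom h with hι
  set V₀ : Submodule (ResidueField R) (CotangentSpace R) := Submodule.span _ {v} with hV₀
  let b' := Module.finBasis (ResidueField R) (CotangentSpace R ⧸ V₀)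
  have hlift : ∀ c, ∃ w : CotangentSpace R, V₀.mkQ w = b' c := fun c => V₀.mkQ_surjective (b' c)
  choose w hw using hlift
  have hVtop : V₀ ⊔ Submodule.span (ResidueField R) (Set.range w) = ⊤ := by
    rw [← Submodule.map_mkQ_eq_top, Submodule.map_span, ← Set.range_comp]
    have h2 : (V₀.mkQ ∘ w) = b' := funext hw
    rw [h2]
    exact b'.span_eq
  set U' : Submodule (ResidueField B) (CotangentSpace B) :=
    Submodule.span _ (Set.range (ι ∘ w)) with hU'
  have hall : ∀ u, ι u ∈ U' := by
    intro u
    have hu0 : u ∈ V₀ ⊔ Submodule.span (ResidueField R) (Set.range w) :=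
      hVtop ▸ Submodule.mem_top
    have hu : u ∈ Submodule.span (ResidueField R) ({v} ∪ Set.range w) := by
      rw [Submodule.span_union]; exact hu0
    clear hu0
    induction hu using Submodule.span_induction with
    | mem x hx =>
      rcases hx with hx | ⟨c, rfl⟩
      · rw [Set.mem_singleton_iff] at hx
        rw [hx, hιv]
        exact zero_mem _
      · exact Submodule.subset_span ⟨c, rfl⟩
    | zero => rw [map_zero]; exact zero_mem _
    | add x y _ _ hx hy => rw [map_add]; exact add_mem hx hy
    | smul c x _ hx => rw [hι, mapCotangent_smul]; exact Submodule.smul_mem _ _ hx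
  have hUU' : Submodule.span (ResidueField B) (Set.range ι) ≤ U' :=
    Submodule.span_le.mpr (Set.range_subset_iff.mpr hall)
  have h3 : Module.finrank (ResidueField B) (Submodule.span (ResidueField B) (Set.range ι)) ≤
      Module.finrank (ResidueField R) (CotangentSpace R ⧸ V₀) := by
    refine (Submodule.finrank_mono hUU').trans ((finrank_range_le_card _).trans ?_)
    simp
  have h4 := Submodule.finrank_quotient_add_finrank V₀
  have h5 : Module.finrank (ResidueField R) V₀ = 1 := finrank_span_singleton hv
  rw [spanFinrank_maximalIdeal_eq_finrank_cotangentSpace (R := R)]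
  omega

/-- **`embdim (B/𝔪_R B) + embdim R ≤ embdim B` ⇒ the cotangent map is injective.** -/
theorem injective_of_spanFinrank_add_le [IsNoetherianRing R]
    [IsLocalRing (B ⧸ (maximalIdeal R).map φ)] [IsNoetherianRing (B ⧸ (maximalIdeal R).map φ)]
    (hle : (maximalIdeal (B ⧸ (maximalIdeal R).map φ)).spanFinrank +
      (maximalIdeal R).spanFinrank ≤ (maximalIdeal B).spanFinrank) :
    Function.Injective
      (Ideal.mapCotangent (maximalIdeal R) (maximalIdeal B) φ.toIntAlgHom h) := by
  rw [injective_iff_map_eq_zero]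
  intro v hv
  by_contra hne
  have h1 := finrank_span_lt φ h v hne hv
  have h2 := finrank_le_spanFinrank_add_finrank_span φ h
  omega

end Generators


section Regular

theorem exists_nat_eq {x : WithBot ℕ∞} {t : ℕ} (h0 : 0 ≤ x) (h1 : x ≤ (t : WithBot ℕ∞)) :
    ∃ n : ℕ, x = (n : WithBot ℕ∞) := by
  induction x using WithBot.recBotCoe with
  | bot => exact absurd h0 (not_le_of_gt (WithBot.bot_lt_coe 0))
  | coe y =>
    have h2 : y ≤ (t : ℕ∞) := by exact_mod_cast h1
    obtain ⟨n, hn⟩ := ENat.ne_top_iff_exists.mp (ne_top_of_le_ne_top (ENat.natCast_ne_top t) h2)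
    exact ⟨n, by rw [← hn]; rfl⟩

variable {R B : Type u} [CommRing R] [CommRing B] [IsRegularLocalRing R] [IsRegularLocalRing B]
variable (φ : R →+* B) (h : maximalIdeal R ≤ (maximalIdeal B).comap φ.toIntAlgHom) [IsLocalHom φ]

/-- Regular local rings, residue fields onto, injective cotangent map: the closed fibre is regular
and the dimension formula holds. -/
theorem regular_fibre_of_injective
    (hres : Function.Surjective (ResidueField.map φ))
    (hinj : Function.Injective
      (Ideal.mapCotangent (maximalIdeal R) (maximalIdeal B) φ.toIntAlgHom h))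
    [IsLocalRing (B ⧸ (maximalIdeal R).map φ)] :
    IsRegularLocalRing (B ⧸ (maximalIdeal R).map φ) ∧
      ringKrullDim B = ringKrullDim (B ⧸ (maximalIdeal R).map φ) + ringKrullDim R := by
  have hKtop : (maximalIdeal R).map φ ≠ ⊤ := by
    intro htop
    have : Subsingleton (B ⧸ (maximalIdeal R).map φ) := Ideal.Quotient.subsingleton_iff.mpr htop
    exact not_subsingleton (B ⧸ (maximalIdeal R).map φ) this
  have hle := spanFinrank_quotient_add_le φ h hres hinj
  have h1 : ringKrullDim B ≤ ringKrullDim (B ⧸ (maximalIdeal R).map φ) + ((maximalIdeal R).map φ).spanFinrank :=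
    ringKrullDim_le_ringKrullDim_add_spanFinrank hKtop
  have h2 : ((maximalIdeal R).map φ).spanFinrank ≤ (maximalIdeal R).spanFinrank :=
    Ideal.spanFinrank_map_le_of_fg _ (IsNoetherian.noetherian _)
  have h3 := ringKrullDim_le_spanFinrank_maximalIdeal (B ⧸ (maximalIdeal R).map φ)
  have h0 : 0 ≤ ringKrullDim (B ⧸ (maximalIdeal R).map φ) := ringKrullDim_nonneg_of_nontrivial
  obtain ⟨n', hn'⟩ := exists_nat_eq h0 h3
  have hB : ((maximalIdeal B).spanFinrank : WithBot ℕ∞) = ringKrullDim B :=
    IsRegularLocalRing.spanFinrank_maximalIdeal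
  have hR : ((maximalIdeal R).spanFinrank : WithBot ℕ∞) = ringKrullDim R :=
    IsRegularLocalRing.spanFinrank_maximalIdeal
  rw [hn'] at h1 h3
  rw [← hB] at h1
  have h1' : (maximalIdeal B).spanFinrank ≤ n' + ((maximalIdeal R).map φ).spanFinrank := by exact_mod_cast h1
  have h3' : n' ≤ (maximalIdeal (B ⧸ (maximalIdeal R).map φ)).spanFinrank := by exact_mod_cast h3
  have e1 : (maximalIdeal (B ⧸ (maximalIdeal R).map φ)).spanFinrank = n' := by omega
  have e2 : (maximalIdeal B).spanFinrank = n' + (maximalIdeal R).spanFinrank := by omega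
  refine ⟨?_, ?_⟩
  · apply IsRegularLocalRing.of_spanFinrank_maximalIdeal_le
    rw [hn', e1]
  · rw [hn', ← hB, ← hR, e2]
    push_cast
    rfl

/-- Regular local rings with regular closed fibre and the dimension formula: the cotangent map is
injective. -/
theorem injective_of_regular_fibre
    [IsRegularLocalRing (B ⧸ (maximalIdeal R).map φ)]
    (hdim : ringKrullDim B = ringKrullDim (B ⧸ (maximalIdeal R).map φ) + ringKrullDim R) :
    Function.Injective
      (Ideal.mapCotangent (maximalIdeal R) (maximalIdeal B) φ.toIntAlgHom h) := by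
  apply injective_of_spanFinrank_add_le φ h
  have hB : ((maximalIdeal B).spanFinrank : WithBot ℕ∞) = ringKrullDim B :=
    IsRegularLocalRing.spanFinrank_maximalIdeal
  have hR : ((maximalIdeal R).spanFinrank : WithBot ℕ∞) = ringKrullDim R :=
    IsRegularLocalRing.spanFinrank_maximalIdeal
  have hQ : ((maximalIdeal (B ⧸ (maximalIdeal R).map φ)).spanFinrank : WithBot ℕ∞) =
      ringKrullDim (B ⧸ (maximalIdeal R).map φ) :=
    IsRegularLocalRing.spanFinrank_maximalIdeal
  rw [← hB, ← hR, ← hQ] at hdim
  have : (maximalIdeal B).spanFinrank = (maximalIdeal (B ⧸ (maximalIdeal R).map φ)).spanFinrank +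
      (maximalIdeal R).spanFinrank := by exact_mod_cast hdim
  omega

end Regular

end Groth.Agent.H70.CotangentInj
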