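import Mathlib
import Groth.Agent.H70.SmoothFibreDim

/-!
# Fibre dimension of a composition of smooth morphisms
-/

set_option autoImplicit false
set_option linter.style.haveILetI false
universe u
open AlgebraicGeometry CategoryTheory CategoryTheory.Limits TopologicalSpace Topology

namespace Groth.Agent.H70.SmoothFibreDimComp

open Groth.Agent.H70.LocalDimEtale Groth.Agent.H70.SmoothFibreDim

/-- A smooth morphism is locally on the source smooth of some relative dimension. -/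
theorem exists_smoothOfRelativeDimension {X Y : Scheme.{u}} (f : X ⟶ Y) [Smooth f] (x : X) :
    ∃ (n : ℕ) (V : X.Opens), x ∈ V ∧ SmoothOfRelativeDimension n (V.ι ≫ f) := by
  obtain ⟨U, hU, V, hV, hx, e, hf⟩ := Smooth.exists_isStandardSmooth f x
  obtain ⟨n, hn⟩ : ∃ n, (f.appLE U V e).hom.IsStandardSmoothOfRelativeDimension n := by
    letI := (f.appLE U V e).hom.toAlgebra
    obtain ⟨_, _, _, _, ⟨P⟩⟩ := hf
    exact ⟨_, _, _, _, ‹_›, P, rfl⟩
  refine ⟨n, V, hx, ?_⟩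
  haveI : IsAffine U.toScheme := hU
  haveI : IsAffine V.toScheme := hV
  have h1 : SmoothOfRelativeDimension n (f.resLE U V e) := by
    rw [HasRingHomProperty.iff_of_isAffine (P := @SmoothOfRelativeDimension n)]
    apply RingHom.locally_of RingHom.isStandardSmoothOfRelativeDimension_respectsIso
    rw [Scheme.Hom.appTop, Scheme.Hom.resLE_app_top]
    have hri := RingHom.isStandardSmoothOfRelativeDimension_respectsIso (n := n)
    rw [CommRingCat.hom_comp, hri.cancel_left_isIso, CommRingCat.hom_comp,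
      hri.cancel_right_isIso]
    exact hn
  rw [← Scheme.Hom.resLE_comp_ι f e]
  exact inferInstanceAs (SmoothOfRelativeDimension (n + 0) _)

theorem fibreDimAt_of_local {X Y V W : Scheme.{u}} (f : X ⟶ Y) (h' : V ⟶ W) (j : V ⟶ X)
    (b : W ⟶ Y) [Etale j] [Etale b] (comm : h' ≫ b = j ≫ f) (n : ℕ)
    [SmoothOfRelativeDimension n h'] (v : V) (x : X) (hx : j v = x) :
    FlatMor.fibreDimAt f x = (n : WithBot ℕ∞) := by
  subst hx
  rw [fibreDimAt_eq_of_etale_square f h' j b comm v]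
  exact fibreDimAt_eq n h' v

theorem fibreDimAt_comp {X Y Z : Scheme.{u}} (f : X ⟶ Y) (g : Y ⟶ Z) [Smooth f] [Smooth g]
    (x : X) :
    FlatMor.fibreDimAt (f ≫ g) x = FlatMor.fibreDimAt f x + FlatMor.fibreDimAt g (f x) := by
  obtain ⟨m, W, hW, hWs⟩ := exists_smoothOfRelativeDimension g (f x)
  obtain ⟨n, V₁, hV₁, hVs⟩ := exists_smoothOfRelativeDimension (f ∣_ W) ⟨x, hW⟩
  have comm1 : (V₁.ι ≫ f ∣_ W) ≫ W.ι = (V₁.ι ≫ (f ⁻¹ᵁ W).ι) ≫ f := by
    simp only [Category.assoc, morphismRestrict_ι]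
  have e1 : FlatMor.fibreDimAt f x = (n : WithBot ℕ∞) :=
    fibreDimAt_of_local f (V₁.ι ≫ f ∣_ W) (V₁.ι ≫ (f ⁻¹ᵁ W).ι) W.ι comm1 n
      ⟨⟨x, hW⟩, hV₁⟩ x rfl
  have e2 : FlatMor.fibreDimAt g (f x) = (m : WithBot ℕ∞) :=
    fibreDimAt_of_local g (W.ι ≫ g) W.ι (𝟙 Z) (Category.comp_id _) m ⟨f x, hW⟩ (f x) rfl
  haveI : SmoothOfRelativeDimension (n + m) ((V₁.ι ≫ f ∣_ W) ≫ W.ι ≫ g) := inferInstance
  have e3 : FlatMor.fibreDimAt (f ≫ g) x = ((n + m : ℕ) : WithBot ℕ∞) :=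
    fibreDimAt_of_local (f ≫ g) ((V₁.ι ≫ f ∣_ W) ≫ W.ι ≫ g) (V₁.ι ≫ (f ⁻¹ᵁ W).ι) (𝟙 Z)
      (by rw [Category.comp_id, ← Category.assoc, comm1, Category.assoc]) (n + m)
      ⟨⟨x, hW⟩, hV₁⟩ x rfl
  rw [e1, e2, e3]
  push_cast
  rfl

end Groth.Agent.H70.SmoothFibreDimComp
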