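import Mathlib
import Groth.Agent.H70.SmoothFibreDimComp
import Groth.Agent.H39.DerFin
import Groth.Agent.H8.LocFree

/-!
# Differentials of a smooth morphism: free of rank the fibre dimension
-/

set_option autoImplicit false
set_option linter.style.haveILetI false
universe u
open AlgebraicGeometry CategoryTheory CategoryTheory.Limits TopologicalSpace Topology

namespace Groth.Agent.H70.SmoothDiff

open Groth.Agent.H70.LocalDimEtale Groth.Agent.H70.SmoothFibreDim
  Groth.Agent.H70.SmoothFibreDimComp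

/-- Kähler differentials of a standard smooth algebra of relative dimension `n` are free of rank
`n`. -/
theorem nonempty_kaehler_equiv {R S : Type u} [CommRing R] [CommRing S] [Algebra R S] (n : ℕ)
    [Algebra.IsStandardSmoothOfRelativeDimension n R S] :
    Nonempty (Ω[S⁄R] ≃ₗ[S] (Fin n → S)) := by
  classical
  obtain ⟨ι, σ, _, _, P, e⟩ :=
    Algebra.IsStandardSmoothOfRelativeDimension.out (R := R) (S := S) (n := n)
  let e₀ : ((Set.range P.map)ᶜ : Set ι) ≃ Fin n :=
    Finite.equivFinOfCardEq (by rw [Nat.card_coe_set_eq, Set.ncard_compl,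
        Set.ncard_range_of_injective P.map_inj, ← e, Algebra.Presentation.dimension])
  haveI : Finite ((Set.range P.map)ᶜ : Set ι) := Finite.of_equiv _ e₀.symm
  exact ⟨P.basisKaehler.equivFun ≪≫ₗ LinearEquiv.funCongrLeft S S e₀.symm⟩

/-- Local standard smooth charts of a smooth morphism, with relative dimension. -/
theorem exists_affine_standardSmooth {X Y : Scheme.{u}} (f : X ⟶ Y) [Smooth f] (x : X) :
    ∃ (U : Y.Opens) (_ : IsAffineOpen U) (V : X.Opens) (_ : IsAffineOpen V) (_ : x ∈ V)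
      (e : V ≤ f ⁻¹ᵁ U) (n : ℕ),
      (f.appLE U V e).hom.IsStandardSmoothOfRelativeDimension n ∧
        SmoothOfRelativeDimension n (f.resLE U V e) := by
  obtain ⟨U, hU, V, hV, hx, e, hf⟩ := Smooth.exists_isStandardSmooth f x
  obtain ⟨n, hn⟩ : ∃ n, (f.appLE U V e).hom.IsStandardSmoothOfRelativeDimension n := by
    letI := (f.appLE U V e).hom.toAlgebra
    obtain ⟨_, _, _, _, ⟨P⟩⟩ := hf
    exact ⟨_, _, _, _, ‹_›, P, rfl⟩
  refine ⟨U, hU, V, hV, hx, e, n, hn, ?_⟩
  haveI : IsAffine U.toScheme := hU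
  haveI : IsAffine V.toScheme := hV
  rw [HasRingHomProperty.iff_of_isAffine (P := @SmoothOfRelativeDimension n)]
  apply RingHom.locally_of RingHom.isStandardSmoothOfRelativeDimension_respectsIso
  rw [Scheme.Hom.appTop, Scheme.Hom.resLE_app_top]
  have hri := RingHom.isStandardSmoothOfRelativeDimension_respectsIso (n := n)
  rw [CommRingCat.hom_comp, hri.cancel_left_isIso, CommRingCat.hom_comp,
    hri.cancel_right_isIso]
  exact hn

/-- For a smooth morphism, a sheaf of differentials is locally free of rank the local fibre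
dimension. -/
theorem differentials_free {X Y : Scheme.{u}} (f : X ⟶ Y) [Smooth f]
    (Ω' : X.Modules) (d : OmegaSh.Der f Ω') (hd : OmegaSh.IsUniversal d) (x : X) :
    ∃ (U : X.Opens) (n : ℕ), x ∈ U ∧ Nonempty (Ω'.restrict U.ι ≅ FlatMod.freeMod (↑U) n) ∧
      FlatMor.fibreDimAt f x = (n : WithBot ℕ∞) := by
  haveI := Groth.Agent.H39.DerFin.isQuasicoherent_of_isUniversal f hd
  obtain ⟨U, hU, V, hV, hx, e, n, hn, hs⟩ := exists_affine_standardSmooth f x
  refine ⟨V, n, hx, ?_, ?_⟩
  · letI : Algebra Γ(Y, U) Γ(X, V) := (f.appLE U V e).hom.toAlgebra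
    haveI : Algebra.IsStandardSmoothOfRelativeDimension n Γ(Y, U) Γ(X, V) := hn
    obtain ⟨ψ⟩ := Groth.Agent.H39.DerFin.nonempty_sections_linearEquiv_kaehler f hd hU hV e
    obtain ⟨φ⟩ := nonempty_kaehler_equiv (R := Γ(Y, U)) (S := Γ(X, V)) n
    exact Groth.Agent.H8.nonempty_restrict_iso_freeMod hV Ω' n (ψ ≪≫ₗ φ)
  · exact fibreDimAt_of_local f (f.resLE U V e) V.ι U.ι (Scheme.Hom.resLE_comp_ι f e) n
      ⟨x, hx⟩ x rfl

end Groth.Agent.H70.SmoothDiff
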