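import Mathlib
import Groth.Agent.H70.SmoothDiff

/-!
# A formally unramified map between smooth algebras of the same relative dimension is étale
-/

set_option autoImplicit false
set_option linter.style.haveILetI false
universe u
open AlgebraicGeometry CategoryTheory CategoryTheory.Limits TopologicalSpace Topology
open scoped TensorProduct

namespace Groth.Agent.H70.EtaleOfRank

open KaehlerDifferential

/-- Jacobi–Zariski: if `B` is formally smooth over `R`, formally unramified over `A`, and the
differentials of `A/R` and `B/R` are free of the same finite rank, then `B` is formally étale over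
`A`. -/
theorem formallyEtale_of_kaehler_rank {R A B : Type u} [CommRing R] [CommRing A] [CommRing B]
    [Algebra R A] [Algebra R B] [Algebra A B] [IsScalarTower R A B]
    [Algebra.FormallySmooth R B] [Algebra.FormallyUnramified A B] (n : ℕ)
    (eA : Ω[A⁄R] ≃ₗ[A] (Fin n → A)) (eB : Ω[B⁄R] ≃ₗ[B] (Fin n → B)) :
    Algebra.FormallyEtale A B := by
  let φ := mapBaseChange R A B
  have hsurj : Function.Surjective φ := by
    intro y
    have h := (KaehlerDifferential.exact_mapBaseChange_map R A B) y
    exact h.mp (Subsingleton.elim _ _)
  let eA' : B ⊗[A] Ω[A⁄R] ≃ₗ[B] (Fin n → B) :=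
    (LinearEquiv.baseChange A B _ _ eA).trans (TensorProduct.piScalarRight A B B (Fin n))
  let ψ : (Fin n → B) →ₗ[B] (Fin n → B) := eB.toLinearMap ∘ₗ φ ∘ₗ eA'.symm.toLinearMap
  have hψs : Function.Surjective ψ :=
    eB.surjective.comp (hsurj.comp eA'.symm.surjective)
  have hψi : Function.Injective ψ := OrzechProperty.injective_of_surjective_endomorphism ψ hψs
  have hinj : Function.Injective φ := by
    intro a b hab
    have : ψ (eA' a) = ψ (eA' b) := by simp [ψ, hab]
    exact eA'.injective (hψi this)
  have hH1 : Subsingleton (Algebra.H1Cotangent A B) := by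
    refine ⟨fun x y => ?_⟩
    have key : ∀ z : Algebra.H1Cotangent A B, z = 0 := by
      intro z
      have h1 : φ (Algebra.H1Cotangent.δ R A B z) = 0 :=
        (Algebra.H1Cotangent.exact_δ_mapBaseChange R A B).apply_apply_eq_zero z
      have h2 : Algebra.H1Cotangent.δ R A B z = 0 := hinj (by rw [h1, map_zero])
      obtain ⟨w, hw⟩ := ((Algebra.H1Cotangent.exact_map_δ R A B) z).mp h2
      rw [← hw, Subsingleton.elim w 0, map_zero]
    rw [key x, key y]
  haveI : Algebra.FormallySmooth A B := ⟨inferInstance, hH1⟩
  exact Algebra.FormallyEtale.of_formallyUnramified_and_formallySmooth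

end Groth.Agent.H70.EtaleOfRank
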