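import Groth.Agent.H5.ExDefs

/-! (D2) for helper5's S0829 squad. -/

set_option autoImplicit false
universe u
open CategoryTheory CategoryTheory.Limits AlgebraicGeometry Opposite
open Groth.Agent.S9528 Groth.Agent.H5.Ker Groth.Agent.H5.Ex
open Groth.Agent.H8 (appₗ app_res)
open Groth.Agent.S0833 (Jm)

namespace Groth.Agent.H70.Ex_D2

variable {A : Type u} [CommRing A] {X : Scheme.{u}} [X.Over (Spec (CommRingCat.of A))] (I : Ideal A)

theorem smul_mem_range_of_killed_coker {M N : X.Modules} [M.IsQuasicoherent] [N.IsQuasicoherent]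
    (f : M ⟶ N) {L : Ideal A} (h : Formal.KilledBy L (cokernel f)) {W : X.Opens}
    (hW : IsAffineOpen W) (b : Γ(X, W)) (hb : b ∈ Jm L W) (y : Γ(N, W)) :
    ∃ x : Γ(M, W), f.app W x = b • y := by
  haveI : (cokernel f).IsQuasicoherent := Groth.Agent.H8.isQuasicoherent_cokernel f
  haveI : (Abelian.image f).IsQuasicoherent :=
    Groth.Agent.H22.QCohLimits.isQuasicoherent_kernel (cokernel.π f)
  have h0 : (cokernel.π f).app W (b • y) = 0 := by
    rw [Scheme.Modules.Hom.app_smul]
    exact Groth.Agent.S0833.smul_eq_zero_of_killed h W b hb _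
  let S : ShortComplex X.Modules :=
    ShortComplex.mk (Abelian.image.ι f) (cokernel.π f) (kernel.condition (cokernel.π f))
  have hS : S.Exact := ShortComplex.exact_of_f_is_kernel S (kernelIsKernel (cokernel.π f))
  haveI : Mono S.f := inferInstanceAs (Mono (Abelian.image.ι f))
  obtain ⟨z, hz⟩ := Groth.Agent.H8.exists_app_eq_of_exact S hS W (b • y) h0
  obtain ⟨x, hx⟩ := Groth.Agent.S0833.app_surjective_of_epi (Abelian.factorThruImage f) hW z
  refine ⟨x, ?_⟩
  have h1 : Abelian.factorThruImage f ≫ Abelian.image.ι f = f := Abelian.image.fac f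
  have h2 : f.app W x = (Abelian.image.ι f).app W ((Abelian.factorThruImage f).app W x) := by
    conv_lhs => rw [← h1]
    rfl
  rw [h2, hx]
  exact hz

end Groth.Agent.H70.Ex_D2
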