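import Mathlib

set_option autoImplicit false

namespace Groth.Agent.H70

open TensorProduct

universe u

/-- a finite flat injective algebra is faithfully flat -/
theorem faithfullyFlat_of_finite_of_injective (B C : Type*) [CommRing B] [CommRing C] [Algebra B C]
    [Module.Finite B C] [Module.Flat B C] (hinj : Function.Injective (algebraMap B C)) :
    Module.FaithfullyFlat B C := by
  refine ⟨?_⟩
  intro m hm htop
  obtain ⟨r, hr, hr0⟩ := Submodule.exists_sub_one_mem_and_smul_eq_zero_of_fg_of_le_smul m
    (⊤ : Submodule B C) Module.Finite.fg_top (by rw [htop])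
  have h1 : algebraMap B C r = 0 := by
    have := hr0 1 trivial
    rwa [Algebra.smul_def, mul_one] at this
  have h2 : r = 0 := hinj (by rw [h1, map_zero])
  rw [h2, zero_sub, neg_mem_iff] at hr
  exact hm.ne_top ((Ideal.eq_top_iff_one m).mpr hr)

theorem lTensor_injective_of_faithfullyFlat (R B C R' : Type*) [CommRing R] [CommRing B] [CommRing C]
    [Algebra R B] [Algebra R C] [Algebra B C] [IsScalarTower R B C] [AddCommGroup R'] [Module R R']
    [Module.FaithfullyFlat B C] :
    Function.Injective ((IsScalarTower.toAlgHom R B C).toLinearMap.lTensor R') := by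
  rw [LinearMap.lTensor_inj_iff_rTensor_inj]
  have h1 := Module.FaithfullyFlat.tensorProduct_mk_injective (A := B) (B := C) (B ⊗[R] R')
  let canc := TensorProduct.AlgebraTensorModule.cancelBaseChange R B B C R'
  have key : ∀ m : B ⊗[R] R', canc ((1 : C) ⊗ₜ[B] m) =
      (IsScalarTower.toAlgHom R B C).toLinearMap.rTensor R' m := by
    intro m
    induction m using TensorProduct.induction_on with
    | zero => simp
    | tmul b r =>
      simp [canc, Algebra.smul_def]
    | add x y hx hy => rw [TensorProduct.tmul_add, map_add, hx, hy, map_add]
  intro x y hxy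
  rw [← key, ← key] at hxy
  exact h1 (canc.injective hxy)

end Groth.Agent.H70
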