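import Mathlib
import Groth.Agent.H70.GeomUnibranchNbhd
import Groth.Agent.H47.Hens4
import Groth.Agent.S2052
import Groth.Agent.H14.HenselLift

/-!
# Unibranch local rings and elementary étale neighbourhoods (ring level)
-/

set_option autoImplicit false
set_option linter.style.haveILetI false
universe u
open IsLocalRing

namespace Groth.Agent.H70.UnibranchNbhd

open Groth.Agent.H70.GeomUnibranchNbhd

theorem minimalPrimes_unique_of_flat_local {E : Type u} [CommRing E] (q' : Ideal E) [q'.IsPrime]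
    (S : Type u) [CommRing S] [IsLocalRing S] (ψ0 : Localization.AtPrime q' →+* S)
    (hψloc : IsLocalHom ψ0) (hψflat : ψ0.Flat) (hS : CAlgX.HasUniqueMinimalPrime S)
    (q1 : Ideal E) (hq1 : q1 ∈ minimalPrimes E) (q2 : Ideal E) (hq2 : q2 ∈ minimalPrimes E)
    (h1 : q1 ≤ q') (h2 : q2 ≤ q') : q1 = q2 := by
  classical
  obtain ⟨M0, hM0, hM0uniq⟩ := hS
  haveI : M0.IsPrime := hM0.1.1
  letI algL : Algebra (Localization.AtPrime q') S := ψ0.toAlgebra
  haveI : IsLocalHom (algebraMap (Localization.AtPrime q') S) := hψloc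
  haveI : Module.Flat (Localization.AtPrime q') S := hψflat
  haveI : Module.FaithfullyFlat (Localization.AtPrime q') S :=
    Module.FaithfullyFlat.of_flat_of_isLocalHom
  let θ : E →+* S :=
    (algebraMap (Localization.AtPrime q') S).comp (algebraMap E (Localization.AtPrime q'))
  let P0 : Ideal E := M0.comap θ
  haveI : P0.IsPrime := Ideal.comap_isPrime _ _
  have key : ∀ (q1 : Ideal E), q1 ∈ minimalPrimes E → q1 ≤ q' → P0 = q1 := by
    intro q1 hq1 h1
    haveI : q1.IsPrime := hq1.1.1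
    have hdisj : Disjoint (q'.primeCompl : Set E) (q1 : Set E) := by
      rw [Set.disjoint_left]
      intro x hx hx1
      exact hx (h1 hx1)
    let Q1 : Ideal (Localization.AtPrime q') := q1.map (algebraMap E (Localization.AtPrime q'))
    haveI hQ1 : Q1.IsPrime :=
      IsLocalization.isPrime_of_isPrime_disjoint q'.primeCompl _ q1 inferInstance hdisj
    have hQ1c : Q1.comap (algebraMap E (Localization.AtPrime q')) = q1 :=
      IsLocalization.under_map_of_isPrime_disjoint q'.primeCompl _ inferInstance hdisj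
    obtain ⟨N1, hN1⟩ := PrimeSpectrum.comap_surjective_of_faithfullyFlat
      (A := Localization.AtPrime q') (B := S) ⟨Q1, hQ1⟩
    have hN1' : N1.asIdeal.comap (algebraMap (Localization.AtPrime q') S) = Q1 :=
      congrArg PrimeSpectrum.asIdeal hN1
    obtain ⟨M, hM, hMle⟩ := Ideal.exists_minimalPrimes_le (I := ⊥) (J := N1.asIdeal) bot_le
    have hMM0 : M = M0 := hM0uniq M hM
    have hle : P0 ≤ q1 := by
      rw [← hQ1c, ← hN1']
      show Ideal.comap θ M0 ≤ Ideal.comap (algebraMap E _)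
        (Ideal.comap (algebraMap _ S) N1.asIdeal)
      rw [Ideal.comap_comap]
      exact Ideal.comap_mono (hMM0 ▸ hMle)
    exact le_antisymm hle (hq1.2 ⟨inferInstance, bot_le⟩ hle)
  exact (key q1 hq1 h1).symm.trans (key q2 hq2 h2)

/-- (⇒), ring level: over a unibranch point, an étale algebra with a residue point in the
residue field of the henselization has a unique minimal prime below the corresponding prime. -/
theorem minimalPrimes_unique_of_isUnibranch {A0 E : Type u} [CommRing A0] [CommRing E]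
    [Algebra A0 E] [Algebra.Etale A0 E]
    (p : Ideal A0) [p.IsPrime] (Rp : Type u) [CommRing Rp] [IsLocalRing Rp] [Algebra A0 Rp]
    [IsLocalization.AtPrime Rp p] (hA : CAlg2.IsUnibranch Rp)
    (Rh : Type u) [CommRing Rh] [IsLocalRing Rh] [Algebra Rp Rh] [IsLocalHom (algebraMap Rp Rh)]
    [Hensel.IsHenselization Rp Rh] [Algebra A0 Rh] [IsScalarTower A0 Rp Rh]
    (q' : Ideal E) [q'.IsPrime]
    (ρ : E →ₐ[A0] ResidueField Rh) (hq : ∀ c, ρ c = 0 ↔ c ∈ q')
    (q1 : Ideal E) (hq1 : q1 ∈ minimalPrimes E) (q2 : Ideal E) (hq2 : q2 ∈ minimalPrimes E)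
    (h1 : q1 ≤ q') (h2 : q2 ≤ q') : q1 = q2 := by
  classical
  haveI hHens : HenselianLocalRing Rh := Hensel.IsHenselization.henselian (R := Rp)
  have hI := Groth.Agent.H47.HensNoeth.isIndEtaleLocal_of_isHenselization Rp Rh
  haveI : Module.Flat Rp Rh := hI.flat
  haveI : Module.Flat A0 Rp := IsLocalization.flat Rp p.primeCompl
  haveI : Module.Flat A0 Rh := Module.Flat.trans A0 Rp Rh
  obtain ⟨φ', hφ'⟩ := Groth.Agent.H14.exists_lift_localization ρ q' hq
  letI algLS : Algebra (Localization.AtPrime q') Rh := φ'.toRingHom.toAlgebra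
  haveI : IsScalarTower A0 (Localization.AtPrime q') Rh :=
    IsScalarTower.of_algebraMap_eq (fun a => (φ'.commutes a).symm)
  haveI : Module.Flat (Localization.AtPrime q') Rh :=
    Algebra.FormallyUnramified.flat_of_restrictScalars A0 _ Rh
  have hnu : ∀ c : E, c ∈ q' → ¬ IsUnit (φ' (algebraMap E _ c)) := fun c hc hu => by
    have h0 : residue Rh (φ' (algebraMap E _ c)) = 0 := by rw [hφ']; exact (hq c).mpr hc
    exact ((mem_maximalIdeal _).mp ((residue_eq_zero_iff _).mp h0)) hu
  have hun : ∀ c : E, c ∉ q' → IsUnit (φ' (algebraMap E _ c)) := fun c hc => by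
    by_contra hnu'
    have h0 : residue Rh (φ' (algebraMap E _ c)) = 0 :=
      (residue_eq_zero_iff _).mpr ((mem_maximalIdeal _).mpr hnu')
    rw [hφ'] at h0
    exact hc ((hq c).mp h0)
  have hloc : IsLocalHom φ'.toRingHom := ⟨fun x hx => by
    obtain ⟨⟨a, s⟩, hxs⟩ := IsLocalization.surj q'.primeCompl x
    have hx' : IsUnit (φ' x) := hx
    have h1 : φ' x * φ' (algebraMap E _ (s : E)) = φ' (algebraMap E _ a) := by
      rw [← map_mul]
      exact congrArg φ' hxs
    have h2 : IsUnit (φ' (algebraMap E _ a)) := by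
      rw [← h1]
      exact hx'.mul (hun s s.2)
    have h3 : a ∉ q' := fun h => hnu a h h2
    have h4 : IsUnit (algebraMap E (Localization.AtPrime q') a) :=
      IsLocalization.map_units _ (⟨a, h3⟩ : q'.primeCompl)
    rw [← hxs] at h4
    exact isUnit_of_mul_isUnit_left h4⟩
  have hflat : φ'.toRingHom.Flat := by
    show Module.Flat (Localization.AtPrime q') Rh
    infer_instance
  have hS : CAlgX.HasUniqueMinimalPrime Rh :=
    (Groth.Agent.S2052.result (A := Rp) (Ah := Rh)).mp hA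
  exact minimalPrimes_unique_of_flat_local q' Rh φ'.toRingHom hloc hflat hS q1 hq1 q2 hq2 h1 h2

/-- (⇐), ring level. -/
theorem isUnibranch_of_forall_etale {A0 : Type u} [CommRing A0] (p : Ideal A0) [p.IsPrime]
    (Rp : Type u) [CommRing Rp] [IsLocalRing Rp] [Algebra A0 Rp] [IsLocalization.AtPrime Rp p]
    (H : ∀ (E0 : Type u) [CommRing E0] [Algebra A0 E0] [Algebra.Etale A0 E0] (q0 : Ideal E0)
      [q0.IsPrime] [q0.LiesOver p],
      (∀ b : E0, ∃ a : A0, ∃ s ∈ p.primeCompl,
        algebraMap A0 E0 s * b - algebraMap A0 E0 a ∈ q0) →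
      ∀ P1 ∈ minimalPrimes E0, ∀ P2 ∈ minimalPrimes E0, P1 ≤ q0 → P2 ≤ q0 → P1 = P2) :
    CAlg2.IsUnibranch Rp := by
  let Rh := Groth.Agent.H47.Hens.Hloc Rp
  have hI := Groth.Agent.H47.HensNoeth.isIndEtaleLocal_of_isHenselization Rp Rh
  letI : Algebra A0 Rh := ((algebraMap Rp Rh).comp (algebraMap A0 Rp)).toAlgebra
  haveI : IsScalarTower A0 Rp Rh := IsScalarTower.of_algebraMap_eq (fun _ => rfl)
  rw [Groth.Agent.S2052.result (A := Rp) (Ah := Rh),
    ← Groth.Agent.H47.Unibranch.isPrime_nilradical_iff]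
  apply isPrime_nilradical_of_forall_etale p Rp Rh hI
  intro E0 _ _ _ φ0 P1 hP1 P2 hP2 h1 h2
  haveI : ((maximalIdeal Rh).comap φ0.toRingHom).IsPrime := Ideal.comap_isPrime _ _
  haveI := liesOver_comap_maximalIdeal p Rp Rh E0 φ0
  refine H E0 _ ?_ P1 hP1 P2 hP2 h1 h2
  intro b
  obtain ⟨r, hr⟩ := Groth.Agent.H47.Hens.exists_sub_mem_maximalIdeal' Rp Rh (φ0 b)
  obtain ⟨⟨a, s⟩, has⟩ := IsLocalization.surj p.primeCompl r
  refine ⟨a, s, s.2, ?_⟩
  show φ0 (algebraMap A0 E0 s * b - algebraMap A0 E0 a) ∈ maximalIdeal Rh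
  rw [map_sub, map_mul, φ0.commutes, φ0.commutes]
  have e1 : algebraMap A0 Rh a = algebraMap Rp Rh r * algebraMap A0 Rh s := by
    rw [IsScalarTower.algebraMap_apply A0 Rp Rh a, ← has, map_mul,
      ← IsScalarTower.algebraMap_apply A0 Rp Rh]
  have e2 : algebraMap A0 Rh s * φ0 b - algebraMap A0 Rh a =
      algebraMap A0 Rh s * (φ0 b - algebraMap Rp Rh r) := by
    rw [e1]; ring
  rw [e2]
  exact Ideal.mul_mem_left _ _ hr

end Groth.Agent.H70.UnibranchNbhd
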