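import Mathlib
import Groth.Agent.H70.BranchTop
import Groth.Agent.H70.UnibranchNbhd

set_option autoImplicit false
set_option linter.style.haveILetI false
universe u
open AlgebraicGeometry CategoryTheory TopologicalSpace IsLocalRing

namespace Groth.Agent.H70.UnibranchScheme

open Groth.Agent.H70.BranchTop Groth.Agent.H70.UnibranchNbhd

variable {X : Scheme.{u}}

theorem germ_appLE_apply {U : Scheme.{u}} (g : U ⟶ X) (u : U) (V : X.Opens) (W : U.Opens)
    (hWV : W ≤ g ⁻¹ᵁ V) (huW : u ∈ W) (a : Γ(X, V)) :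
    U.presheaf.germ W u huW ((g.appLE V W hWV).hom a) =
      g.stalkMap u (X.presheaf.germ V (g u) (hWV huW) a) := by
  simp only [Scheme.Hom.germ_stalkMap_apply, Scheme.Hom.appLE,
      homOfLE_leOfHom, CommRingCat.hom_comp, RingHom.coe_comp, Function.comp_apply,
      U.presheaf.germ_res_apply]

theorem encard_eq_one_of_isUnibranch {U : Scheme.{u}} (g : U ⟶ X) (u : U) [Etale g]
    (hres : Function.Bijective (g.residueFieldMap u))
    (hX : CAlg2.IsUnibranch (X.presheaf.stalk (g u))) :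
    {Z : Set U | Z ∈ irreducibleComponents U ∧ u ∈ Z}.encard = 1 := by
  obtain ⟨V, hV, hxV, -⟩ :=
    exists_isAffineOpen_mem_and_subset (x := g u) (U := (⊤ : X.Opens)) trivial
  obtain ⟨W, hW, huW, hWV⟩ :=
    exists_isAffineOpen_mem_and_subset (x := u) (U := g ⁻¹ᵁ V) hxV
  have hEt : (g.appLE V W hWV).hom.Etale :=
    HasRingHomProperty.appLE (P := @Etale) g inferInstance ⟨V, hV⟩ ⟨W, hW⟩ hWV
  algebraize [(g.appLE V W hWV).hom]
  let p := (hV.primeIdealOf ⟨g u, hWV huW⟩).asIdeal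
  let q := (hW.primeIdealOf ⟨u, huW⟩).asIdeal
  letI algSt : Algebra Γ(X, V) (X.presheaf.stalk (g u)) :=
    TopCat.Presheaf.algebra_section_stalk X.presheaf (⟨g u, hWV huW⟩ : V)
  haveI : IsLocalization.AtPrime (X.presheaf.stalk (g u)) p :=
    hV.isLocalization_stalk ⟨g u, hWV huW⟩
  letI algStU : Algebra Γ(U, W) (U.presheaf.stalk u) :=
    TopCat.Presheaf.algebra_section_stalk U.presheaf (⟨u, huW⟩ : W)
  haveI : IsLocalization.AtPrime (U.presheaf.stalk u) q :=
    hW.isLocalization_stalk ⟨u, huW⟩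
  let Rp := X.presheaf.stalk (g u)
  let Rh := Groth.Agent.H47.Hens.Hloc Rp
  letI : Algebra Γ(X, V) Rh := ((algebraMap Rp Rh).comp (algebraMap Γ(X, V) Rp)).toAlgebra
  haveI : IsScalarTower Γ(X, V) Rp Rh := IsScalarTower.of_algebraMap_eq (fun _ => rfl)
  let e : ResidueField (X.presheaf.stalk (g u)) ≃+* ResidueField (U.presheaf.stalk u) :=
    RingEquiv.ofBijective (ResidueField.map (g.stalkMap u).hom) hres
  let ρr : Γ(U, W) →+* ResidueField Rh :=
    (ResidueField.map (algebraMap Rp Rh)).comp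
      (e.symm.toRingHom.comp ((residue (U.presheaf.stalk u)).comp (U.presheaf.germ W u huW).hom))
  have hcomm : ∀ a : Γ(X, V), ρr (algebraMap Γ(X, V) Γ(U, W) a) =
      algebraMap Γ(X, V) (ResidueField Rh) a := by
    intro a
    show (ResidueField.map (algebraMap Rp Rh)) (e.symm (residue _
      (U.presheaf.germ W u huW ((g.appLE V W hWV).hom a)))) = _
    rw [germ_appLE_apply]
    have h1 : residue (U.presheaf.stalk u)
        (g.stalkMap u (X.presheaf.germ V (g u) (hWV huW) a)) =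
        e (residue _ (X.presheaf.germ V (g u) (hWV huW) a)) := rfl
    rw [h1, RingEquiv.symm_apply_apply]
    rfl
  let ρ : Γ(U, W) →ₐ[Γ(X, V)] ResidueField Rh := { ρr with commutes' := hcomm }
  have hq : ∀ c, ρ c = 0 ↔ c ∈ q := by
    intro c
    show (ResidueField.map (algebraMap Rp Rh)) (e.symm (residue _
      (U.presheaf.germ W u huW c))) = 0 ↔ _
    rw [map_eq_zero_iff _ (RingHom.injective _), map_eq_zero_iff _ e.symm.injective,
      residue_eq_zero_iff]
    exact IsLocalization.AtPrime.to_map_mem_maximal_iff (U.presheaf.stalk u) q c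
  apply encard_eq_one_of_minimalPrimes_unique u hW huW
  intro P1 hP1 P2 hP2 h1 h2
  exact minimalPrimes_unique_of_isUnibranch p Rp hX Rh q ρ hq P1 hP1 P2 hP2 h1 h2


theorem residueFieldMap_surjective {U : Scheme.{u}} (g : U ⟶ X) (u : U) {V : X.Opens}
    (hV : IsAffineOpen V) {W : U.Opens} (hW : IsAffineOpen W) (hWV : W ≤ g ⁻¹ᵁ V) (huW : u ∈ W)
    (hRT : ∀ b : Γ(U, W), ∃ a s : Γ(X, V), s ∉ (hV.primeIdealOf ⟨g u, hWV huW⟩).asIdeal ∧
      (g.appLE V W hWV).hom s * b - (g.appLE V W hWV).hom a ∈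
        (hW.primeIdealOf ⟨u, huW⟩).asIdeal) :
    Function.Surjective (g.residueFieldMap u) := by
  let p := (hV.primeIdealOf ⟨g u, hWV huW⟩).asIdeal
  let q := (hW.primeIdealOf ⟨u, huW⟩).asIdeal
  letI algSt : Algebra Γ(X, V) (X.presheaf.stalk (g u)) :=
    TopCat.Presheaf.algebra_section_stalk X.presheaf (⟨g u, hWV huW⟩ : V)
  haveI : IsLocalization.AtPrime (X.presheaf.stalk (g u)) p :=
    hV.isLocalization_stalk ⟨g u, hWV huW⟩
  letI algStU : Algebra Γ(U, W) (U.presheaf.stalk u) :=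
    TopCat.Presheaf.algebra_section_stalk U.presheaf (⟨u, huW⟩ : W)
  haveI : IsLocalization.AtPrime (U.presheaf.stalk u) q :=
    hW.isLocalization_stalk ⟨u, huW⟩
  let Fm : ResidueField (X.presheaf.stalk (g u)) →+* ResidueField (U.presheaf.stalk u) :=
    ResidueField.map (g.stalkMap u).hom
  show Function.Surjective Fm
  let r : Γ(U, W) →+* ResidueField (U.presheaf.stalk u) :=
    (residue (U.presheaf.stalk u)).comp (algebraMap Γ(U, W) (U.presheaf.stalk u))
  let ρx : Γ(X, V) →+* ResidueField (X.presheaf.stalk (g u)) :=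
    (residue (X.presheaf.stalk (g u))).comp (algebraMap Γ(X, V) (X.presheaf.stalk (g u)))
  have hkey : ∀ a : Γ(X, V), r ((g.appLE V W hWV).hom a) = Fm (ρx a) := by
    intro a
    show residue _ (U.presheaf.germ W u huW ((g.appLE V W hWV).hom a)) = _
    rw [germ_appLE_apply]
    rfl
  have hr0 : ∀ c : Γ(U, W), r c = 0 ↔ c ∈ q := by
    intro c
    show residue _ (algebraMap Γ(U, W) (U.presheaf.stalk u) c) = 0 ↔ _
    rw [residue_eq_zero_iff]
    exact IsLocalization.AtPrime.to_map_mem_maximal_iff (U.presheaf.stalk u) q c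
  have hρ0 : ∀ s : Γ(X, V), ρx s = 0 ↔ s ∈ p := by
    intro s
    show residue _ (algebraMap Γ(X, V) (X.presheaf.stalk (g u)) s) = 0 ↔ _
    rw [residue_eq_zero_iff]
    exact IsLocalization.AtPrime.to_map_mem_maximal_iff (X.presheaf.stalk (g u)) p s
  intro y
  obtain ⟨σ, rfl⟩ := residue_surjective y
  obtain ⟨⟨b, c⟩, hbc⟩ := IsLocalization.surj q.primeCompl σ
  have hbc' : residue _ σ * r c = r b := by
    show residue _ σ * residue _ (algebraMap Γ(U, W) (U.presheaf.stalk u) c) =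
      residue _ (algebraMap Γ(U, W) (U.presheaf.stalk u) b)
    rw [← map_mul, hbc]
  have hrc : r c ≠ 0 := fun h => c.2 ((hr0 c).mp h)
  obtain ⟨ab, sb, hsb, hb⟩ := hRT b
  obtain ⟨ac, sc, hsc, hc⟩ := hRT c
  have hb' : Fm (ρx sb) * r b = Fm (ρx ab) := by
    have := (hr0 _).mpr hb
    rw [map_sub, map_mul, hkey, hkey, sub_eq_zero] at this
    exact this
  have hc' : Fm (ρx sc) * r c = Fm (ρx ac) := by
    have := (hr0 _).mpr hc
    rw [map_sub, map_mul, hkey, hkey, sub_eq_zero] at this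
    exact this
  have hsb0 : Fm (ρx sb) ≠ 0 := by
    rw [Ne, map_eq_zero_iff _ (RingHom.injective _), hρ0]; exact hsb
  have hsc0 : Fm (ρx sc) ≠ 0 := by
    rw [Ne, map_eq_zero_iff _ (RingHom.injective _), hρ0]; exact hsc
  have hac0 : Fm (ρx ac) ≠ 0 := by
    rw [← hc']; exact mul_ne_zero hsc0 hrc
  refine ⟨(ρx ab * ρx sc) / (ρx sb * ρx ac), ?_⟩
  rw [map_div₀, map_mul, map_mul, ← hb', ← hc']
  have hσ : residue _ σ = r b / r c := by
    rw [eq_div_iff hrc]; exact hbc'
  rw [hσ]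
  field_simp


open Groth.Agent.H70.LocDomain in
theorem isUnibranch_of_forall_encard_eq_one (x : X)
    (H : ∀ (U : Scheme.{u}) (g : U ⟶ X) (u : U), Hens2.IsEtaleNbhd g u x →
      {Z : Set ↑U | Z ∈ irreducibleComponents ↑U ∧ u ∈ Z}.encard = 1) :
    CAlg2.IsUnibranch (X.presheaf.stalk x) := by
  obtain ⟨V, hV, hxV, -⟩ :=
    exists_isAffineOpen_mem_and_subset (x := x) (U := (⊤ : X.Opens)) trivial
  let p := (hV.primeIdealOf ⟨x, hxV⟩).asIdeal
  letI algSt : Algebra Γ(X, V) (X.presheaf.stalk x) :=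
    TopCat.Presheaf.algebra_section_stalk X.presheaf (⟨x, hxV⟩ : V)
  haveI : IsLocalization.AtPrime (X.presheaf.stalk x) p :=
    hV.isLocalization_stalk ⟨x, hxV⟩
  apply isUnibranch_of_forall_etale p (X.presheaf.stalk x)
  intro E0 _ _ _ q0 _ _ hRT P1 hP1 P2 hP2 h1 h2
  let φ : CommRingCat.of Γ(X, V) ⟶ CommRingCat.of E0 := CommRingCat.ofHom (algebraMap Γ(X, V) E0)
  haveI : Etale (Spec.map φ) := by
    rw [HasRingHomProperty.Spec_iff (P := @Etale)]
    exact RingHom.etale_algebraMap.mpr inferInstance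
  haveI : IsOpenImmersion hV.fromSpec := hV.isOpenImmersion_fromSpec
  let g : Spec (CommRingCat.of E0) ⟶ X := Spec.map φ ≫ hV.fromSpec
  let u : ↥(Spec (CommRingCat.of E0)) := (⟨q0, inferInstance⟩ : PrimeSpectrum E0)
  have hgu : g u = x := by
    have h3 : (Spec.map φ) u = hV.primeIdealOf ⟨x, hxV⟩ := by
      apply PrimeSpectrum.ext
      show Ideal.comap (algebraMap Γ(X, V) E0) q0 = p
      exact (Ideal.over_def q0 p).symm
    show hV.fromSpec ((Spec.map φ) u) = x
    rw [h3]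
    exact hV.fromSpec_primeIdealOf ⟨x, hxV⟩
  have hTop : IsAffineOpen (⊤ : (Spec (CommRingCat.of E0)).Opens) := isAffineOpen_top _
  have hWV : (⊤ : (Spec (CommRingCat.of E0)).Opens) ≤ g ⁻¹ᵁ V := fun z _ =>
    fromSpec_mem hV ((Spec.map φ) z)
  let ι := Scheme.ΓSpecIso (CommRingCat.of E0)
  have hfs : hTop.fromSpec = Spec.map ι.inv := by
    rw [IsAffineOpen.fromSpec_top, Scheme.isoSpec_Spec_inv]
  have F1 : g.appLE V ⊤ hWV = φ ≫ ι.inv := by
    have h1 := IsAffineOpen.SpecMap_appLE_fromSpec g hV hTop hWV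
    rw [hfs] at h1
    have h2 : Spec.map ι.inv ≫ g = Spec.map (φ ≫ ι.inv) ≫ hV.fromSpec := by
      rw [Spec.map_comp, Category.assoc]
    rw [h2] at h1
    exact Spec.map_injective ((cancel_mono hV.fromSpec).mp h1)
  have F2 : ∀ b' : Γ(Spec (CommRingCat.of E0), ⊤),
      b' ∈ (hTop.primeIdealOf ⟨u, trivial⟩).asIdeal ↔ ι.hom b' ∈ q0 := by
    intro b'
    have h1 := hTop.fromSpec_primeIdealOf ⟨u, trivial⟩
    rw [hfs] at h1
    have h2 : ι.hom b' ∈ q0 ↔ ι.inv (ι.hom b') ∈ (hTop.primeIdealOf ⟨u, trivial⟩).asIdeal := by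
      have h3 : ((Spec.map ι.inv) (hTop.primeIdealOf ⟨u, trivial⟩)).asIdeal = q0 :=
        congrArg PrimeSpectrum.asIdeal h1
      rw [← h3]
      rfl
    rw [h2]
    have h4 : ι.inv (ι.hom b') = b' := by
      rw [← CommRingCat.comp_apply, Iso.hom_inv_id]; rfl
    rw [h4]
  have hnb : Hens2.IsEtaleNbhd g u x := by
    refine ⟨inferInstance, hgu, ⟨RingHom.injective _, ?_⟩⟩
    apply residueFieldMap_surjective g u hV hTop hWV trivial
    intro b'
    obtain ⟨a, s, hs, hmem⟩ := hRT (ι.hom b')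
    refine ⟨a, s, ?_, ?_⟩
    · have e : hV.primeIdealOf ⟨g u, hWV trivial⟩ = hV.primeIdealOf ⟨x, hxV⟩ := by
        congr 1
        exact Subtype.ext hgu
      rw [e]
      exact hs
    · rw [F2, F1, map_sub, map_mul]
      have h5 : ∀ t : Γ(X, V), ι.hom ((φ ≫ ι.inv).hom t) = algebraMap Γ(X, V) E0 t := by
        intro t
        show ι.hom (ι.inv (φ.hom t)) = _
        rw [← CommRingCat.comp_apply, Iso.inv_hom_id]; rfl
      rw [h5, h5]
      exact hmem
  have h4 := H _ g u hnb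
  exact minimalPrimes_unique_of_encard_eq_one (R := E0) ⟨q0, inferInstance⟩ h4 P1 hP1 P2 hP2 h1 h2

end Groth.Agent.H70.UnibranchScheme
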