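import Mathlib
import Groth.Agent.H70.BranchCount
import Groth.Agent.H70.FibreBranchRing
import Groth.Agent.H9.FiberStalk
import Groth.Agent.S9753
import Groth.Agent.S9752

/-!
# Branch counts of fibres via étale neighbourhoods (scheme level)
-/

set_option autoImplicit false
set_option linter.style.haveILetI false
universe u
open AlgebraicGeometry CategoryTheory TopologicalSpace IsLocalRing Limits

namespace Groth.Agent.H70.FibreBranchScheme

open Groth.Agent.H70.BranchTop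

variable {X S U : Scheme.{u}}

/-- The map induced on fibres over `s` by `g : U ⟶ X`. -/
noncomputable def fibreMap (f : X ⟶ S) (g : U ⟶ X) (s : S) : (g ≫ f).fiber s ⟶ f.fiber s :=
  pullback.map (g ≫ f) (S.fromSpecResidueField s) f (S.fromSpecResidueField s) g (𝟙 _) (𝟙 S)
    (by simp) (by simp)

theorem fibreMap_fiberι (f : X ⟶ S) (g : U ⟶ X) (s : S) :
    fibreMap f g s ≫ f.fiberι s = (g ≫ f).fiberι s ≫ g := by
  unfold fibreMap Scheme.Hom.fiberι pullback.map
  exact pullback.lift_fst _ _ _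

theorem fibreMap_fiberToSpecResidueField (f : X ⟶ S) (g : U ⟶ X) (s : S) :
    fibreMap f g s ≫ f.fiberToSpecResidueField s = (g ≫ f).fiberToSpecResidueField s := by
  unfold fibreMap Scheme.Hom.fiberToSpecResidueField pullback.map
  exact (pullback.lift_snd _ _ _).trans (Category.comp_id _)

theorem isPullback_fibreMap (f : X ⟶ S) (g : U ⟶ X) (s : S) :
    IsPullback (fibreMap f g s) ((g ≫ f).fiberι s) (f.fiberι s) g := by
  have big : IsPullback (fibreMap f g s ≫ f.fiberToSpecResidueField s) ((g ≫ f).fiberι s)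
      (S.fromSpecResidueField s) (g ≫ f) := by
    rw [fibreMap_fiberToSpecResidueField]
    exact (IsPullback.of_hasPullback (g ≫ f) (S.fromSpecResidueField s)).flip
  have right : IsPullback (f.fiberToSpecResidueField s) (f.fiberι s)
      (S.fromSpecResidueField s) f :=
    (IsPullback.of_hasPullback f (S.fromSpecResidueField s)).flip
  exact IsPullback.of_right big (fibreMap_fiberι f g s) right

instance etale_fibreMap (f : X ⟶ S) (g : U ⟶ X) [Etale g] (s : S) : Etale (fibreMap f g s) :=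
  MorphismProperty.of_isPullback (P := @Etale) (isPullback_fibreMap f g s).flip inferInstance

theorem fibreMap_apply (f : X ⟶ S) (g : U ⟶ X) (s : S) (u' : ↥((g ≫ f).fiber s)) :
    (f.fiberι s) (fibreMap f g s u') = g ((g ≫ f).fiberι s u') := by
  rw [← Scheme.Hom.comp_apply, fibreMap_fiberι, Scheme.Hom.comp_apply]

/-- The point of the fibre over `u`. -/
noncomputable def fibrePt (h : U ⟶ S) (s : S) (u : U) (hu : h u = s) : ↥(h.fiber s) :=
  (h.fiberHomeo s).symm ⟨u, hu⟩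

theorem fiberι_fibrePt (h : U ⟶ S) (s : S) (u : U) (hu : h u = s) :
    h.fiberι s (fibrePt h s u hu) = u :=
  h.fiberι_fiberHomeo_symm s ⟨u, hu⟩

theorem map_fiberι (h : U ⟶ S) (s : S) (u' : ↥(h.fiber s)) : h (h.fiberι s u') = s := by
  have : h.fiberι s u' ∈ Set.range (h.fiberι s) := ⟨u', rfl⟩
  rw [Scheme.Hom.range_fiberι] at this
  exact this

theorem setOf_fibre_eq (h : U ⟶ S) (s : S) (u : U) (hu : h u = s) :
    {Z : Set ↑(h.fiber s) | Z ∈ irreducibleComponents ↑(h.fiber s) ∧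
      ∃ u' ∈ Z, h.fiberι s u' = u} =
    {Z : Set ↑(h.fiber s) | Z ∈ irreducibleComponents ↑(h.fiber s) ∧ fibrePt h s u hu ∈ Z} := by
  ext Z
  constructor
  · rintro ⟨hZ, u', hu', he⟩
    refine ⟨hZ, ?_⟩
    have : u' = fibrePt h s u hu := by
      apply (h.fiberι s).isEmbedding.injective
      rw [he, fiberι_fibrePt]
    rwa [← this]
  · rintro ⟨hZ, hmem⟩
    exact ⟨hZ, _, hmem, fiberι_fibrePt h s u hu⟩

/-- Topological lower bound for the number of irreducible components of a fibre through a point. -/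
theorem encard_le_fibre (h : U ⟶ S) (s : S) (u : U) (hu : h u = s) (PP : Set U)
    (ha : ∀ P ∈ PP, h P = s) (hb : ∀ P ∈ PP, P ⤳ u)
    (hc : ∀ P ∈ PP, ∀ Q : U, h Q = s → Q ⤳ P → Q = P) :
    PP.encard ≤ {Z : Set ↑(h.fiber s) | Z ∈ irreducibleComponents ↑(h.fiber s) ∧
      ∃ u' ∈ Z, h.fiberι s u' = u}.encard := by
  rw [setOf_fibre_eq h s u hu, encard_irreducibleComponents_eq]
  let Φ : PP → ↥(h.fiber s) := fun P => fibrePt h s P.1 (ha P.1 P.2)
  have hΦ : ∀ P : PP, h.fiberι s (Φ P) = P.1 := fun P => fiberι_fibrePt h s P.1 (ha P.1 P.2)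
  have hinj : Function.Injective Φ := by
    intro P P' he
    apply Subtype.ext
    rw [← hΦ P, ← hΦ P', he]
  have hmem : ∀ P : PP, Φ P ∈ {ξ : ↥(h.fiber s) | ξ ∈ maxPtsTop ↥(h.fiber s) ∧
      ξ ⤳ fibrePt h s u hu} := by
    intro P
    constructor
    · intro η hη
      have h1 : h.fiberι s η ⤳ h.fiberι s (Φ P) := hη.map (h.fiberι s).continuous
      rw [hΦ] at h1
      have h2 := hc P.1 P.2 _ (map_fiberι h s η) h1
      apply (h.fiberι s).isEmbedding.injective
      rw [h2, hΦ]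
    · rw [← (h.fiberι s).isEmbedding.isInducing.specializes_iff, hΦ, fiberι_fibrePt]
      exact hb P.1 P.2
  calc PP.encard = (Set.range Φ).encard := by
        rw [← Set.image_univ, hinj.injOn.encard_image, Set.encard_univ]
        rfl
    _ ≤ _ := Set.encard_le_encard (by rintro _ ⟨P, rfl⟩; exact hmem P)

/-! ### The (≥) direction -/

theorem fibre_le_numGeomBranchesAt (f : X ⟶ S) (g : U ⟶ X) [Etale g] (u : U) :
    {Z : Set ↑((g ≫ f).fiber (f (g u))) | Z ∈ irreducibleComponents ↑((g ≫ f).fiber (f (g u))) ∧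
        ∃ u' ∈ Z, (g ≫ f).fiberι (f (g u)) u' = u}.encard ≤
      Brnch.numGeomBranchesAt (f.fiber (f (g u))) (f.asFiber (g u)) := by
  have hu : (g ≫ f) u = f (g u) := Scheme.Hom.comp_apply g f u
  rw [setOf_fibre_eq (g ≫ f) (f (g u)) u hu]
  have h1 := Groth.Agent.S9753.le_numGeomBranchesAt (fibreMap f g (f (g u)))
    (fibrePt (g ≫ f) _ u hu)
  have h2 : fibreMap f g (f (g u)) (fibrePt (g ≫ f) _ u hu) = f.asFiber (g u) := by
    apply (f.fiberι _).isEmbedding.injective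
    rw [fibreMap_apply, fiberι_fibrePt, Scheme.Hom.fiberι_asFiber]
  rw [h2] at h1
  exact h1

theorem surjective_residueFieldMap_fiberι (h : U ⟶ S) (s : S) (u₀ : ↥(h.fiber s)) :
    Function.Surjective ((h.fiberι s).residueFieldMap u₀) := by
  intro z
  obtain ⟨t, rfl⟩ := Scheme.residue_surjective _ _ z
  obtain ⟨t', rfl⟩ := (h.fiberι s).stalkMap_surjective u₀ t
  refine ⟨U.residue _ t', ?_⟩
  have := congrArg (fun k => k.hom t') (Scheme.residue_residueFieldMap (h.fiberι s) u₀)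
  exact this

theorem bijective_residueFieldMap_fibreMap (f : X ⟶ S) (g : U ⟶ X) (s : S)
    (u₀ : ↥((g ≫ f).fiber s))
    (hres : Function.Bijective (g.residueFieldMap ((g ≫ f).fiberι s u₀))) :
    Function.Bijective ((fibreMap f g s).residueFieldMap u₀) := by
  refine ⟨RingHom.injective _, ?_⟩
  have e := Scheme.Hom.residueFieldMap_congr (fibreMap_fiberι f g s) u₀
  rw [Scheme.residueFieldMap_comp, Scheme.residueFieldMap_comp] at e
  intro z
  obtain ⟨z1, rfl⟩ := surjective_residueFieldMap_fiberι (g ≫ f) s u₀ z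
  obtain ⟨z2, rfl⟩ := hres.2 z1
  set c := X.residueFieldCongr (show ((fibreMap f g s ≫ f.fiberι s) u₀) =
    (((g ≫ f).fiberι s ≫ g) u₀) by rw [fibreMap_fiberι]) with hc
  refine ⟨(f.fiberι s).residueFieldMap (fibreMap f g s u₀) (c.inv z2), ?_⟩
  have hcz : c.hom (c.inv z2) = z2 := by
    rw [← CommRingCat.comp_apply, Iso.inv_hom_id]
    rfl
  have e2 := congrArg (fun k => (ConcreteCategory.hom k) (c.inv z2)) e
  simp only [CommRingCat.comp_apply] at e2
  rw [hcz] at e2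
  exact e2

theorem fibre_le_numBranchesAt (f : X ⟶ S) (g : U ⟶ X) [Etale g] (u : U)
    (hres : Function.Bijective (g.residueFieldMap u)) :
    {Z : Set ↑((g ≫ f).fiber (f (g u))) | Z ∈ irreducibleComponents ↑((g ≫ f).fiber (f (g u))) ∧
        ∃ u' ∈ Z, (g ≫ f).fiberι (f (g u)) u' = u}.encard ≤
      Brnch.numBranchesAt (f.fiber (f (g u))) (f.asFiber (g u)) := by
  have hu : (g ≫ f) u = f (g u) := Scheme.Hom.comp_apply g f u
  rw [setOf_fibre_eq (g ≫ f) (f (g u)) u hu]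
  have hres' : Function.Bijective (g.residueFieldMap
      ((g ≫ f).fiberι (f (g u)) (fibrePt (g ≫ f) _ u hu))) := by
    rw [fiberι_fibrePt]
    exact hres
  have h1 := Groth.Agent.S9752.le_numBranchesAt (fibreMap f g (f (g u)))
    (fibrePt (g ≫ f) _ u hu) (bijective_residueFieldMap_fibreMap f g _ _ hres')
  have h2 : fibreMap f g (f (g u)) (fibrePt (g ≫ f) _ u hu) = f.asFiber (g u) := by
    apply (f.fiberι _).isEmbedding.injective
    rw [fibreMap_apply, fiberι_fibrePt, Scheme.Hom.fiberι_asFiber]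
  rw [h2] at h1
  exact h1

/-! ### The (≤) direction -/

open Groth.Agent.H70.FibreBranchRing Groth.Agent.H70.BranchCountRing
  Groth.Agent.H70.GeomUnibranchNbhd Groth.Agent.H70.LocDomain Groth.Agent.H70.UnibranchScheme
  Groth.Agent.H70.UnramUnibranchScheme

/-- Points of an étale chart `Spec E0 → V ⊆ X` lying over the same point of `S` as `x₁`,
in terms of primes. -/
theorem map_eq_iff_comap_eq (f : X ⟶ S) {T : S.Opens} (hT : IsAffineOpen T) {V : X.Opens}
    (hV : IsAffineOpen V) (hVT : V ≤ f ⁻¹ᵁ T) (x₁ : X) (hxV : x₁ ∈ V)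
    (E0 : Type u) [CommRing E0] [Algebra Γ(X, V) E0] (Q : PrimeSpectrum E0) :
    f (hV.fromSpec ((Spec.map (CommRingCat.ofHom (algebraMap Γ(X, V) E0))) Q)) = f x₁ ↔
      (Q.asIdeal.comap (algebraMap Γ(X, V) E0)).comap (f.appLE T V hVT).hom =
        (hT.primeIdealOf ⟨f x₁, hVT hxV⟩).asIdeal := by
  set z := hV.fromSpec ((Spec.map (CommRingCat.ofHom (algebraMap Γ(X, V) E0))) Q) with hz
  have hzV : z ∈ V := fromSpec_mem hV _
  have h1 : hV.primeIdealOf ⟨z, hzV⟩ =
      (Spec.map (CommRingCat.ofHom (algebraMap Γ(X, V) E0))) Q := primeIdealOf_fromSpec hV _ hzV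
  have h2 := IsAffineOpen.comap_primeIdealOf_appLE T hT V hV hVT hzV
  rw [h1] at h2
  have h3 : (hT.primeIdealOf ⟨f z, hVT hzV⟩).asIdeal =
      (Q.asIdeal.comap (algebraMap Γ(X, V) E0)).comap (f.appLE T V hVT).hom := by
    rw [← h2]
    rfl
  rw [← h3]
  constructor
  · intro h
    have : (⟨f z, hVT hzV⟩ : T) = ⟨f x₁, hVT hxV⟩ := Subtype.ext h
    rw [this]
  · intro h
    have h4 := primeIdealOf_injective hT (PrimeSpectrum.ext h)
    exact congrArg Subtype.val h4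

theorem numGeomBranchesAt_fibre_le (f : X ⟶ S) (s : S) (y : ↥(f.fiber s)) :
    Brnch.numGeomBranchesAt (f.fiber s) y ≤
      ⨆ (U : Scheme.{u}) (g : U ⟶ X) (u : U) (_ : Etale g ∧ g u = (f.fiberι s) y),
        {Z : Set ↑((g ≫ f).fiber s) | Z ∈ irreducibleComponents ↑((g ≫ f).fiber s) ∧
          ∃ u' ∈ Z, (g ≫ f).fiberι s u' = u}.encard := by
  set x₁ : X := (f.fiberι s) y with hx₁
  have hs : f x₁ = s := map_fiberι f s y
  obtain ⟨T, hT, hsT, -⟩ :=
    exists_isAffineOpen_mem_and_subset (x := f x₁) (U := (⊤ : S.Opens)) trivial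
  obtain ⟨V, hV, hxV, hVT⟩ :=
    exists_isAffineOpen_mem_and_subset (x := x₁) (U := f ⁻¹ᵁ T) hsT
  let ψ : Γ(S, T) →+* Γ(X, V) := (f.appLE T V hVT).hom
  let p := (hV.primeIdealOf ⟨x₁, hxV⟩).asIdeal
  let ps := (hT.primeIdealOf ⟨f x₁, hsT⟩).asIdeal
  let J : Ideal Γ(X, V) := ps.map ψ
  letI algSt : Algebra Γ(X, V) (X.presheaf.stalk x₁) :=
    TopCat.Presheaf.algebra_section_stalk X.presheaf (⟨x₁, hxV⟩ : V)
  haveI : IsLocalization.AtPrime (X.presheaf.stalk x₁) p := hV.isLocalization_stalk ⟨x₁, hxV⟩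
  letI algStS : Algebra Γ(S, T) (S.presheaf.stalk (f x₁)) :=
    TopCat.Presheaf.algebra_section_stalk S.presheaf (⟨f x₁, hsT⟩ : T)
  haveI : IsLocalization.AtPrime (S.presheaf.stalk (f x₁)) ps :=
    hT.isLocalization_stalk ⟨f x₁, hsT⟩
  let Rp := X.presheaf.stalk x₁
  let π : Rp →+* (f.fiber s).presheaf.stalk y := ((f.fiberι s).stalkMap y).hom
  obtain ⟨hπsurj, hπker⟩ := Groth.Agent.H9.stalkMap_fiberι_surjective_and_ker_eq f s y
  obtain ⟨Rsh, _, _, _, _, hsh⟩ := Groth.Agent.S0537.result Rp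
  haveI := hsh
  have hI := Groth.Agent.H47.HensNoeth.isIndEtaleLocal_of_isStrictHenselization Rp Rsh
  letI : Algebra Γ(X, V) Rsh := ((algebraMap Rp Rsh).comp (algebraMap Γ(X, V) Rp)).toAlgebra
  haveI : IsScalarTower Γ(X, V) Rp Rsh := IsScalarTower.of_algebraMap_eq (fun _ => rfl)
  have hkerJ : RingHom.ker π = J.map (algebraMap Γ(X, V) Rp) := by
    rw [hπker, ← IsLocalization.AtPrime.map_eq_maximalIdeal ps (S.presheaf.stalk (f x₁)),
      Ideal.map_map, Ideal.map_map]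
    congr 1
    ext a
    exact (germ_appLE_apply f x₁ T V hVT hxV a).symm
  unfold Brnch.numGeomBranchesAt
  rw [numGeomBranches_eq_of_surjective π hπsurj Rsh, hkerJ, Ideal.map_map]
  apply encard_le_of_forall_finset
  intro F hF
  obtain ⟨E0, _, _, _, φ0, hcard⟩ := exists_etale_card_le_over p Rp Rsh hI J F hF
  refine hcard.trans ?_
  let q0 : Ideal E0 := (maximalIdeal Rsh).comap φ0.toRingHom
  haveI : q0.IsPrime := Ideal.comap_isPrime _ _
  haveI : q0.LiesOver p := liesOver_comap_maximalIdeal p Rp Rsh E0 φ0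
  let φ : CommRingCat.of Γ(X, V) ⟶ CommRingCat.of E0 := CommRingCat.ofHom (algebraMap Γ(X, V) E0)
  haveI : Etale (Spec.map φ) := by
    rw [HasRingHomProperty.Spec_iff (P := @Etale)]
    exact RingHom.etale_algebraMap.mpr inferInstance
  haveI : IsOpenImmersion hV.fromSpec := hV.isOpenImmersion_fromSpec
  let g : Spec (CommRingCat.of E0) ⟶ X := Spec.map φ ≫ hV.fromSpec
  let u : ↥(Spec (CommRingCat.of E0)) := (⟨q0, inferInstance⟩ : PrimeSpectrum E0)
  have hgu : g u = x₁ := by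
    have h3 : (Spec.map φ) u = hV.primeIdealOf ⟨x₁, hxV⟩ := by
      apply PrimeSpectrum.ext
      show Ideal.comap (algebraMap Γ(X, V) E0) q0 = p
      exact (Ideal.over_def q0 p).symm
    show hV.fromSpec ((Spec.map φ) u) = x₁
    rw [h3]
    exact hV.fromSpec_primeIdealOf ⟨x₁, hxV⟩
  refine le_iSup_of_le (Spec (CommRingCat.of E0)) (le_iSup_of_le g (le_iSup_of_le u
    (le_iSup_of_le ⟨inferInstance, hgu⟩ ?_)))
  have hus : (g ≫ f) u = s := by
    rw [Scheme.Hom.comp_apply, hgu]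
    exact hs
  have key : ∀ Q : PrimeSpectrum E0, f (g Q) = f x₁ ↔
      (Q.asIdeal.comap (algebraMap Γ(X, V) E0)).comap ψ = ps :=
    fun Q => map_eq_iff_comap_eq f hT hV hVT x₁ hxV E0 Q
  have hq0 : (q0.comap (algebraMap Γ(X, V) E0)).comap ψ = ps :=
    (key ⟨q0, inferInstance⟩).mp (congrArg f hgu)
  let PP : Set ↥(Spec (CommRingCat.of E0)) := {P : PrimeSpectrum E0 |
    P.asIdeal ∈ (J.map (algebraMap Γ(X, V) E0)).minimalPrimes ∧ P.asIdeal ≤ q0}
  have hPP : {P : Ideal E0 | P ∈ (J.map (algebraMap Γ(X, V) E0)).minimalPrimes ∧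
      P ≤ (maximalIdeal Rsh).comap φ0.toRingHom}.encard = PP.encard := by
    have himg : PrimeSpectrum.asIdeal '' PP = {P : Ideal E0 |
        P ∈ (J.map (algebraMap Γ(X, V) E0)).minimalPrimes ∧
        P ≤ (maximalIdeal Rsh).comap φ0.toRingHom} := by
      ext P
      constructor
      · rintro ⟨Q, hQ, rfl⟩
        exact hQ
      · rintro ⟨hP, hPq⟩
        exact ⟨⟨P, hP.1.1⟩, ⟨hP, hPq⟩, rfl⟩
    have hinj : Set.InjOn PrimeSpectrum.asIdeal PP := fun a _ b _ h => PrimeSpectrum.ext h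
    rw [← himg, hinj.encard_image]
    rfl
  rw [hPP]
  apply encard_le_fibre (g ≫ f) s u hus PP
  · rintro P ⟨hP, hPq⟩
    rw [Scheme.Hom.comp_apply, ← hs]
    apply (key P).mpr
    apply le_antisymm
    · rw [← hq0]
      exact Ideal.comap_mono (Ideal.comap_mono hPq)
    · intro r hr
      exact hP.1.2 (Ideal.mem_map_of_mem _ (Ideal.mem_map_of_mem ψ hr))
  · rintro P ⟨hP, hPq⟩
    exact (PrimeSpectrum.le_iff_specializes P (⟨q0, inferInstance⟩ : PrimeSpectrum E0)).mp hPq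
  · rintro P ⟨hP, hPq⟩ Q hQs hQP
    have hQP' : (Q : PrimeSpectrum E0).asIdeal ≤ (P : PrimeSpectrum E0).asIdeal :=
      (PrimeSpectrum.le_iff_specializes (Q : PrimeSpectrum E0) P).mpr hQP
    have hQ1 : f (g Q) = f x₁ := by
      rw [← Scheme.Hom.comp_apply, hQs, hs]
    have hQ2 := (key Q).mp hQ1
    have hJQ : J.map (algebraMap Γ(X, V) E0) ≤ (Q : PrimeSpectrum E0).asIdeal := by
      rw [Ideal.map_le_iff_le_comap, Ideal.map_le_iff_le_comap, hQ2]
    have hPQ := hP.2 ⟨(Q : PrimeSpectrum E0).isPrime, hJQ⟩ hQP'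
    exact PrimeSpectrum.ext (le_antisymm hQP' hPQ)

theorem numBranchesAt_fibre_le (f : X ⟶ S) (s : S) (y : ↥(f.fiber s)) :
    Brnch.numBranchesAt (f.fiber s) y ≤
      ⨆ (U : Scheme.{u}) (g : U ⟶ X) (u : U) (_ : Hens2.IsEtaleNbhd g u ((f.fiberι s) y)),
        {Z : Set ↑((g ≫ f).fiber s) | Z ∈ irreducibleComponents ↑((g ≫ f).fiber s) ∧
          ∃ u' ∈ Z, (g ≫ f).fiberι s u' = u}.encard := by
  set x₁ : X := (f.fiberι s) y with hx₁
  have hs : f x₁ = s := map_fiberι f s y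
  obtain ⟨T, hT, hsT, -⟩ :=
    exists_isAffineOpen_mem_and_subset (x := f x₁) (U := (⊤ : S.Opens)) trivial
  obtain ⟨V, hV, hxV, hVT⟩ :=
    exists_isAffineOpen_mem_and_subset (x := x₁) (U := f ⁻¹ᵁ T) hsT
  let ψ : Γ(S, T) →+* Γ(X, V) := (f.appLE T V hVT).hom
  let p := (hV.primeIdealOf ⟨x₁, hxV⟩).asIdeal
  let ps := (hT.primeIdealOf ⟨f x₁, hsT⟩).asIdeal
  let J : Ideal Γ(X, V) := ps.map ψ
  letI algSt : Algebra Γ(X, V) (X.presheaf.stalk x₁) :=
    TopCat.Presheaf.algebra_section_stalk X.presheaf (⟨x₁, hxV⟩ : V)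
  haveI : IsLocalization.AtPrime (X.presheaf.stalk x₁) p := hV.isLocalization_stalk ⟨x₁, hxV⟩
  letI algStS : Algebra Γ(S, T) (S.presheaf.stalk (f x₁)) :=
    TopCat.Presheaf.algebra_section_stalk S.presheaf (⟨f x₁, hsT⟩ : T)
  haveI : IsLocalization.AtPrime (S.presheaf.stalk (f x₁)) ps :=
    hT.isLocalization_stalk ⟨f x₁, hsT⟩
  let Rp := X.presheaf.stalk x₁
  let π : Rp →+* (f.fiber s).presheaf.stalk y := ((f.fiberι s).stalkMap y).hom
  obtain ⟨hπsurj, hπker⟩ := Groth.Agent.H9.stalkMap_fiberι_surjective_and_ker_eq f s y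
  let Rsh := Groth.Agent.H47.Hens.Hloc Rp
  have hI := Groth.Agent.H47.HensNoeth.isIndEtaleLocal_of_isHenselization Rp Rsh
  letI : Algebra Γ(X, V) Rsh := ((algebraMap Rp Rsh).comp (algebraMap Γ(X, V) Rp)).toAlgebra
  haveI : IsScalarTower Γ(X, V) Rp Rsh := IsScalarTower.of_algebraMap_eq (fun _ => rfl)
  have hkerJ : RingHom.ker π = J.map (algebraMap Γ(X, V) Rp) := by
    rw [hπker, ← IsLocalization.AtPrime.map_eq_maximalIdeal ps (S.presheaf.stalk (f x₁)),
      Ideal.map_map, Ideal.map_map]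
    congr 1
    ext a
    exact (germ_appLE_apply f x₁ T V hVT hxV a).symm
  unfold Brnch.numBranchesAt
  rw [numBranches_eq_of_surjective π hπsurj Rsh, hkerJ, Ideal.map_map]
  apply encard_le_of_forall_finset
  intro F hF
  obtain ⟨E0, _, _, _, φ0, hcard⟩ := exists_etale_card_le_over p Rp Rsh hI J F hF
  refine hcard.trans ?_
  let q0 : Ideal E0 := (maximalIdeal Rsh).comap φ0.toRingHom
  haveI : q0.IsPrime := Ideal.comap_isPrime _ _
  haveI : q0.LiesOver p := liesOver_comap_maximalIdeal p Rp Rsh E0 φ0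
  let φ : CommRingCat.of Γ(X, V) ⟶ CommRingCat.of E0 := CommRingCat.ofHom (algebraMap Γ(X, V) E0)
  haveI : Etale (Spec.map φ) := by
    rw [HasRingHomProperty.Spec_iff (P := @Etale)]
    exact RingHom.etale_algebraMap.mpr inferInstance
  haveI : IsOpenImmersion hV.fromSpec := hV.isOpenImmersion_fromSpec
  let g : Spec (CommRingCat.of E0) ⟶ X := Spec.map φ ≫ hV.fromSpec
  let u : ↥(Spec (CommRingCat.of E0)) := (⟨q0, inferInstance⟩ : PrimeSpectrum E0)
  have hgu : g u = x₁ := by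
    have h3 : (Spec.map φ) u = hV.primeIdealOf ⟨x₁, hxV⟩ := by
      apply PrimeSpectrum.ext
      show Ideal.comap (algebraMap Γ(X, V) E0) q0 = p
      exact (Ideal.over_def q0 p).symm
    show hV.fromSpec ((Spec.map φ) u) = x₁
    rw [h3]
    exact hV.fromSpec_primeIdealOf ⟨x₁, hxV⟩
  have hRT : ∀ b : E0, ∃ a : Γ(X, V), ∃ s ∈ p.primeCompl,
      algebraMap Γ(X, V) E0 s * b - algebraMap Γ(X, V) E0 a ∈ q0 := by
    intro b
    obtain ⟨r, hr⟩ := Groth.Agent.H47.Hens.exists_sub_mem_maximalIdeal' Rp Rsh (φ0 b)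
    obtain ⟨⟨a, s⟩, has⟩ := IsLocalization.surj p.primeCompl r
    refine ⟨a, s, s.2, ?_⟩
    show φ0 (algebraMap Γ(X, V) E0 s * b - algebraMap Γ(X, V) E0 a) ∈ maximalIdeal Rsh
    rw [map_sub, map_mul, φ0.commutes, φ0.commutes]
    have e1 : algebraMap Γ(X, V) Rsh a = algebraMap Rp Rsh r * algebraMap Γ(X, V) Rsh s := by
      rw [IsScalarTower.algebraMap_apply Γ(X, V) Rp Rsh a, ← has, map_mul,
        ← IsScalarTower.algebraMap_apply Γ(X, V) Rp Rsh]
    have e2 : algebraMap Γ(X, V) Rsh s * φ0 b - algebraMap Γ(X, V) Rsh a =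
        algebraMap Γ(X, V) Rsh s * (φ0 b - algebraMap Rp Rsh r) := by
      rw [e1]; ring
    rw [e2]
    exact Ideal.mul_mem_left _ _ hr
  have hTop : IsAffineOpen (⊤ : (Spec (CommRingCat.of E0)).Opens) := isAffineOpen_top _
  have hWV : (⊤ : (Spec (CommRingCat.of E0)).Opens) ≤ g ⁻¹ᵁ V := fun z _ =>
    fromSpec_mem hV ((Spec.map φ) z)
  let ι := Scheme.ΓSpecIso (CommRingCat.of E0)
  have hfs : hTop.fromSpec = Spec.map ι.inv := by
    rw [IsAffineOpen.fromSpec_top, Scheme.isoSpec_Spec_inv]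
  have F1 : g.appLE V ⊤ hWV = φ ≫ ι.inv := by
    have h1 := IsAffineOpen.SpecMap_appLE_fromSpec g hV hTop hWV
    rw [hfs] at h1
    have h2 : Spec.map ι.inv ≫ g = Spec.map (φ ≫ ι.inv) ≫ hV.fromSpec := by
      rw [Spec.map_comp, Category.assoc]
    rw [h2] at h1
    exact Spec.map_injective ((cancel_mono hV.fromSpec).mp h1)
  have F2 : ∀ b' : Γ(Spec (CommRingCat.of E0), ⊤),
      b' ∈ (hTop.primeIdealOf ⟨u, trivial⟩).asIdeal ↔ ι.hom b' ∈ q0 := by
    intro b'
    have h1 := hTop.fromSpec_primeIdealOf ⟨u, trivial⟩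
    rw [hfs] at h1
    have h2 : ι.hom b' ∈ q0 ↔ ι.inv (ι.hom b') ∈ (hTop.primeIdealOf ⟨u, trivial⟩).asIdeal := by
      have h3 : ((Spec.map ι.inv) (hTop.primeIdealOf ⟨u, trivial⟩)).asIdeal = q0 :=
        congrArg PrimeSpectrum.asIdeal h1
      rw [← h3]
      rfl
    rw [h2]
    have h4 : ι.inv (ι.hom b') = b' := by
      rw [← CommRingCat.comp_apply, Iso.hom_inv_id]; rfl
    rw [h4]
  have hnb : Hens2.IsEtaleNbhd g u x₁ := by
    refine ⟨inferInstance, hgu, ⟨RingHom.injective _, ?_⟩⟩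
    apply residueFieldMap_surjective g u hV hTop hWV trivial
    intro b'
    obtain ⟨a, s, hs, hmem⟩ := hRT (ι.hom b')
    refine ⟨a, s, ?_, ?_⟩
    · have e : hV.primeIdealOf ⟨g u, hWV trivial⟩ = hV.primeIdealOf ⟨x₁, hxV⟩ := by
        congr 1
        exact Subtype.ext hgu
      rw [e]
      exact hs
    · rw [F2, F1, map_sub, map_mul]
      have h5 : ∀ t : Γ(X, V), ι.hom ((φ ≫ ι.inv).hom t) = algebraMap Γ(X, V) E0 t := by
        intro t
        show ι.hom (ι.inv (φ.hom t)) = _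
        rw [← CommRingCat.comp_apply, Iso.inv_hom_id]; rfl
      rw [h5, h5]
      exact hmem
  refine le_iSup_of_le (Spec (CommRingCat.of E0)) (le_iSup_of_le g (le_iSup_of_le u
    (le_iSup_of_le hnb ?_)))
  have hus : (g ≫ f) u = s := by
    rw [Scheme.Hom.comp_apply, hgu]
    exact hs
  have key : ∀ Q : PrimeSpectrum E0, f (g Q) = f x₁ ↔
      (Q.asIdeal.comap (algebraMap Γ(X, V) E0)).comap ψ = ps :=
    fun Q => map_eq_iff_comap_eq f hT hV hVT x₁ hxV E0 Q
  have hq0 : (q0.comap (algebraMap Γ(X, V) E0)).comap ψ = ps :=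
    (key ⟨q0, inferInstance⟩).mp (congrArg f hgu)
  let PP : Set ↥(Spec (CommRingCat.of E0)) := {P : PrimeSpectrum E0 |
    P.asIdeal ∈ (J.map (algebraMap Γ(X, V) E0)).minimalPrimes ∧ P.asIdeal ≤ q0}
  have hPP : {P : Ideal E0 | P ∈ (J.map (algebraMap Γ(X, V) E0)).minimalPrimes ∧
      P ≤ (maximalIdeal Rsh).comap φ0.toRingHom}.encard = PP.encard := by
    have himg : PrimeSpectrum.asIdeal '' PP = {P : Ideal E0 |
        P ∈ (J.map (algebraMap Γ(X, V) E0)).minimalPrimes ∧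
        P ≤ (maximalIdeal Rsh).comap φ0.toRingHom} := by
      ext P
      constructor
      · rintro ⟨Q, hQ, rfl⟩
        exact hQ
      · rintro ⟨hP, hPq⟩
        exact ⟨⟨P, hP.1.1⟩, ⟨hP, hPq⟩, rfl⟩
    have hinj : Set.InjOn PrimeSpectrum.asIdeal PP := fun a _ b _ h => PrimeSpectrum.ext h
    rw [← himg, hinj.encard_image]
    rfl
  rw [hPP]
  apply encard_le_fibre (g ≫ f) s u hus PP
  · rintro P ⟨hP, hPq⟩
    rw [Scheme.Hom.comp_apply, ← hs]
    apply (key P).mpr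
    apply le_antisymm
    · rw [← hq0]
      exact Ideal.comap_mono (Ideal.comap_mono hPq)
    · intro r hr
      exact hP.1.2 (Ideal.mem_map_of_mem _ (Ideal.mem_map_of_mem ψ hr))
  · rintro P ⟨hP, hPq⟩
    exact (PrimeSpectrum.le_iff_specializes P (⟨q0, inferInstance⟩ : PrimeSpectrum E0)).mp hPq
  · rintro P ⟨hP, hPq⟩ Q hQs hQP
    have hQP' : (Q : PrimeSpectrum E0).asIdeal ≤ (P : PrimeSpectrum E0).asIdeal :=
      (PrimeSpectrum.le_iff_specializes (Q : PrimeSpectrum E0) P).mpr hQP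
    have hQ1 : f (g Q) = f x₁ := by
      rw [← Scheme.Hom.comp_apply, hQs, hs]
    have hQ2 := (key Q).mp hQ1
    have hJQ : J.map (algebraMap Γ(X, V) E0) ≤ (Q : PrimeSpectrum E0).asIdeal := by
      rw [Ideal.map_le_iff_le_comap, Ideal.map_le_iff_le_comap, hQ2]
    have hPQ := hP.2 ⟨(Q : PrimeSpectrum E0).isPrime, hJQ⟩ hQP'
    exact PrimeSpectrum.ext (le_antisymm hQP' hPQ)

end Groth.Agent.H70.FibreBranchScheme
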