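import Mathlib

/-!
# Lifting standard étale algebras along a "fraction-surjective" ring map
-/

set_option autoImplicit false
set_option linter.style.haveILetI false
universe u
open CategoryTheory CategoryTheory.Limits Polynomial

namespace Groth.Agent.H70.LiftStdEtale

/-- Every element of `A₀` is a fraction `φ a / φ b` with `φ b` a unit. -/
def FS {A A₀ : Type*} [CommRing A] [CommRing A₀] (φ : A →+* A₀) : Prop :=
  ∀ x : A₀, ∃ a b : A, IsUnit (φ b) ∧ x * φ b = φ a

section

variable {A A₀ : Type*} [CommRing A] [CommRing A₀] (φ : A →+* A₀)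

theorem exists_common_denominator (hφ : FS φ) (q : A₀[X]) :
    ∃ e : A, IsUnit (φ e) ∧ ∃ Q : A[X], Q.map φ = C (φ e) * q := by
  refine Polynomial.induction_on' q ?_ ?_
  · rintro q₁ q₂ ⟨e₁, he₁, Q₁, hQ₁⟩ ⟨e₂, he₂, Q₂, hQ₂⟩
    refine ⟨e₁ * e₂, by rw [map_mul]; exact he₁.mul he₂, C e₂ * Q₁ + C e₁ * Q₂, ?_⟩
    rw [Polynomial.map_add, Polynomial.map_mul, Polynomial.map_mul, Polynomial.map_C,
      Polynomial.map_C, hQ₁, hQ₂, map_mul, C_mul]
    ring
  · intro n c
    obtain ⟨a, b, hb, hab⟩ := hφ c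
    refine ⟨b, hb, monomial n a, ?_⟩
    rw [Polynomial.map_monomial, C_mul_monomial, ← hab, mul_comm]

theorem exists_common_denominator₂ (hφ : FS φ) (q₁ q₂ : A₀[X]) :
    ∃ e : A, IsUnit (φ e) ∧ (∃ Q : A[X], Q.map φ = C (φ e) * q₁) ∧
      ∃ Q : A[X], Q.map φ = C (φ e) * q₂ := by
  obtain ⟨e₁, he₁, Q₁, hQ₁⟩ := exists_common_denominator φ hφ q₁
  obtain ⟨e₂, he₂, Q₂, hQ₂⟩ := exists_common_denominator φ hφ q₂
  refine ⟨e₁ * e₂, by rw [map_mul]; exact he₁.mul he₂, ⟨C e₂ * Q₁, ?_⟩, ⟨C e₁ * Q₂, ?_⟩⟩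
  · rw [Polynomial.map_mul, Polynomial.map_C, hQ₁, map_mul, C_mul]; ring
  · rw [Polynomial.map_mul, Polynomial.map_C, hQ₂, map_mul, C_mul]; ring

theorem mem_lifts_of_denominator (e : A) (hunit : IsUnit (φ e)) (Q : A[X]) (q : A₀[X])
    (h : Q.map φ = C (φ e) * q) :
    q ∈ Polynomial.lifts (IsLocalization.Away.lift (S := Localization.Away e) e hunit) := by
  set φ' : Localization.Away e →+* A₀ := IsLocalization.Away.lift e hunit with hφ'def
  have hφ' : ∀ a, φ' (algebraMap A (Localization.Away e) a) = φ a :=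
    fun a => IsLocalization.Away.lift_eq e hunit a
  rw [Polynomial.lifts_iff_coeff_lifts]
  intro n
  have h1 : φ (Q.coeff n) = φ e * q.coeff n := by
    have := congrArg (fun p => p.coeff n) h
    simpa [Polynomial.coeff_map, Polynomial.coeff_C_mul] using this
  refine ⟨IsLocalization.mk' (Localization.Away e) (Q.coeff n)
    (⟨e, Submonoid.mem_powers e⟩ : Submonoid.powers e), ?_⟩
  have h2 : φ' (IsLocalization.mk' (Localization.Away e) (Q.coeff n)
      (⟨e, Submonoid.mem_powers e⟩ : Submonoid.powers e)) * φ e = φ (Q.coeff n) := by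
    rw [← hφ' e, ← map_mul]
    have := IsLocalization.mk'_spec (Localization.Away e) (Q.coeff n)
      (⟨e, Submonoid.mem_powers e⟩ : Submonoid.powers e)
    rw [this, hφ']
  exact hunit.mul_right_cancel (by rw [h2, h1, mul_comm])

end

open Algebra in
set_option maxHeartbeats 1600000 in
theorem lift_pushout {A A₀ B₀ : Type u} [CommRing A] [CommRing A₀] [CommRing B₀] (φ : A →+* A₀)
    (hφ : FS φ) [Algebra A₀ B₀] [Algebra.IsStandardEtale A₀ B₀] :
    ∃ (B : Type u) (_ : CommRing B) (_ : Algebra A B) (β : B →+* B₀), Algebra.Etale A B ∧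
      IsPushout (CommRingCat.ofHom (algebraMap A B)) (CommRingCat.ofHom φ)
        (CommRingCat.ofHom β) (CommRingCat.ofHom (algebraMap A₀ B₀)) := by
  classical
  let PP : StandardEtalePresentation A₀ B₀ :=
    Algebra.IsStandardEtale.nonempty_standardEtalePresentation.some
  obtain ⟨e, hunit, ⟨Q₁, hQ₁⟩, ⟨Q₂, hQ₂⟩⟩ := exists_common_denominator₂ φ hφ PP.f PP.g
  let Ae := Localization.Away e
  let φ' : Ae →+* A₀ := IsLocalization.Away.lift e hunit
  have hφ' : ∀ a, φ' (algebraMap A Ae a) = φ a := fun a => IsLocalization.Away.lift_eq e hunit a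
  obtain ⟨F, hF, -, hFm⟩ := Polynomial.lifts_and_natDegree_eq_and_monic
    (mem_lifts_of_denominator φ e hunit Q₁ PP.f hQ₁) PP.monic_f
  obtain ⟨G, hG⟩ := (Polynomial.mem_lifts _).mp (mem_lifts_of_denominator φ e hunit Q₂ PP.g hQ₂)
  let P : StandardEtalePair Ae := ⟨F, hFm, G * derivative F, ⟨G, 0, 1, by ring⟩⟩
  let B := P.Ring
  letI algAB : Algebra A B := ((algebraMap Ae B).comp (algebraMap A Ae)).toAlgebra
  haveI : IsScalarTower A Ae B := IsScalarTower.of_algebraMap_eq' rfl
  haveI : Algebra.Etale A Ae := Algebra.Etale.of_isLocalizationAway e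
  haveI : Algebra.Etale A B := Algebra.Etale.comp A Ae B
  letI algAeA₀ : Algebra Ae A₀ := φ'.toAlgebra
  letI algAeB₀ : Algebra Ae B₀ := ((algebraMap A₀ B₀).comp φ').toAlgebra
  haveI : IsScalarTower Ae A₀ B₀ := IsScalarTower.of_algebraMap_eq' rfl
  have hF' : F.map (algebraMap Ae A₀) = PP.f := hF
  have hG' : G.map (algebraMap Ae A₀) = PP.g := hG
  have hx : P.HasMap PP.x := by
    constructor
    · show aeval PP.x F = 0
      rw [← aeval_map_algebraMap A₀ PP.x F, hF']
      exact PP.hasMap.1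
    · show IsUnit (aeval PP.x (G * derivative F))
      rw [← aeval_map_algebraMap A₀ PP.x (G * derivative F), Polynomial.map_mul, ← derivative_map,
        hG', hF', map_mul]
      exact PP.hasMap.2.mul PP.hasMap.isUnit_derivative_f
  let β : B →ₐ[Ae] B₀ := P.lift PP.x hx
  have hβX : β P.X = PP.x := P.lift_X PP.x hx
  refine ⟨B, inferInstance, algAB, β.toRingHom, inferInstance, ?_⟩
  have hw : CommRingCat.ofHom (algebraMap A B) ≫ CommRingCat.ofHom β.toRingHom =
      CommRingCat.ofHom φ ≫ CommRingCat.ofHom (algebraMap A₀ B₀) := by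
    ext a
    show β (algebraMap Ae B (algebraMap A Ae a)) = algebraMap A₀ B₀ (φ a)
    rw [β.commutes, ← hφ']
    rfl
  -- data attached to a cocone
  have hτ : ∀ (C : CommRingCat.{u}) (σB : B →+* C) (σ₀ : A₀ →+* C),
      σB.comp (algebraMap A B) = σ₀.comp φ → σ₀.comp φ' = σB.comp (algebraMap Ae B) := by
    intro C σB σ₀ h
    apply IsLocalization.ringHom_ext (Submonoid.powers e)
    ext a
    have := congrArg (fun k => k a) h
    simp only [RingHom.comp_apply] at this ⊢
    rw [hφ', ← this]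
    rfl
  have hc : ∀ (C : CommRingCat.{u}) (σB : B →+* C) (σ₀ : A₀ →+* C),
      σB.comp (algebraMap A B) = σ₀.comp φ →
      letI := σ₀.toAlgebra
      PP.P.HasMap (σB P.X) := by
    intro C σB σ₀ h
    letI := σ₀.toAlgebra
    have hτ' := hτ C σB σ₀ h
    have key : ∀ q : Ae[X], aeval (σB P.X) (q.map φ') = σB (aeval P.X q) := by
      intro q
      rw [aeval_def, eval₂_map, aeval_def, Polynomial.hom_eval₂]
      show eval₂ (σ₀.comp φ') _ _ = _
      rw [hτ']
    constructor
    · show aeval (σB P.X) PP.f = 0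
      rw [← hF, key, show aeval P.X F = 0 from P.hasMap_X.1, map_zero]
    · show IsUnit (aeval (σB P.X) PP.g)
      rw [← hG, key]
      have h2 : IsUnit (aeval P.X (G * derivative F)) := P.hasMap_X.2
      rw [map_mul] at h2
      exact (isUnit_of_mul_isUnit_left h2).map σB
  have main : ∀ (C : CommRingCat.{u}) (σB : B →+* C) (σ₀ : A₀ →+* C),
      σB.comp (algebraMap A B) = σ₀.comp φ →
      ∃ d : B₀ →+* C, d.comp β.toRingHom = σB ∧ d.comp (algebraMap A₀ B₀) = σ₀ ∧
        ∀ d' : B₀ →+* C, d'.comp β.toRingHom = σB → d'.comp (algebraMap A₀ B₀) = σ₀ → d' = d := by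
    intro C σB σ₀ h
    letI algC : Algebra A₀ C := σ₀.toAlgebra
    have hcC := hc C σB σ₀ h
    let d : B₀ →ₐ[A₀] C := (PP.P.lift (σB P.X) hcC).comp PP.equivRing.toAlgHom
    have hdx : d PP.x = σB P.X := by
      show PP.P.lift (σB P.X) hcC (PP.equivRing PP.x) = _
      rw [PP.equivRing_x, StandardEtalePair.lift_X]
    have hτ' := hτ C σB σ₀ h
    refine ⟨d.toRingHom, ?_, ?_, ?_⟩
    · letI algAeC : Algebra Ae C := (σB.comp (algebraMap Ae B)).toAlgebra
      let f₁ : B →ₐ[Ae] C :=
        { toRingHom := d.toRingHom.comp β.toRingHom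
          commutes' := fun y => by
            show d (β (algebraMap Ae B y)) = σB (algebraMap Ae B y)
            rw [β.commutes]
            show d (algebraMap A₀ B₀ (φ' y)) = _
            rw [d.commutes]
            exact congrArg (fun k => k y) hτ' }
      let f₂ : B →ₐ[Ae] C := { toRingHom := σB, commutes' := fun y => rfl }
      have : f₁ = f₂ := StandardEtalePair.hom_ext (by
        show d (β P.X) = σB P.X
        rw [hβX, hdx])
      exact congrArg (fun k : B →ₐ[Ae] C => k.toRingHom) this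
    · ext a₀
      exact d.commutes a₀
    · intro d' h1 h2
      let d'' : B₀ →ₐ[A₀] C :=
        { toRingHom := d', commutes' := fun a₀ => congrArg (fun k => k a₀) h2 }
      have : d'' = d := PP.hom_ext (by
        show d' PP.x = d PP.x
        rw [hdx, ← hβX]
        exact congrArg (fun k => k P.X) h1)
      exact congrArg (fun k : B₀ →ₐ[A₀] C => k.toRingHom) this
  have hcond : ∀ s : PushoutCocone (CommRingCat.ofHom (algebraMap A B)) (CommRingCat.ofHom φ),
      s.inl.hom.comp (algebraMap A B) = s.inr.hom.comp φ := fun s =>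
    congrArg CommRingCat.Hom.hom s.condition
  refine IsPushout.of_isColimit (PushoutCocone.IsColimit.mk hw
    (fun s => CommRingCat.ofHom (main s.pt s.inl.hom s.inr.hom (hcond s)).choose)
    (fun s => ?_) (fun s => ?_) (fun s m h1 h2 => ?_))
  · ext b
    exact congrArg (fun k => k b) (main s.pt s.inl.hom s.inr.hom (hcond s)).choose_spec.1
  · ext a₀
    exact congrArg (fun k => k a₀) (main s.pt s.inl.hom s.inr.hom (hcond s)).choose_spec.2.1
  · have := (main s.pt s.inl.hom s.inr.hom (hcond s)).choose_spec.2.2 m.hom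
      (congrArg CommRingCat.Hom.hom h1) (congrArg CommRingCat.Hom.hom h2)
    ext b₀
    exact congrArg (fun k => k b₀) this

theorem fs_of_isPushout {R K A A₀ : Type*} [CommRing R] [CommRing K] [CommRing A] [CommRing A₀]
    [Algebra R K] [Algebra R A] [Algebra K A₀] [Algebra A A₀] [Algebra R A₀]
    [IsScalarTower R K A₀] [IsScalarTower R A A₀] [Algebra.IsPushout R K A A₀]
    (hK : ∀ k : K, ∃ a b : R, IsUnit (algebraMap R K b) ∧
      k * algebraMap R K b = algebraMap R K a) :
    FS (algebraMap A A₀) := by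
  intro x
  refine IsBaseChange.inductionOn (Algebra.IsPushout.out (R := R) (S := K) (R' := A) (S' := A₀))
    x _ ?_ ?_ ?_ ?_
  · exact ⟨0, 1, by simp, by simp⟩
  · intro m
    exact ⟨m, 1, by simp, by simp⟩
  · rintro k n ⟨a, b, hb, hab⟩
    obtain ⟨c, d, hd, hcd⟩ := hK k
    have e1 : ∀ r : R, algebraMap A A₀ (algebraMap R A r) = algebraMap K A₀ (algebraMap R K r) :=
      fun r => by
        rw [← IsScalarTower.algebraMap_apply R A A₀, ← IsScalarTower.algebraMap_apply R K A₀]
    refine ⟨algebraMap R A c * a, algebraMap R A d * b, ?_, ?_⟩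
    · rw [map_mul, e1]
      exact (hd.map _).mul hb
    · rw [map_mul, map_mul, e1, e1, Algebra.smul_def, ← hcd, ← hab, map_mul]
      ring
  · rintro n₁ n₂ ⟨a₁, b₁, hb₁, hab₁⟩ ⟨a₂, b₂, hb₂, hab₂⟩
    refine ⟨a₁ * b₂ + a₂ * b₁, b₁ * b₂, ?_, ?_⟩
    · rw [map_mul]; exact hb₁.mul hb₂
    · rw [map_add, map_mul, map_mul, map_mul, ← hab₁, ← hab₂]
      ring

end Groth.Agent.H70.LiftStdEtale
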