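import Mathlib
import Groth.Agent.H63.FibreChart
import Groth.Agent.H70.LiftStdEtale

/-!
# Affine charts of a fibre: the coordinate ring map is "fraction-surjective"
-/

set_option autoImplicit false
set_option linter.style.haveILetI false
universe u
open AlgebraicGeometry CategoryTheory CategoryTheory.Limits

namespace Groth.Agent.H70.FibreFS

open Groth.Agent.H70.LiftStdEtale Groth.Agent.H63.FibreChart

set_option maxHeartbeats 1600000 in
theorem fs_fiber_chart {X S : Scheme.{u}} (f : X ⟶ S) (s : S) (T : S.Opens) (hT : IsAffineOpen T)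
    (hs : s ∈ T) (W : X.Opens) (hW : IsAffineOpen W) (hWT : W ≤ f ⁻¹ᵁ T) :
    IsAffineOpen ((f.fiberι s) ⁻¹ᵁ W) ∧
      FS ((f.fiberι s).appLE W ((f.fiberι s) ⁻¹ᵁ W) le_rfl).hom := by
  have H : IsPullback (f.fiberι s) (f.fiberToSpecResidueField s) f (S.fromSpecResidueField s) :=
    IsPullback.of_hasPullback f (S.fromSpecResidueField s)
  have hUST : (⊤ : (Spec (S.residueField s)).Opens) ≤ (S.fromSpecResidueField s) ⁻¹ᵁ T := by
    intro z _
    show (S.fromSpecResidueField s) z ∈ T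
    rw [Scheme.fromSpecResidueField_apply]
    exact hs
  have hUY : (f.fiberι s) ⁻¹ᵁ W =
      (f.fiberι s) ⁻¹ᵁ W ⊓ (f.fiberToSpecResidueField s) ⁻¹ᵁ ⊤ := by simp
  have hTop : IsAffineOpen (⊤ : (Spec (S.residueField s)).Opens) := isAffineOpen_top _
  have hiso := isIso_pushoutSection_of_isAffineOpen H hUST hWT hUY hT hTop hW
  have PO := (isIso_pushoutSection_iff H hUST hWT hUY).mp hiso
  refine ⟨(bridge f s T hT hs W hW hWT).1, ?_⟩
  letI algAB : Algebra Γ(S, T) Γ(X, W) := (f.appLE T W hWT).hom.toAlgebra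
  letI algAK : Algebra Γ(S, T) Γ(Spec (S.residueField s), ⊤) :=
    ((S.fromSpecResidueField s).appLE T ⊤ hUST).hom.toAlgebra
  letI algBG : Algebra Γ(X, W) Γ(f.fiber s, (f.fiberι s) ⁻¹ᵁ W) :=
    ((f.fiberι s).appLE W ((f.fiberι s) ⁻¹ᵁ W) le_rfl).hom.toAlgebra
  letI algKG : Algebra Γ(Spec (S.residueField s), ⊤) Γ(f.fiber s, (f.fiberι s) ⁻¹ᵁ W) :=
    ((f.fiberToSpecResidueField s).appLE ⊤ ((f.fiberι s) ⁻¹ᵁ W) (by simp)).hom.toAlgebra
  letI algAG : Algebra Γ(S, T) Γ(f.fiber s, (f.fiberι s) ⁻¹ᵁ W) :=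
    (f.appLE T W hWT ≫
      (f.fiberι s).appLE W ((f.fiberι s) ⁻¹ᵁ W) le_rfl).hom.toAlgebra
  haveI : IsScalarTower Γ(S, T) Γ(X, W) Γ(f.fiber s, (f.fiberι s) ⁻¹ᵁ W) :=
    IsScalarTower.of_algebraMap_eq' rfl
  haveI : IsScalarTower Γ(S, T) Γ(Spec (S.residueField s), ⊤)
      Γ(f.fiber s, (f.fiberι s) ⁻¹ᵁ W) :=
    IsScalarTower.of_algebraMap_eq' (congrArg CommRingCat.Hom.hom PO.w)
  haveI AP : Algebra.IsPushout Γ(S, T) Γ(Spec (S.residueField s), ⊤) Γ(X, W)
      Γ(f.fiber s, (f.fiberι s) ⁻¹ᵁ W) :=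
    CommRingCat.isPushout_iff_isPushout.mp PO.flip
  refine fs_of_isPushout (R := Γ(S, T)) (K := Γ(Spec (S.residueField s), ⊤)) (A := Γ(X, W))
    (A₀ := Γ(f.fiber s, (f.fiberι s) ⁻¹ᵁ W)) ?_
  -- fraction-surjectivity of `Γ(S, T) → κ(s)`
  intro k
  have hρ : algebraMap Γ(S, T) Γ(Spec (S.residueField s), ⊤) =
      (S.presheaf.germ T s hs ≫ S.residue s ≫ (Scheme.ΓSpecIso (S.residueField s)).inv).hom :=
    congrArg CommRingCat.Hom.hom (appLE_fromSpecResidueField S s T hs hUST)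
  obtain ⟨z, rfl⟩ : ∃ z : S.residueField s, (Scheme.ΓSpecIso (S.residueField s)).inv.hom z = k :=
    (ConcreteCategory.bijective_of_isIso (Scheme.ΓSpecIso (S.residueField s)).inv).surjective k
  obtain ⟨y, rfl⟩ := S.residue_surjective s z
  letI := S.presheaf.algebra_section_stalk ⟨s, hs⟩
  haveI := hT.isLocalization_stalk ⟨s, hs⟩
  obtain ⟨⟨a, b⟩, hab⟩ := IsLocalization.surj (hT.primeIdealOf ⟨s, hs⟩).asIdeal.primeCompl y
  have halg : ∀ r : Γ(S, T), algebraMap Γ(S, T) Γ(Spec (S.residueField s), ⊤) r =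
      (Scheme.ΓSpecIso (S.residueField s)).inv.hom ((S.residue s).hom
        (algebraMap Γ(S, T) (S.presheaf.stalk s) r)) := fun r => by
    rw [hρ]; rfl
  refine ⟨a, b, ?_, ?_⟩
  · rw [halg]
    have hu : IsUnit (algebraMap Γ(S, T) (S.presheaf.stalk s) b) := IsLocalization.map_units _ b
    exact (hu.map (S.residue s).hom).map (Scheme.ΓSpecIso (S.residueField s)).inv.hom
  · rw [halg, halg, ← map_mul, ← map_mul]
    exact congrArg _ (congrArg _ hab)

end Groth.Agent.H70.FibreFS
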