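import Mathlib
import Groth.Agent.H70.FibreFS
import Groth.Agent.H70.FibreBranchScheme
import Groth.Prelude.Def_MoreMor

/-!
# Étale neighbourhoods in a fibre lift to étale neighbourhoods in the total space
-/

set_option autoImplicit false
set_option linter.style.haveILetI false
universe u
open AlgebraicGeometry CategoryTheory CategoryTheory.Limits

namespace Groth.Agent.H70.FibreEtaleNbhd

open Groth.Agent.H70.LiftStdEtale Groth.Agent.H70.FibreBranchScheme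

variable {X S : Scheme.{u}}

lemma mem_basicOpen_iff_notMem_primeIdealOf {U : X.Opens} (hU : IsAffineOpen U) (x : X)
    (hx : x ∈ U) (r : Γ(X, U)) :
    x ∈ X.basicOpen r ↔ r ∉ (hU.primeIdealOf ⟨x, hx⟩).asIdeal := by
  have h1 : hU.fromSpec (hU.primeIdealOf ⟨x, hx⟩) = x := hU.fromSpec_primeIdealOf ⟨x, hx⟩
  have h2 := hU.fromSpec_preimage_basicOpen r
  constructor
  · intro h
    have h3 : hU.primeIdealOf ⟨x, hx⟩ ∈ hU.fromSpec ⁻¹ᵁ X.basicOpen r := by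
      show hU.fromSpec (hU.primeIdealOf ⟨x, hx⟩) ∈ X.basicOpen r
      rw [h1]; exact h
    rw [h2] at h3
    exact h3
  · intro h
    have h3 : hU.primeIdealOf ⟨x, hx⟩ ∈ hU.fromSpec ⁻¹ᵁ X.basicOpen r := by
      rw [h2]; exact h
    rw [← h1]
    exact h3

theorem fibreMap_eq_fiberMap {U : Scheme.{u}} (f : X ⟶ S) (p : U ⟶ X) (s : S) :
    fibreMap f p s = MoreMor.fiberMap p f s := by
  apply pullback.hom_ext
  · have h1 := fibreMap_fiberι f p s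
    have h2 : MoreMor.fiberMap p f s ≫ pullback.fst f (S.fromSpecResidueField s) =
        (p ≫ f).fiberι s ≫ p := pullback.lift_fst _ _ _
    exact h1.trans h2.symm
  · have h1 := fibreMap_fiberToSpecResidueField f p s
    have h2 : MoreMor.fiberMap p f s ≫ pullback.snd f (S.fromSpecResidueField s) =
        (p ≫ f).fiberToSpecResidueField s := pullback.lift_snd _ _ _
    exact h1.trans h2.symm

set_option maxHeartbeats 3200000 in
theorem exists_etale_nbhd {V : Scheme.{u}} (f : X ⟶ S) (x : X)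
    (g : V ⟶ f.fiber (f x)) [Etale g] (v : V) (hv : g v = f.asFiber x) :
    ∃ (U : Scheme.{u}) (p : U ⟶ X) (u : U) (m : (p ≫ f).fiber (f x) ⟶ V)
      (u' : ↑((p ≫ f).fiber (f x))),
      Etale p ∧ p u = x ∧ IsOpenImmersion m ∧ m ≫ g = MoreMor.fiberMap p f (f x) ∧
      (p ≫ f).fiberι (f x) u' = u ∧ m u' = v := by
  classical
  obtain ⟨T, hT, hsT, -⟩ :=
    exists_isAffineOpen_mem_and_subset (x := f x) (U := (⊤ : S.Opens)) trivial
  obtain ⟨W, hW, hxW, hWT⟩ :=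
    exists_isAffineOpen_mem_and_subset (x := x) (U := f ⁻¹ᵁ T) hsT
  obtain ⟨hW₀, hFS⟩ := FibreFS.fs_fiber_chart f (f x) T hT hsT W hW hWT
  have hx₀W₀ : f.asFiber x ∈ (f.fiberι (f x)) ⁻¹ᵁ W := by
    show (f.fiberι (f x)) (f.asFiber x) ∈ W
    rw [f.fiberι_asFiber x]; exact hxW
  have hvW₀ : v ∈ g ⁻¹ᵁ ((f.fiberι (f x)) ⁻¹ᵁ W) := by
    show g v ∈ (f.fiberι (f x)) ⁻¹ᵁ W
    rw [hv]; exact hx₀W₀
  obtain ⟨V₀, hV₀, hvV₀, hV₀W₀⟩ :=
    exists_isAffineOpen_mem_and_subset (x := v) (U := g ⁻¹ᵁ ((f.fiberι (f x)) ⁻¹ᵁ W)) hvW₀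
  have hEt : (g.appLE ((f.fiberι (f x)) ⁻¹ᵁ W) V₀ hV₀W₀).hom.Etale :=
    HasRingHomProperty.appLE (P := @Etale) g inferInstance ⟨_, hW₀⟩ ⟨V₀, hV₀⟩ hV₀W₀
  algebraize [(g.appLE ((f.fiberι (f x)) ⁻¹ᵁ W) V₀ hV₀W₀).hom]
  let qv : Ideal Γ(V, V₀) := (hV₀.primeIdealOf ⟨v, hvV₀⟩).asIdeal
  haveI : qv.IsPrime := (hV₀.primeIdealOf ⟨v, hvV₀⟩).isPrime
  obtain ⟨b, hbq, hstd⟩ := Algebra.IsEtaleAt.exists_isStandardEtale
    (R := Γ(f.fiber (f x), (f.fiberι (f x)) ⁻¹ᵁ W)) qv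
  have hV' : IsAffineOpen (V.basicOpen b) := hV₀.basicOpen b
  have hV'V₀ : V.basicOpen b ≤ V₀ := V.basicOpen_le b
  have hvV' : v ∈ V.basicOpen b := (mem_basicOpen_iff_notMem_primeIdealOf hV₀ v hvV₀ b).mpr hbq
  have hV'W₀ : V.basicOpen b ≤ g ⁻¹ᵁ ((f.fiberι (f x)) ⁻¹ᵁ W) := hV'V₀.trans hV₀W₀
  letI algA₀B₀ : Algebra Γ(f.fiber (f x), (f.fiberι (f x)) ⁻¹ᵁ W) Γ(V, V.basicOpen b) :=
    (g.appLE ((f.fiberι (f x)) ⁻¹ᵁ W) (V.basicOpen b) hV'W₀).hom.toAlgebra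
  letI algB₀' : Algebra Γ(V, V₀) Γ(V, V.basicOpen b) :=
    (V.presheaf.map (homOfLE hV'V₀).op).hom.toAlgebra
  haveI : IsScalarTower Γ(f.fiber (f x), (f.fiberι (f x)) ⁻¹ᵁ W) Γ(V, V₀) Γ(V, V.basicOpen b) :=
    IsScalarTower.of_algebraMap_eq' (by
      show (g.appLE ((f.fiberι (f x)) ⁻¹ᵁ W) (V.basicOpen b) hV'W₀).hom =
        (g.appLE ((f.fiberι (f x)) ⁻¹ᵁ W) V₀ hV₀W₀ ≫ V.presheaf.map (homOfLE hV'V₀).op).hom
      rw [Scheme.Hom.appLE_map])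
  haveI : IsLocalization.Away b Γ(V, V.basicOpen b) := hV₀.isLocalization_basicOpen b
  haveI : Algebra.IsStandardEtale Γ(f.fiber (f x), (f.fiberι (f x)) ⁻¹ᵁ W)
      Γ(V, V.basicOpen b) :=
    Algebra.IsStandardEtale.of_equiv
      ((IsLocalization.algEquiv (Submonoid.powers b) (Localization.Away b)
        Γ(V, V.basicOpen b)).restrictScalars Γ(f.fiber (f x), (f.fiberι (f x)) ⁻¹ᵁ W))
  obtain ⟨B, _, _, β, hBet, PO⟩ := lift_pushout (A := Γ(X, W))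
    (A₀ := Γ(f.fiber (f x), (f.fiberι (f x)) ⁻¹ᵁ W)) (B₀ := Γ(V, V.basicOpen b))
    ((f.fiberι (f x)).appLE W ((f.fiberι (f x)) ⁻¹ᵁ W) le_rfl).hom hFS
  let α : Γ(X, W) ⟶ CommRingCat.of B := CommRingCat.ofHom (algebraMap Γ(X, W) B)
  let φ : Γ(X, W) ⟶ Γ(f.fiber (f x), (f.fiberι (f x)) ⁻¹ᵁ W) :=
    (f.fiberι (f x)).appLE W ((f.fiberι (f x)) ⁻¹ᵁ W) le_rfl
  let β' : CommRingCat.of B ⟶ Γ(V, V.basicOpen b) := CommRingCat.ofHom β
  let α₀ : Γ(f.fiber (f x), (f.fiberι (f x)) ⁻¹ᵁ W) ⟶ Γ(V, V.basicOpen b) :=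
    g.appLE ((f.fiberι (f x)) ⁻¹ᵁ W) (V.basicOpen b) hV'W₀
  have PO' : IsPushout α φ β' α₀ := PO
  let U : Scheme.{u} := Spec (CommRingCat.of B)
  haveI : IsOpenImmersion hW.fromSpec := hW.isOpenImmersion_fromSpec
  haveI : IsOpenImmersion hW₀.fromSpec := hW₀.isOpenImmersion_fromSpec
  haveI : IsOpenImmersion hV'.fromSpec := hV'.isOpenImmersion_fromSpec
  haveI : Etale (Spec.map α) :=
    (HasRingHomProperty.Spec_iff (P := @Etale)).mpr (RingHom.etale_algebraMap.mpr hBet)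
  let p : U ⟶ X := Spec.map α ≫ hW.fromSpec
  haveI : Etale p := inferInstanceAs (Etale (Spec.map α ≫ hW.fromSpec))
  have left : IsPullback (Spec.map α₀) (Spec.map β') (Spec.map φ) (Spec.map α) :=
    (isPullback_SpecMap_of_isPushout α φ β' α₀ PO').flip
  have right : IsPullback hW₀.fromSpec (Spec.map φ) (f.fiberι (f x)) hW.fromSpec := by
    refine (IsOpenImmersion.isPullback (Spec.map φ) hW₀.fromSpec hW.fromSpec (f.fiberι (f x))
      (IsAffineOpen.SpecMap_appLE_fromSpec (f.fiberι (f x)) hW hW₀ le_rfl).symm ?_).flip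
    rw [hW.opensRange_fromSpec, hW₀.opensRange_fromSpec]
  have big : IsPullback (Spec.map α₀ ≫ hW₀.fromSpec) (Spec.map β') (f.fiberι (f x)) p :=
    left.paste_horiz right
  have fib : IsPullback (fibreMap f p (f x)) ((p ≫ f).fiberι (f x)) (f.fiberι (f x)) p :=
    isPullback_fibreMap f p (f x)
  let n : Spec Γ(V, V.basicOpen b) ≅ (p ≫ f).fiber (f x) := big.isoIsPullback _ _ fib
  have hn1 : n.hom ≫ fibreMap f p (f x) = Spec.map α₀ ≫ hW₀.fromSpec :=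
    big.isoIsPullback_hom_fst _ _ fib
  have hn2 : n.hom ≫ (p ≫ f).fiberι (f x) = Spec.map β' := big.isoIsPullback_hom_snd _ _ fib
  have hkg : hV'.fromSpec ≫ g = Spec.map α₀ ≫ hW₀.fromSpec :=
    (IsAffineOpen.SpecMap_appLE_fromSpec g hW₀ hV' hV'W₀).symm
  let m : (p ≫ f).fiber (f x) ⟶ V := n.inv ≫ hV'.fromSpec
  have hmg : m ≫ g = fibreMap f p (f x) := by
    show (n.inv ≫ hV'.fromSpec) ≫ g = _
    rw [Category.assoc n.inv hV'.fromSpec g, hkg, ← hn1, Iso.inv_hom_id_assoc]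
  let c₀ : Spec Γ(V, V.basicOpen b) := hV'.primeIdealOf ⟨v, hvV'⟩
  have hc₀ : hV'.fromSpec c₀ = v := hV'.fromSpec_primeIdealOf ⟨v, hvV'⟩
  have hinv : n.inv (n.hom c₀) = c₀ := by
    rw [← Scheme.Hom.comp_apply, Iso.hom_inv_id]; rfl
  refine ⟨U, p, (p ≫ f).fiberι (f x) (n.hom c₀), m, n.hom c₀, inferInstance, ?_,
    inferInstanceAs (IsOpenImmersion (n.inv ≫ hV'.fromSpec)), ?_, rfl, ?_⟩
  · -- `p u = x`
    have h1 : p ((p ≫ f).fiberι (f x) (n.hom c₀)) =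
        (f.fiberι (f x)) (fibreMap f p (f x) (n.hom c₀)) := (fibreMap_apply f p (f x) _).symm
    have h2 : fibreMap f p (f x) (n.hom c₀) = hW₀.fromSpec ((Spec.map α₀) c₀) := by
      rw [← Scheme.Hom.comp_apply, ← Scheme.Hom.comp_apply, hn1]
    have h3 : hW₀.fromSpec ((Spec.map α₀) c₀) = g (hV'.fromSpec c₀) := by
      rw [← Scheme.Hom.comp_apply, ← Scheme.Hom.comp_apply, hkg]
    rw [h1, h2, h3, hc₀, hv, f.fiberι_asFiber x]
  · rw [hmg, fibreMap_eq_fiberMap]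
  · show hV'.fromSpec (n.inv (n.hom c₀)) = v
    rw [hinv, hc₀]

end Groth.Agent.H70.FibreEtaleNbhd
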