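import Mathlib
import Groth.Agent.H14.JacCrit
import Groth.Agent.H63.FibreChart
import Groth.Agent.H70.LocalDimEtale

/-!
# Jacobian criterion on the fibre: free differentials of the right rank give smooth fibre points
-/

set_option autoImplicit false
set_option linter.style.haveILetI false
universe u
open AlgebraicGeometry CategoryTheory CategoryTheory.Limits

namespace Groth.Agent.H70.FibreJac

open TensorProduct KaehlerDifferential
open Groth.Agent.H63.FibreChart Groth.Agent.H70.LocalDimEtale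

theorem finrank_of_free {G : Type u} [CommRing G] (M : Type u) [AddCommGroup M] [Module G M]
    (q : Ideal G) [q.IsPrime] (n : ℕ) (e : M ≃ₗ[G] (Fin n → G)) :
    Module.finrank q.ResidueField (q.ResidueField ⊗[G] M) = n := by
  have e1 : q.ResidueField ⊗[G] M ≃ₗ[q.ResidueField] q.ResidueField ⊗[G] (Fin n → G) :=
    AlgebraTensorModule.congr (LinearEquiv.refl _ _) e
  have e2 := TensorProduct.piScalarRight G q.ResidueField q.ResidueField (Fin n)
  rw [(e1.trans e2).finrank_eq, Module.finrank_fin_fun]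

theorem kaehler_free_of_isPushout (R K B G : Type u) [CommRing R] [CommRing K] [CommRing B]
    [CommRing G] [Algebra R K] [Algebra R B] [Algebra R G] [Algebra K G] [Algebra B G]
    [IsScalarTower R K G] [IsScalarTower R B G] [Algebra.IsPushout R K B G] (n : ℕ)
    (e : Ω[B⁄R] ≃ₗ[B] (Fin n → B)) : Nonempty (Ω[G⁄K] ≃ₗ[G] (Fin n → G)) :=
  ⟨(tensorKaehlerEquiv R K B G).symm ≪≫ₗ
    AlgebraTensorModule.congr (LinearEquiv.refl G G) e ≪≫ₗ
    TensorProduct.piScalarRight B G G (Fin n)⟩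

/-- Finite type algebra over a ring which is a field: Jacobian criterion. -/
theorem isSmoothAt_of_isField {K G : Type u} [CommRing K] [CommRing G] [Algebra K G]
    [Algebra.FiniteType K G] (hK : IsField K) (q : Ideal G) [q.IsPrime] (n : ℕ)
    (e : Ω[G⁄K] ≃ₗ[G] (Fin n → G))
    (hn : (n : WithBot ℕ∞) ≤ FlatMor.localDim (PrimeSpectrum G) ⟨q, inferInstance⟩) :
    Algebra.IsSmoothAt K q := by
  letI : Field K := hK.toField
  refine Groth.Agent.H14.JacCrit.isSmoothAt_of_finrank_le K G q n hn ?_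
  rw [← (Groth.Agent.H14.JacCrit.fibreEquiv K G q).finrank_eq, finrank_of_free _ q n e]

set_option maxHeartbeats 1600000 in
/-- If the differentials of an affine chart around `x` are free of rank `n ≤ dim_x` of the fibre,
then the fibre is smooth over the residue field at (the point corresponding to) `x`. -/
theorem asFiber_mem_smoothLocus {X S : Scheme.{u}} (f : X ⟶ S) [LocallyOfFinitePresentation f]
    (x : X) [LocallyOfFinitePresentation (f.fiberToSpecResidueField (f x))]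
    (T : S.Opens) (hT : IsAffineOpen T) (W : X.Opens) (hW : IsAffineOpen W)
    (hWT : W ≤ f ⁻¹ᵁ T) (hx : x ∈ W) (n : ℕ)
    (e : letI := (f.appLE T W hWT).hom.toAlgebra
      Nonempty (Ω[Γ(X, W)⁄Γ(S, T)] ≃ₗ[Γ(X, W)] (Fin n → Γ(X, W))))
    (hn : (n : WithBot ℕ∞) ≤ FlatMor.fibreDimAt f x) :
    f.asFiber x ∈ (f.fiberToSpecResidueField (f x)).smoothLocus := by
  set s := f x with hsdef
  have hs : s ∈ T := hWT hx
  have H : IsPullback (f.fiberι s) (f.fiberToSpecResidueField s) f (S.fromSpecResidueField s) :=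
    IsPullback.of_hasPullback f (S.fromSpecResidueField s)
  have hUST : (⊤ : (Spec (S.residueField s)).Opens) ≤ (S.fromSpecResidueField s) ⁻¹ᵁ T := by
    intro z _
    show (S.fromSpecResidueField s) z ∈ T
    rw [Scheme.fromSpecResidueField_apply]
    exact hs
  have hUY : (f.fiberι s) ⁻¹ᵁ W =
      (f.fiberι s) ⁻¹ᵁ W ⊓ (f.fiberToSpecResidueField s) ⁻¹ᵁ ⊤ := by simp
  have hTop : IsAffineOpen (⊤ : (Spec (S.residueField s)).Opens) := isAffineOpen_top _
  have hiso := isIso_pushoutSection_of_isAffineOpen H hUST hWT hUY hT hTop hW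
  have PO := (isIso_pushoutSection_iff H hUST hWT hUY).mp hiso
  have hG' : IsAffineOpen ((f.fiberι s) ⁻¹ᵁ W) := (bridge f s T hT hs W hW hWT).1
  letI algAB : Algebra Γ(S, T) Γ(X, W) := (f.appLE T W hWT).hom.toAlgebra
  letI algAK : Algebra Γ(S, T) Γ(Spec (S.residueField s), ⊤) :=
    ((S.fromSpecResidueField s).appLE T ⊤ hUST).hom.toAlgebra
  letI algBG : Algebra Γ(X, W) Γ(f.fiber s, (f.fiberι s) ⁻¹ᵁ W) :=
    ((f.fiberι s).appLE W ((f.fiberι s) ⁻¹ᵁ W) le_rfl).hom.toAlgebra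
  letI algKG : Algebra Γ(Spec (S.residueField s), ⊤) Γ(f.fiber s, (f.fiberι s) ⁻¹ᵁ W) :=
    ((f.fiberToSpecResidueField s).appLE ⊤ ((f.fiberι s) ⁻¹ᵁ W) (by simp)).hom.toAlgebra
  letI algAG : Algebra Γ(S, T) Γ(f.fiber s, (f.fiberι s) ⁻¹ᵁ W) :=
    (f.appLE T W hWT ≫
      (f.fiberι s).appLE W ((f.fiberι s) ⁻¹ᵁ W) le_rfl).hom.toAlgebra
  haveI : IsScalarTower Γ(S, T) Γ(X, W) Γ(f.fiber s, (f.fiberι s) ⁻¹ᵁ W) :=
    IsScalarTower.of_algebraMap_eq' rfl
  haveI : IsScalarTower Γ(S, T) Γ(Spec (S.residueField s), ⊤)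
      Γ(f.fiber s, (f.fiberι s) ⁻¹ᵁ W) :=
    IsScalarTower.of_algebraMap_eq' (congrArg CommRingCat.Hom.hom PO.w)
  haveI AP : Algebra.IsPushout Γ(S, T) Γ(Spec (S.residueField s), ⊤) Γ(X, W)
      Γ(f.fiber s, (f.fiberι s) ⁻¹ᵁ W) :=
    CommRingCat.isPushout_iff_isPushout.mp PO.flip
  obtain ⟨e⟩ := e
  obtain ⟨eG⟩ := kaehler_free_of_isPushout Γ(S, T) Γ(Spec (S.residueField s), ⊤) Γ(X, W)
      Γ(f.fiber s, (f.fiberι s) ⁻¹ᵁ W) n e
  have hK : IsField Γ(Spec (S.residueField s), ⊤) :=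
    MulEquiv.isField (Field.toIsField (S.residueField s))
      (Scheme.ΓSpecIso (S.residueField s)).commRingCatIsoToRingEquiv.toMulEquiv
  have hz : f.asFiber x ∈ (f.fiberι s) ⁻¹ᵁ W := by
    show (f.fiberι s) (f.asFiber x) ∈ W
    rw [Scheme.Hom.fiberι_asFiber]
    exact hx
  haveI : Algebra.FinitePresentation Γ(Spec (S.residueField s), ⊤)
      Γ(f.fiber s, (f.fiberι s) ⁻¹ᵁ W) :=
    (f.fiberToSpecResidueField s).finitePresentation_appLE hTop hG' (by simp)
  rw [Scheme.Hom.mem_smoothLocus,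
    formallySmooth_stalkMap_iff ⊤ hTop ((f.fiberι s) ⁻¹ᵁ W) hG' (by simp) hz]
  refine isSmoothAt_of_isField hK _ n eG ?_
  -- local dimension
  have e1 := localDim_eq_of_etale hG'.fromSpec (hG'.primeIdealOf ⟨f.asFiber x, hz⟩)
  rw [hG'.fromSpec_primeIdealOf] at e1
  refine hn.trans (le_of_eq ?_)
  exact e1.symm

end Groth.Agent.H70.FibreJac
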