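import Mathlib
import Groth.Agent.H70.FibreJac
import Groth.Agent.H34.Fitting6

/-!
# Jacobian criterion on the fibre, Fitting ideal form

If the `n`-th Fitting ideal of the differentials of an affine chart is not contained in the prime of
`x` and `n ≤ dim_x` of the fibre, then the fibre is smooth at `x`.
-/

set_option autoImplicit false
set_option linter.style.haveILetI false
universe u
open AlgebraicGeometry CategoryTheory CategoryTheory.Limits

namespace Groth.Agent.H70.FibreJacFitt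

open TensorProduct KaehlerDifferential
open Groth.Agent.H63.FibreChart Groth.Agent.H70.LocalDimEtale Groth.Agent.H34.Fit

/-- Fitting ideals only depend on the isomorphism class. -/
theorem fitt_congr {R : Type*} [CommRing R] {M M' : Type*} [AddCommGroup M] [Module R M]
    [AddCommGroup M'] [Module R M'] (e : M ≃ₗ[R] M') (n : ℕ) :
    Fitt.ideal R M n = Fitt.ideal R M' n :=
  le_antisymm
    (fittIdeal_le_of_surjective e.toLinearMap e.surjective n)
    (fittIdeal_le_of_surjective e.symm.toLinearMap e.symm.surjective n)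

/-- Finite type algebra over a ring which is a field: Jacobian criterion, Fitting ideal form. -/
theorem isSmoothAt_of_fitt {K G : Type u} [CommRing K] [CommRing G] [Algebra K G]
    [Algebra.FiniteType K G] (hK : IsField K) (q : Ideal G) [q.IsPrime] (n : ℕ)
    (hF : ¬ Fitt.ideal G Ω[G⁄K] n ≤ q)
    (hn : (n : WithBot ℕ∞) ≤ FlatMor.localDim (PrimeSpectrum G) ⟨q, inferInstance⟩) :
    Algebra.IsSmoothAt K q := by
  letI : Field K := hK.toField
  refine Groth.Agent.H14.JacCrit.isSmoothAt_of_finrank_le K G q n hn ?_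
  rw [← (Groth.Agent.H14.JacCrit.fibreEquiv K G q).finrank_eq]
  exact (not_fittIdeal_le_iff_finrank_le Ω[G⁄K] n q).mp hF

/-- Transfer of the Fitting condition along a pushout square. -/
theorem not_fitt_le_of_isPushout (R K B G : Type u) [CommRing R] [CommRing K] [CommRing B]
    [CommRing G] [Algebra R K] [Algebra R B] [Algebra R G] [Algebra K G] [Algebra B G]
    [IsScalarTower R K G] [IsScalarTower R B G] [Algebra.IsPushout R K B G]
    [Module.Finite B Ω[B⁄R]] (n : ℕ) (q : Ideal B) (q' : Ideal G)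
    (hq : q'.comap (algebraMap B G) = q) (h : ¬ Fitt.ideal B Ω[B⁄R] n ≤ q) :
    ¬ Fitt.ideal G Ω[G⁄K] n ≤ q' := by
  intro hle
  apply h
  intro a ha
  rw [← hq, Ideal.mem_comap]
  apply hle
  rw [← fitt_congr (tensorKaehlerEquiv R K B G) n, fittIdeal_baseChange G n]
  exact Ideal.mem_map_of_mem _ ha

set_option maxHeartbeats 1600000 in
/-- If the `n`-th Fitting ideal of the differentials of an affine chart around `x` is not contained
in the prime of `x` and `n ≤ dim_x` of the fibre, then the fibre is smooth over the residue field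
at (the point corresponding to) `x`. -/
theorem asFiber_mem_smoothLocus_of_fitt {X S : Scheme.{u}} (f : X ⟶ S)
    [LocallyOfFinitePresentation f]
    (x : X) [LocallyOfFinitePresentation (f.fiberToSpecResidueField (f x))]
    (T : S.Opens) (hT : IsAffineOpen T) (W : X.Opens) (hW : IsAffineOpen W)
    (hWT : W ≤ f ⁻¹ᵁ T) (hx : x ∈ W) (n : ℕ)
    (hF : letI := (f.appLE T W hWT).hom.toAlgebra
      ¬ Fitt.ideal Γ(X, W) Ω[Γ(X, W)⁄Γ(S, T)] n ≤ (hW.primeIdealOf ⟨x, hx⟩).asIdeal)
    (hn : (n : WithBot ℕ∞) ≤ FlatMor.fibreDimAt f x) :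
    f.asFiber x ∈ (f.fiberToSpecResidueField (f x)).smoothLocus := by
  set s := f x with hsdef
  have hs : s ∈ T := hWT hx
  have H : IsPullback (f.fiberι s) (f.fiberToSpecResidueField s) f (S.fromSpecResidueField s) :=
    IsPullback.of_hasPullback f (S.fromSpecResidueField s)
  have hUST : (⊤ : (Spec (S.residueField s)).Opens) ≤ (S.fromSpecResidueField s) ⁻¹ᵁ T := by
    intro z _
    show (S.fromSpecResidueField s) z ∈ T
    rw [Scheme.fromSpecResidueField_apply]
    exact hs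
  have hUY : (f.fiberι s) ⁻¹ᵁ W =
      (f.fiberι s) ⁻¹ᵁ W ⊓ (f.fiberToSpecResidueField s) ⁻¹ᵁ ⊤ := by simp
  have hTop : IsAffineOpen (⊤ : (Spec (S.residueField s)).Opens) := isAffineOpen_top _
  have hiso := isIso_pushoutSection_of_isAffineOpen H hUST hWT hUY hT hTop hW
  have PO := (isIso_pushoutSection_iff H hUST hWT hUY).mp hiso
  have hG' : IsAffineOpen ((f.fiberι s) ⁻¹ᵁ W) := (bridge f s T hT hs W hW hWT).1
  letI algAB : Algebra Γ(S, T) Γ(X, W) := (f.appLE T W hWT).hom.toAlgebra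
  letI algAK : Algebra Γ(S, T) Γ(Spec (S.residueField s), ⊤) :=
    ((S.fromSpecResidueField s).appLE T ⊤ hUST).hom.toAlgebra
  letI algBG : Algebra Γ(X, W) Γ(f.fiber s, (f.fiberι s) ⁻¹ᵁ W) :=
    ((f.fiberι s).appLE W ((f.fiberι s) ⁻¹ᵁ W) le_rfl).hom.toAlgebra
  letI algKG : Algebra Γ(Spec (S.residueField s), ⊤) Γ(f.fiber s, (f.fiberι s) ⁻¹ᵁ W) :=
    ((f.fiberToSpecResidueField s).appLE ⊤ ((f.fiberι s) ⁻¹ᵁ W) (by simp)).hom.toAlgebra
  letI algAG : Algebra Γ(S, T) Γ(f.fiber s, (f.fiberι s) ⁻¹ᵁ W) :=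
    (f.appLE T W hWT ≫
      (f.fiberι s).appLE W ((f.fiberι s) ⁻¹ᵁ W) le_rfl).hom.toAlgebra
  haveI : IsScalarTower Γ(S, T) Γ(X, W) Γ(f.fiber s, (f.fiberι s) ⁻¹ᵁ W) :=
    IsScalarTower.of_algebraMap_eq' rfl
  haveI : IsScalarTower Γ(S, T) Γ(Spec (S.residueField s), ⊤)
      Γ(f.fiber s, (f.fiberι s) ⁻¹ᵁ W) :=
    IsScalarTower.of_algebraMap_eq' (congrArg CommRingCat.Hom.hom PO.w)
  haveI AP : Algebra.IsPushout Γ(S, T) Γ(Spec (S.residueField s), ⊤) Γ(X, W)
      Γ(f.fiber s, (f.fiberι s) ⁻¹ᵁ W) :=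
    CommRingCat.isPushout_iff_isPushout.mp PO.flip
  have hK : IsField Γ(Spec (S.residueField s), ⊤) :=
    MulEquiv.isField (Field.toIsField (S.residueField s))
      (Scheme.ΓSpecIso (S.residueField s)).commRingCatIsoToRingEquiv.toMulEquiv
  have hz : f.asFiber x ∈ (f.fiberι s) ⁻¹ᵁ W := by
    show (f.fiberι s) (f.asFiber x) ∈ W
    rw [Scheme.Hom.fiberι_asFiber]
    exact hx
  haveI : Algebra.FinitePresentation Γ(Spec (S.residueField s), ⊤)
      Γ(f.fiber s, (f.fiberι s) ⁻¹ᵁ W) :=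
    (f.fiberToSpecResidueField s).finitePresentation_appLE hTop hG' (by simp)
  haveI : Algebra.FinitePresentation Γ(S, T) Γ(X, W) := f.finitePresentation_appLE hT hW hWT
  rw [Scheme.Hom.mem_smoothLocus,
    formallySmooth_stalkMap_iff ⊤ hTop ((f.fiberι s) ⁻¹ᵁ W) hG' (by simp) hz]
  have hcomap : (hG'.primeIdealOf ⟨f.asFiber x, hz⟩).asIdeal.comap
      (algebraMap Γ(X, W) Γ(f.fiber s, (f.fiberι s) ⁻¹ᵁ W)) =
      (hW.primeIdealOf ⟨x, hx⟩).asIdeal := by
    have h1 := IsAffineOpen.comap_primeIdealOf_appLE (f := f.fiberι s) (x := f.asFiber x)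
      W hW ((f.fiberι s) ⁻¹ᵁ W) hG' le_rfl hz
    have h2 : hW.primeIdealOf ⟨(f.fiberι s) (f.asFiber x), hz⟩ = hW.primeIdealOf ⟨x, hx⟩ := by
      congr 1
      exact Subtype.ext (Scheme.Hom.fiberι_asFiber f x)
    rw [h2] at h1
    exact congrArg PrimeSpectrum.asIdeal h1
  have hF' := not_fitt_le_of_isPushout Γ(S, T) Γ(Spec (S.residueField s), ⊤) Γ(X, W)
    Γ(f.fiber s, (f.fiberι s) ⁻¹ᵁ W) n _ _ hcomap hF
  refine isSmoothAt_of_fitt hK _ n hF' ?_
  -- local dimension
  have e1 := localDim_eq_of_etale hG'.fromSpec (hG'.primeIdealOf ⟨f.asFiber x, hz⟩)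
  rw [hG'.fromSpec_primeIdealOf] at e1
  refine hn.trans (le_of_eq ?_)
  exact e1.symm

end Groth.Agent.H70.FibreJacFitt
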