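import Mathlib
import Groth.Agent.H14.SepField
import Groth.Agent.H54.AffineTrdeg
import Groth.Agent.H34.Fitting6

/-!
# A lower bound for the fibre dimension of `Ω[B/A]` at a closed point

`ringKrullDim (B ⧸ P) ≤ dim κ(m) ⊗ Ω[B/A]` when `P ≤ m` lie over the same prime of `A` and `κ(m) = k`.
Also a Nakayama lemma producing generators of a module over a local ring from the `k`-dimension of
its fibre.
-/

set_option autoImplicit false
universe u

namespace Groth.Agent.H70.FibreOmegaDim

open TensorProduct KaehlerDifferential

/-- Nakayama: if `k → R → R/m` is surjective, a finite `R`-module `M` is generated by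
`dim_k M/mM` elements. -/
theorem exists_span_of_fiber {k R M : Type*} [Field k] [CommRing R] [IsLocalRing R]
    [AddCommGroup M] [Module R M] [Module.Finite R M] (φ : k →+* R)
    (hφ : Function.Surjective ((IsLocalRing.residue R).comp φ))
    [Module k (M ⧸ (IsLocalRing.maximalIdeal R • (⊤ : Submodule R M)))]
    (hcompat : ∀ (c : k) (v : M ⧸ (IsLocalRing.maximalIdeal R • (⊤ : Submodule R M))),
      c • v = φ c • v) :
    ∃ x : Fin (Module.finrank k (M ⧸ (IsLocalRing.maximalIdeal R • (⊤ : Submodule R M)))) → M,
      Submodule.span R (Set.range x) = ⊤ := by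
  classical
  set V := M ⧸ (IsLocalRing.maximalIdeal R • (⊤ : Submodule R M)) with hV
  have key : ∀ (a : R) (v : V), ∃ c : k, a • v = c • v := by
    intro a v
    obtain ⟨c, hc⟩ := hφ (IsLocalRing.residue R a)
    refine ⟨c, ?_⟩
    rw [hcompat]
    obtain ⟨m', rfl⟩ := Submodule.mkQ_surjective _ v
    have hmem : a - φ c ∈ IsLocalRing.maximalIdeal R := by
      rw [← IsLocalRing.residue_eq_zero_iff, map_sub]
      rw [RingHom.comp_apply] at hc
      rw [hc, sub_self]
    rw [← sub_eq_zero, ← sub_smul, ← map_smul, Submodule.mkQ_apply,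
      Submodule.Quotient.mk_eq_zero]
    exact Submodule.smul_mem_smul hmem trivial
  haveI : Module.Finite R V := inferInstance
  haveI : Module.Finite k V := by
    obtain ⟨s, hs⟩ := (Module.finite_def (R := R) (M := V)).mp inferInstance
    refine ⟨⟨s, ?_⟩⟩
    rw [eq_top_iff]
    rintro v -
    have hv : v ∈ Submodule.span R (s : Set V) := by rw [hs]; trivial
    induction hv using Submodule.span_induction with
    | mem z hz => exact Submodule.subset_span hz
    | zero => exact Submodule.zero_mem _
    | add a b _ _ ha hb => exact Submodule.add_mem _ ha hb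
    | smul a w _ hw =>
      obtain ⟨c, hc⟩ := key a w
      rw [hc]
      exact Submodule.smul_mem _ _ hw
  let b := Module.finBasis k V
  choose x hx using fun i => Submodule.mkQ_surjective
    (IsLocalRing.maximalIdeal R • (⊤ : Submodule R M)) (b i)
  refine ⟨x, ?_⟩
  rw [← IsLocalRing.map_mkQ_eq_top, eq_top_iff]
  rintro v -
  have hv : v = ∑ i, b.repr v i • b i := (b.sum_repr v).symm
  rw [hv]
  refine Submodule.sum_mem _ (fun i _ => ?_)
  rw [hcompat]
  refine Submodule.smul_mem _ _ ?_
  exact ⟨x i, Submodule.subset_span ⟨i, rfl⟩, hx i⟩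


section Alg

variable (k A B : Type u) [Field k] [CommRing A] [CommRing B] [Algebra k A] [Algebra k B]
  [Algebra A B] [IsScalarTower k A B]

/-- If every element of `A` is congruent to a constant modulo the prime `P` of `B`, then
`Ω[κ(P)/k] → Ω[κ(P)/A]` is injective. -/
theorem map_injective_of_const (P : Ideal B) [P.IsPrime]
    (hA : ∀ a : A, ∃ c : k, algebraMap A B a - algebraMap k B c ∈ P) :
    Function.Injective (KaehlerDifferential.map k A P.ResidueField P.ResidueField) := by
  have hzero : KaehlerDifferential.map k k A P.ResidueField = 0 := by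
    apply Derivation.liftKaehlerDifferential_unique
    ext a
    obtain ⟨c, hc⟩ := hA a
    have h1 : algebraMap A P.ResidueField a = algebraMap k P.ResidueField c := by
      rw [← sub_eq_zero, IsScalarTower.algebraMap_apply A B P.ResidueField,
        IsScalarTower.algebraMap_apply k B P.ResidueField, ← map_sub,
        Ideal.algebraMap_residueField_eq_zero]
      exact hc
    simp [h1]
  rw [← LinearMap.ker_eq_bot, ← KaehlerDifferential.range_mapBaseChange, eq_bot_iff]
  rintro _ ⟨t, rfl⟩
  induction t with
  | zero => simp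
  | tmul x y => simp [hzero]
  | add a b ha hb => rw [map_add]; exact Submodule.add_mem _ ha hb

/-- **Lower bound.** Let `k → A → B` with `B` of finite type over the field `k`, `P ≤ m` primes of
`B` lying over the same prime of `A`, with `k → κ(m)` surjective. Then
`dim B/P ≤ dim_{κ(m)} κ(m) ⊗ Ω[B/A]`. -/
theorem ringKrullDim_quotient_le_finrank [Algebra.FiniteType k B] (P m : Ideal B) [P.IsPrime]
    [m.IsPrime] (hPm : P ≤ m)
    (h1 : P.comap (algebraMap A B) = m.comap (algebraMap A B))
    (h2 : Function.Surjective (algebraMap k m.ResidueField)) :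
    ringKrullDim (B ⧸ P) ≤
      ((Module.finrank m.ResidueField (m.ResidueField ⊗[B] Ω[B⁄A]) : ℕ) : WithBot ℕ∞) := by
  have hA : ∀ a : A, ∃ c : k, algebraMap A B a - algebraMap k B c ∈ P := by
    intro a
    obtain ⟨c, hc⟩ := h2 (algebraMap B m.ResidueField (algebraMap A B a))
    refine ⟨c, ?_⟩
    have h3 : algebraMap A B (a - algebraMap k A c) ∈ m := by
      rw [← Ideal.algebraMap_residueField_eq_zero, map_sub, map_sub, sub_eq_zero,
        ← IsScalarTower.algebraMap_apply k A B, ← IsScalarTower.algebraMap_apply k B m.ResidueField]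
      exact hc.symm
    have h4 : a - algebraMap k A c ∈ P.comap (algebraMap A B) := by
      rw [h1]; exact h3
    have h5 : algebraMap A B (a - algebraMap k A c) ∈ P := h4
    rwa [map_sub, ← IsScalarTower.algebraMap_apply k A B] at h5
  haveI : Algebra.FiniteType A B := Algebra.FiniteType.of_restrictScalars_finiteType k A B
  haveI : Algebra.EssFiniteType k P.ResidueField := by
    haveI : Algebra.EssFiniteType (B ⧸ P) P.ResidueField :=
      Algebra.EssFiniteType.of_isLocalization P.ResidueField (nonZeroDivisors (B ⧸ P))
    haveI : Algebra.FiniteType k (B ⧸ P) := inferInstance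
    exact Algebra.EssFiniteType.comp k (B ⧸ P) P.ResidueField
  haveI : Algebra.EssFiniteType A P.ResidueField := Algebra.EssFiniteType.of_comp k A P.ResidueField
  obtain ⟨n, hn1, hn2⟩ := Groth.Agent.H54.exists_ringKrullDim_eq_trdeg k (B ⧸ P)
  have hn3 : Algebra.trdeg k P.ResidueField = n := by
    rw [Groth.Agent.H54.trdeg_eq_trdeg_of_isFractionRing k (B ⧸ P) P.ResidueField, hn1]
  obtain ⟨hfin, hle, -⟩ := Groth.Agent.H14.SepField.field_lemma k P.ResidueField n hn3
  -- step 4
  have s4 : Module.finrank P.ResidueField Ω[P.ResidueField⁄k] ≤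
      Module.finrank P.ResidueField Ω[P.ResidueField⁄A] :=
    LinearMap.finrank_le_finrank_of_injective (map_injective_of_const k A B P hA)
  -- step 5
  haveI : Algebra.FormallyUnramified B P.ResidueField := by
    haveI : Algebra.FormallyUnramified B (B ⧸ P) :=
      Algebra.FormallyUnramified.of_surjective (Algebra.ofId B (B ⧸ P)) Ideal.Quotient.mk_surjective
    haveI : Algebra.FormallyUnramified (B ⧸ P) P.ResidueField :=
      Algebra.FormallyUnramified.of_isLocalization (nonZeroDivisors (B ⧸ P))
    exact Algebra.FormallyUnramified.comp B (B ⧸ P) P.ResidueField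
  have hsurj : Function.Surjective (KaehlerDifferential.mapBaseChange A B P.ResidueField) := by
    rw [← LinearMap.range_eq_top, KaehlerDifferential.range_mapBaseChange, LinearMap.ker_eq_top]
    exact Subsingleton.elim _ _
  have s5 : Module.finrank P.ResidueField Ω[P.ResidueField⁄A] ≤
      Module.finrank P.ResidueField (P.ResidueField ⊗[B] Ω[B⁄A]) :=
    LinearMap.finrank_le_finrank_of_surjective hsurj
  -- step 6
  have s6 : Module.finrank P.ResidueField (P.ResidueField ⊗[B] Ω[B⁄A]) ≤
      Module.finrank m.ResidueField (m.ResidueField ⊗[B] Ω[B⁄A]) := by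
    rw [← Groth.Agent.H34.Fit.not_fittIdeal_le_iff_finrank_le]
    intro hle'
    exact (Groth.Agent.H34.Fit.not_fittIdeal_le_iff_finrank_le Ω[B⁄A] _ m).mpr le_rfl
      (hle'.trans hPm)
  rw [hn2]
  exact_mod_cast hle.trans (s4.trans (s5.trans s6))

end Alg

end Groth.Agent.H70.FibreOmegaDim
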