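import Mathlib
import Groth.Agent.H10.StdSmooth
import Groth.Agent.H14.RelGCIJac

/-!
# Local closed embedding of a finite type algebra into a standard smooth one of dimension the
fibre rank of the differentials
-/

set_option autoImplicit false
set_option linter.style.haveILetI false
universe u

namespace Groth.Agent.H70.StdSmoothEmbed

open MvPolynomial in
/-- A localization of `R[x_1..x_n]/(v_1..v_c)` away from an element making a `c × c` Jacobian
minor invertible is standard smooth over `R` of relative dimension `n - c`. -/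
theorem isStandardSmoothOfRelDim_of_localization_naive {R : Type u} [CommRing R] {n c : ℕ}
    (v : Fin c → MvPolynomial (Fin n) R) (e : Fin c → Fin n) (he : Function.Injective e)
    (S : Type u) [CommRing S] [Algebra R S]
    [Algebra (MvPolynomial (Fin n) R ⧸ Ideal.span (Set.range v)) S]
    [IsScalarTower R (MvPolynomial (Fin n) R ⧸ Ideal.span (Set.range v)) S]
    (h : MvPolynomial (Fin n) R ⧸ Ideal.span (Set.range v)) [IsLocalization.Away h S]
    (hunit : IsUnit (algebraMap (MvPolynomial (Fin n) R ⧸ Ideal.span (Set.range v)) S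
      (Ideal.Quotient.mk (Ideal.span (Set.range v))
        (Matrix.det (Matrix.of fun i j : Fin c => pderiv (e i) (v j)))))) :
    Algebra.IsStandardSmoothOfRelativeDimension (n - c) R S := by
  classical
  let P := Algebra.PreSubmersivePresentation.naive (R := R) (v := v) e he
  let Q := Algebra.PreSubmersivePresentation.localizationAway S h
  have hPjac : P.jacobian = Ideal.Quotient.mk (Ideal.span (Set.range v))
      (Matrix.det (Matrix.of fun i j : Fin c => pderiv (e i) (v j))) := by
    rw [Algebra.PreSubmersivePresentation.jacobian_eq_jacobiMatrix_det]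
    have hM : P.jacobiMatrix = Matrix.of fun i j : Fin c => pderiv (e i) (v j) := by
      refine Matrix.ext fun i j => ?_
      exact Algebra.PreSubmersivePresentation.jacobiMatrix_naive (v := v) e he _ _ i j
    rw [hM, Algebra.Generators.algebraMap_apply,
      ← Ideal.Quotient.mkₐ_eq_mk R, aeval_unique (Ideal.Quotient.mkₐ R _)]
    rfl
  have hjac : IsUnit (Q.comp P).jacobian := by
    rw [Algebra.PreSubmersivePresentation.comp_jacobian_eq_jacobian_smul_jacobian,
      Algebra.PreSubmersivePresentation.localizationAway_jacobian, Algebra.smul_def, hPjac]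
    exact hunit.mul (IsLocalization.Away.algebraMap_isUnit h)
  refine Algebra.SubmersivePresentation.isStandardSmoothOfRelativeDimension
    (⟨Q.comp P, hjac⟩ : Algebra.SubmersivePresentation R S _ _) ?_
  show (Q.comp P).dimension = n - c
  rw [Algebra.PreSubmersivePresentation.dimension_comp_eq_dimension_add_dimension]
  simp [Algebra.Presentation.dimension]

open TensorProduct KaehlerDifferential

set_option maxHeartbeats 1000000 in
theorem main (A B : Type u) [CommRing A] [CommRing B] [Algebra A B] [Algebra.FiniteType A B]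
    (q : Ideal B) [q.IsPrime] (r : ℕ)
    (hr : Module.finrank q.ResidueField (q.ResidueField ⊗[B] Ω[B⁄A]) = r) :
    ∃ g : B, g ∉ q ∧ ∃ (D : Type u) (_ : CommRing D) (_ : Algebra A D),
      Algebra.IsStandardSmoothOfRelativeDimension r A D ∧
        ∃ φ : D →ₐ[A] Localization.Away g, Function.Surjective φ := by
  classical
  obtain ⟨n, π, hπ⟩ :=
    Algebra.FiniteType.iff_quotient_mvPolynomial''.mp ‹Algebra.FiniteType A B›
  letI algPB : Algebra (MvPolynomial (Fin n) A) B := π.toRingHom.toAlgebra
  haveI : IsScalarTower A (MvPolynomial (Fin n) A) B :=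
    IsScalarTower.of_algebraMap_eq' π.comp_algebraMap.symm
  have hsurj : Function.Surjective (algebraMap (MvPolynomial (Fin n) A) B) := hπ
  have halg : ∀ p : MvPolynomial (Fin n) A, algebraMap (MvPolynomial (Fin n) A) B p = π p :=
    fun _ => rfl
  let g0 : B ⊗[MvPolynomial (Fin n) A] Ω[MvPolynomial (Fin n) A⁄A] →ₗ[B] Ω[B⁄A] :=
    mapBaseChange A (MvPolynomial (Fin n) A) B
  have hg0 : Function.Surjective g0 := mapBaseChange_surjective A _ B hsurj
  let v : RingHom.ker (algebraMap (MvPolynomial (Fin n) A) B) →
      B ⊗[MvPolynomial (Fin n) A] Ω[MvPolynomial (Fin n) A⁄A] :=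
    fun F => 1 ⊗ₜ D A (MvPolynomial (Fin n) A) F.1
  have hkerg0 : LinearMap.ker g0 = Submodule.span B (Set.range v) := by
    apply le_antisymm
    · intro y hy
      have hex := exact_kerCotangentToTensor_mapBaseChange A (MvPolynomial (Fin n) A) B hsurj
      obtain ⟨c', rfl⟩ := (hex y).mp hy
      obtain ⟨x, rfl⟩ := Ideal.toCotangent_surjective _ c'
      rw [kerCotangentToTensor_toCotangent]
      exact Submodule.subset_span ⟨x, rfl⟩
    · rw [Submodule.span_le]
      rintro _ ⟨F, rfl⟩
      simp only [SetLike.mem_coe, LinearMap.mem_ker, g0, v, mapBaseChange_tmul, map_D]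
      rw [(RingHom.mem_ker).mp F.2, map_zero, smul_zero]
  let f : (RingHom.ker (algebraMap (MvPolynomial (Fin n) A) B) →₀ B) →ₗ[B]
      B ⊗[MvPolynomial (Fin n) A] Ω[MvPolynomial (Fin n) A⁄A] := Finsupp.linearCombination B v
  have hfg : Function.Exact f g0 := by
    rw [LinearMap.exact_iff, hkerg0, Finsupp.range_linearCombination]
  have hex : Function.Exact (f.baseChange q.ResidueField) (g0.baseChange q.ResidueField) :=
    lTensor_exact q.ResidueField hfg hg0
  have hsurjK : Function.Surjective (g0.baseChange q.ResidueField) :=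
    LinearMap.lTensor_surjective q.ResidueField hg0
  let b : Module.Basis (Fin n) q.ResidueField
      (q.ResidueField ⊗[B] (B ⊗[MvPolynomial (Fin n) A] Ω[MvPolynomial (Fin n) A⁄A])) :=
    ((mvPolynomialBasis A (Fin n)).baseChange B).baseChange q.ResidueField
  have hn : Module.finrank q.ResidueField
      (q.ResidueField ⊗[B] (B ⊗[MvPolynomial (Fin n) A] Ω[MvPolynomial (Fin n) A⁄A])) = n := by
    rw [Module.finrank_eq_card_basis b, Fintype.card_fin]
  haveI : Module.Finite q.ResidueField
      (q.ResidueField ⊗[B] (B ⊗[MvPolynomial (Fin n) A] Ω[MvPolynomial (Fin n) A⁄A])) :=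
    Module.Finite.of_basis b
  have hrn := LinearMap.finrank_range_add_finrank_ker (g0.baseChange q.ResidueField)
  rw [LinearMap.range_eq_top.mpr hsurjK, finrank_top, hr, hn, (LinearMap.exact_iff.mp hex)]
    at hrn
  let w : RingHom.ker (algebraMap (MvPolynomial (Fin n) A) B) →
      q.ResidueField ⊗[B] (B ⊗[MvPolynomial (Fin n) A] Ω[MvPolynomial (Fin n) A⁄A]) :=
    fun F => 1 ⊗ₜ v F
  have hrange : LinearMap.range (f.baseChange q.ResidueField) =
      Submodule.span q.ResidueField (Set.range w) := by
    apply le_antisymm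
    · rintro _ ⟨z, rfl⟩
      induction z using TensorProduct.induction_on with
      | zero => simp
      | add x y hx hy => rw [map_add]; exact Submodule.add_mem _ hx hy
      | tmul a x =>
        rw [LinearMap.baseChange_tmul]
        simp only [f, Finsupp.linearCombination_apply, Finsupp.sum, tmul_sum]
        refine Submodule.sum_mem _ fun j _ => ?_
        have : a ⊗ₜ[B] (x j • v j) = (x j • a) • w j := by
          have e1 : (x j • a) ⊗ₜ[B] v j = a ⊗ₜ[B] (x j • v j) :=
            TensorProduct.smul_tmul (x j) a (v j)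
          have e2 : (x j • a) • w j = (x j • a) ⊗ₜ[B] v j := by
            show (x j • a) • ((1 : q.ResidueField) ⊗ₜ[B] v j) = _
            rw [TensorProduct.smul_tmul', smul_eq_mul, mul_one]
          rw [e2, e1]
        rw [this]
        exact Submodule.smul_mem _ _ (Submodule.subset_span ⟨j, rfl⟩)
    · rw [Submodule.span_le]
      rintro _ ⟨j, rfl⟩
      refine ⟨1 ⊗ₜ Finsupp.single j 1, ?_⟩
      simp [w, f]
  rw [hrange] at hrn
  -- extract a basis of the span
  obtain ⟨κ', a, -, hsp, hli⟩ := exists_linearIndependent' q.ResidueField w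
  haveI : Finite κ' := hli.finite_of_isNoetherian
  haveI : Fintype κ' := Fintype.ofFinite κ'
  have hcard : Fintype.card κ' = n - r := by
    have h1 := finrank_span_eq_card hli
    rw [hsp] at h1
    omega
  have hrn' : r ≤ n := by omega
  let e := Fintype.equivFinOfCardEq hcard
  let F : Fin (n - r) → MvPolynomial (Fin n) A := fun j => (a (e.symm j)).1
  have hF : ∀ j, π (F j) = 0 := fun j => (RingHom.mem_ker).mp (a (e.symm j)).2
  have hliF : LinearIndependent q.ResidueField (fun j : Fin (n - r) => w (a (e.symm j))) :=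
    hli.comp e.symm e.symm.injective
  let M : Matrix (Fin (n - r)) (Fin n) q.ResidueField :=
    Matrix.of fun j i => algebraMap B q.ResidueField (π (MvPolynomial.pderiv i (F j)))
  have hM : M.row = fun j => b.equivFun (w (a (e.symm j))) := by
    funext j i
    simp only [M, Matrix.row, Matrix.of_apply, Module.Basis.equivFun_apply, b, w, v,
      Module.Basis.baseChange_repr_tmul, mvPolynomialBasis_repr_apply]
    rw [Algebra.smul_def, mul_one]
    congr 1
    refine ((Algebra.smul_def (MvPolynomial.pderiv i (F j)) (1 : B)).trans ?_).symm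
    rw [mul_one]
    rfl
  have hrow : LinearIndependent q.ResidueField M.row := by
    rw [hM]
    exact hliF.map' b.equivFun.toLinearMap (LinearEquiv.ker _)
  obtain ⟨I, hI⟩ := Groth.Agent.H14.RelGCIJac.exists_embedding_det_ne_zero (n - r) n M hrow
  -- the determinant
  let Δ : MvPolynomial (Fin n) A :=
    Matrix.det (Matrix.of fun i j : Fin (n - r) => MvPolynomial.pderiv (I i) (F j))
  have hdet : (M.submatrix id I).det = algebraMap B q.ResidueField (π Δ) := by
    rw [← Matrix.det_transpose]
    show _ = (algebraMap B q.ResidueField) (π.toRingHom Δ)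
    rw [← RingHom.comp_apply, RingHom.map_det]
    congr 1
  have hΔq : π Δ ∉ q := fun hmem => hI (by
    rw [hdet]; exact Ideal.algebraMap_residueField_eq_zero.mpr hmem)
  -- the standard smooth algebra
  let D₀ := MvPolynomial (Fin n) A ⧸ Ideal.span (Set.range F)
  have hle : ∀ p ∈ Ideal.span (Set.range F), π p = 0 := by
    intro p hp
    have : Ideal.span (Set.range F) ≤ RingHom.ker π.toRingHom := by
      rw [Ideal.span_le]
      rintro _ ⟨j, rfl⟩
      exact hF j
    exact this hp
  let π₀ : D₀ →ₐ[A] B := Ideal.Quotient.liftₐ (Ideal.span (Set.range F)) π hle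
  have hπ₀ : Function.Surjective π₀ := by
    intro y
    obtain ⟨p, rfl⟩ := hπ y
    exact ⟨Ideal.Quotient.mk _ p, rfl⟩
  let h : D₀ := Ideal.Quotient.mk _ Δ
  have hπ₀h : π₀ h = π Δ := rfl
  refine ⟨π₀ h, by rw [hπ₀h]; exact hΔq, Localization.Away h, inferInstance, inferInstance, ?_, ?_⟩
  · have := isStandardSmoothOfRelDim_of_localization_naive (R := A) F I I.injective
      (Localization.Away h) h (IsLocalization.Away.algebraMap_isUnit h)
    rwa [Nat.sub_sub_self hrn'] at this
  · refine ⟨Localization.awayMapₐ π₀ h, ?_⟩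
    intro y
    obtain ⟨⟨bb, ⟨_, k, rfl⟩⟩, rfl⟩ := IsLocalization.mk'_surjective (Submonoid.powers (π₀ h)) y
    obtain ⟨d, rfl⟩ := hπ₀ bb
    refine ⟨IsLocalization.mk' (Localization.Away h) d (⟨h ^ k, k, rfl⟩ : Submonoid.powers h), ?_⟩
    show IsLocalization.Away.mapₐ _ _ π₀ h _ = _
    simp [IsLocalization.Away.mapₐ, IsLocalization.Away.map, IsLocalization.map_mk']

end Groth.Agent.H70.StdSmoothEmbed
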