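import Mathlib
import Groth.Agent.H70.StdSmoothEmbed
import Groth.Agent.H34.Fitting6
import Groth.Agent.S14385

/-!
# Fitting ideal of differentials and local embeddings into standard smooth algebras

If `Fitt_p(Ω[B/A])` is not contained in a prime `q` of a finite type `A`-algebra `B`, then some
localization `B_g` (`g ∉ q`) is a quotient of a standard smooth `A`-algebra of relative dimension
exactly `p`.
-/

set_option autoImplicit false
set_option linter.style.haveILetI false
universe u
open TensorProduct

namespace Groth.Agent.H70.FittEmbed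

open Groth.Agent.H34.Fit in
theorem exists_surjection_of_fitt (A B : Type u) [CommRing A] [CommRing B] [Algebra A B]
    [Algebra.FiniteType A B] (q : Ideal B) [q.IsPrime] (p : ℕ)
    (hF : ¬ Fitt.ideal B Ω[B⁄A] p ≤ q) :
    ∃ g : B, g ∉ q ∧ ∃ (D : Type u) (_ : CommRing D) (_ : Algebra A D),
      Algebra.IsStandardSmoothOfRelativeDimension p A D ∧
        ∃ φ : D →ₐ[A] Localization.Away g, Function.Surjective φ := by
  classical
  have hr := (not_fittIdeal_le_iff_finrank_le Ω[B⁄A] p q).mp hF
  obtain ⟨g, hg, D, _, _, hD, φ, hφ⟩ :=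
    Groth.Agent.H70.StdSmoothEmbed.main A B q _ rfl
  set r := Module.finrank q.ResidueField (q.ResidueField ⊗[B] Ω[B⁄A]) with hrdef
  refine ⟨g, hg, MvPolynomial (Fin (p - r)) D, inferInstance, inferInstance, ?_, ?_⟩
  · haveI := hD
    haveI := Groth.Agent.S14385.mvPoly_isStandardSmooth D (p - r)
    have h1 : Algebra.IsStandardSmoothOfRelativeDimension ((p - r) + r) A
        (MvPolynomial (Fin (p - r)) D) :=
      Algebra.IsStandardSmoothOfRelativeDimension.trans (n := r) (m := p - r) A D _
    rwa [Nat.sub_add_cancel hr] at h1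
  · let ψ : MvPolynomial (Fin (p - r)) D →+* Localization.Away g :=
      MvPolynomial.eval₂Hom φ.toRingHom (fun _ => 0)
    refine ⟨{ toRingHom := ψ, commutes' := ?_ }, ?_⟩
    · intro a
      show ψ (algebraMap A (MvPolynomial (Fin (p - r)) D) a) = _
      rw [IsScalarTower.algebraMap_apply A D (MvPolynomial (Fin (p - r)) D),
        MvPolynomial.algebraMap_eq]
      show MvPolynomial.eval₂ φ.toRingHom (fun _ => 0) (MvPolynomial.C _) = _
      rw [MvPolynomial.eval₂_C]
      exact φ.commutes a
    · intro z
      obtain ⟨d, rfl⟩ := hφ z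
      refine ⟨MvPolynomial.C d, ?_⟩
      show MvPolynomial.eval₂ φ.toRingHom (fun _ => 0) (MvPolynomial.C d) = _
      rw [MvPolynomial.eval₂_C]
      rfl

end Groth.Agent.H70.FittEmbed
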