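import Mathlib
import Groth.Agent.H70.FibreJacFitt
import Groth.Agent.H17.FittSheaf
import Groth.Agent.H8.QCohStalk
import Groth.Agent.H8.OmegaUniv
import Groth.Agent.H39.DerFin

/-!
# Support of the Fitting ideal sheaf of `Ω_{X/S}` on an affine chart
-/

set_option autoImplicit false
set_option linter.style.haveILetI false
universe u
open CategoryTheory CategoryTheory.Limits AlgebraicGeometry TopologicalSpace

namespace Groth.Agent.H70.FittSupport

/-- On an affine chart `W → T` around `x`: `x` lies in the support of `Fitt_d(Ω_{X/S})` iff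
`Fitt_d(Ω[Γ(X,W)/Γ(S,T)])` is contained in the prime of `x`. -/
theorem mem_support_fitt_iff {X S : Scheme.{u}} (f : X ⟶ S) [LocallyOfFinitePresentation f]
    [QuasiSeparated f] (d : ℕ) (x : X)
    (T : S.Opens) (hT : IsAffineOpen T) (W : X.Opens) (hW : IsAffineOpen W)
    (hWT : W ≤ f ⁻¹ᵁ T) (hxW : x ∈ W) :
    letI := (f.appLE T W hWT).hom.toAlgebra
    (x ∈ (Fitt.sheafIdeal (Omega.sheaf f) d).support ↔
      Fitt.ideal Γ(X, W) Ω[Γ(X, W)⁄Γ(S, T)] d ≤ (hW.primeIdealOf ⟨x, hxW⟩).asIdeal) := by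
  classical
  have hu := Groth.Agent.H8.OmegaUniv.isUniversal_dOmega f
  haveI hq : (Omega.sheaf f).IsQuasicoherent :=
    Groth.Agent.H39.DerFin.isQuasicoherent_of_isUniversal f hu
  haveI hft : SheafOfModules.IsFiniteType (R := X.ringCatSheaf) (Omega.sheaf f) :=
    Groth.Agent.H39.DerFin.isFiniteType_of_isUniversal f hu
  letI := (f.appLE T W hWT).hom.toAlgebra
  obtain ⟨ψ⟩ := Groth.Agent.H39.DerFin.nonempty_sections_linearEquiv_kaehler f hu hT hW hWT
  rw [Scheme.IdealSheafData.mem_support_iff_of_mem (U := ⟨W, hW⟩) hxW,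
    Groth.Agent.H17.FittSheaf.sheafIdeal_ideal, Scheme.mem_zeroLocus_iff,
    Groth.Agent.H70.FibreJacFitt.fitt_congr ψ d]
  constructor
  · intro h a ha
    by_contra hap
    exact h a ha ((Groth.Agent.H8.mem_basicOpen_iff_notMem_primeIdealOf hW x hxW a).mpr hap)
  · intro h a ha hxa
    exact (Groth.Agent.H8.mem_basicOpen_iff_notMem_primeIdealOf hW x hxW a).mp hxa (h ha)

end Groth.Agent.H70.FittSupport
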