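import Mathlib
import Groth.Agent.H4.StrictHensSection

/-!
# Sections of elementary étale neighbourhoods of the closed point of a henselian local scheme
-/

set_option autoImplicit false
set_option linter.style.haveILetI false
universe u
open AlgebraicGeometry CategoryTheory IsLocalRing Limits

namespace Groth.Agent.H70.HenselSection

/-- An étale neighbourhood `(U, u)` of the closed point of `Spec R`, `R` henselian local, with
trivial residue field extension, has a section through `u`. -/
theorem exists_section_of_etaleNbhd (R : Type u) [CommRing R] [HenselianLocalRing R]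
    {U : Scheme.{u}} (g : U ⟶ Spec (CommRingCat.of R)) [Etale g] (u : U)
    (hgu : g u = closedPoint R) (hres : Function.Bijective (g.residueFieldMap u)) :
    ∃ s : Spec (CommRingCat.of R) ⟶ U, s ≫ g = 𝟙 _ ∧ s (closedPoint R) = u := by
  let c : Spec (CommRingCat.of (ResidueField R)) ⟶ Spec (CommRingCat.of R) :=
    Spec.map (CommRingCat.ofHom (residue R))
  have hc : c (closedPoint (ResidueField R)) = closedPoint R := comap_closedPoint (residue R)
  let δ := Scheme.descResidueField (Scheme.stalkClosedPointTo c)
  have hδ : Spec.map δ ≫
      (Spec (CommRingCat.of R)).fromSpecResidueField (c (closedPoint (ResidueField R))) = c :=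
    Scheme.descResidueField_stalkClosedPointTo_fromSpecResidueField (ResidueField R) _ c
  haveI : IsIso (g.residueFieldMap u) := (ConcreteCategory.isIso_iff_bijective _).mpr hres
  have hpt : g u = c (closedPoint (ResidueField R)) := hgu.trans hc.symm
  let β : U.residueField u ⟶ CommRingCat.of (ResidueField R) :=
    inv (g.residueFieldMap u) ≫ ((Spec (CommRingCat.of R)).residueFieldCongr hpt).hom ≫ δ
  let y : Spec (CommRingCat.of (ResidueField R)) ⟶ U := Spec.map β ≫ U.fromSpecResidueField u
  have hy : y ≫ g = c := by
    simp only [y, β, Category.assoc]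
    rw [← Scheme.Hom.SpecMap_residueFieldMap_fromSpecResidueField, ← Spec.map_comp_assoc,
      IsIso.hom_inv_id_assoc, Spec.map_comp, Category.assoc,
      Scheme.residueFieldCongr_fromSpecResidueField, hδ]
  obtain ⟨s, hs1, hs2⟩ := Groth.Agent.H4.exists_section_of_etale R U g y hy
  refine ⟨s, hs1, ?_⟩
  have h1 : s (c (closedPoint (ResidueField R))) = y (closedPoint (ResidueField R)) := by
    rw [← Scheme.Hom.comp_apply, hs2]
  rw [← hc, h1]
  simp only [y, Scheme.Hom.comp_apply, Scheme.fromSpecResidueField_apply]

end Groth.Agent.H70.HenselSection
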