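import Mathlib
import Groth.Agent.H70.Birational
import Groth.Agent.H70.GeomUnibranchScheme
import Groth.Agent.H70.LocDomain

/-!
# Integral birational morphisms and geometric unibranchness: the converse (⟸)
-/

set_option autoImplicit false
set_option linter.style.haveILetI false
universe u
open AlgebraicGeometry CategoryTheory CategoryTheory.Limits TopologicalSpace IsLocalRing
open scoped TensorProduct

namespace Groth.Agent.H70.IntBirConverse

open Groth.Agent.H70.BranchTop Groth.Agent.H70.Birational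

theorem subsingleton_primeSpectrum_pushout {k A K : CommRingCat.{u}} (a : k ⟶ A) (b : k ⟶ K)
    (hk : IsField k) (hA : IsField A) (hK : IsField K) (hb : b.hom.IsPurelyInseparable) :
    Subsingleton (PrimeSpectrum ↑(pushout a b)) := by
  letI := hk.toField
  letI := hA.toField
  letI := hK.toField
  letI : Algebra k A := a.hom.toAlgebra
  letI : Algebra k K := b.hom.toAlgebra
  haveI : IsPurelyInseparable k K := hb
  have hpo : IsPushout a b
      (CommRingCat.ofHom (S := A ⊗[k] K) Algebra.TensorProduct.includeLeftRingHom)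
      (CommRingCat.ofHom (S := A ⊗[k] K) Algebra.TensorProduct.includeRight.toRingHom) :=
    CommRingCat.isPushout_tensorProduct k A K
  let i : pushout a b ≅ CommRingCat.of (A ⊗[k] K) := hpo.isoPushout.symm
  have h1 : Function.Injective (PrimeSpectrum.comap (algebraMap A (A ⊗[k] K))) :=
    (PrimeSpectrum.isHomeomorph_comap_of_isPurelyInseparable k K A).injective
  haveI : Subsingleton (PrimeSpectrum (A ⊗[k] K)) := h1.subsingleton
  have h2 : Function.Injective (PrimeSpectrum.comap i.inv.hom) :=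
    PrimeSpectrum.comap_injective_of_surjective _
      (ConcreteCategory.bijective_of_isIso i.inv).surjective
  exact h2.subsingleton

theorem pi_of_surjective {K L : Type*} [Field K] [Field L] (a : K →+* L)
    (h : Function.Surjective a) : a.IsPurelyInseparable := by
  algebraize [a]
  rw [RingHom.IsPurelyInseparable, isPurelyInseparable_iff_pow_mem K (ringExpChar K)]
  intro l
  obtain ⟨k, rfl⟩ := h l
  exact ⟨0, k, by simp [RingHom.algebraMap_toAlgebra]⟩

section Triplet

open Scheme.Pullback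

variable {X Y S : Scheme.{u}} {f : X ⟶ S} {g : Y ⟶ S}

lemma subsingleton_Spec_tensor (T : Triplet f g)
    (h : (g.residueFieldMap T.y).hom.IsPurelyInseparable) : Subsingleton ↥(Spec T.tensor) := by
  have hb : ((S.residueFieldCongr T.hy).inv ≫ g.residueFieldMap T.y).hom.IsPurelyInseparable := by
    rw [CommRingCat.hom_comp]
    exact RingHom.IsPurelyInseparable.comp
      (pi_of_surjective _ (ConcreteCategory.bijective_of_isIso _).surjective) h
  exact subsingleton_primeSpectrum_pushout _ _ (Field.toIsField _) (Field.toIsField _)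
    (Field.toIsField _) hb

/-- If `g` induces a purely inseparable residue field extension at `y`, a point of `X ×[S] Y`
over `y` is determined by its image in `X`. -/
theorem eq_of_fst_eq_of_snd_eq (t₁ t₂ : ↑(pullback f g))
    (h1 : pullback.fst f g t₁ = pullback.fst f g t₂)
    (h2 : pullback.snd f g t₁ = pullback.snd f g t₂)
    (h : (g.residueFieldMap (pullback.snd f g t₂)).hom.IsPurelyInseparable) : t₁ = t₂ := by
  apply carrierEquiv.injective
  apply carrierEquiv_eq_iff.mpr
  have e : Triplet.ofPoint t₁ = Triplet.ofPoint t₂ := Triplet.ext h1 h2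
  refine ⟨e, ?_⟩
  have := subsingleton_Spec_tensor (Triplet.ofPoint t₂) h
  exact @Subsingleton.elim _ this _ _

end Triplet

variable {X Y X' Y' : Scheme.{u}} {f : X ⟶ Y} {g : Y' ⟶ Y} {f' : X' ⟶ Y'} {g' : X' ⟶ X}

/-- In a pullback square, a point is determined by its two images if one of the legs induces a
purely inseparable extension of residue fields there. -/
theorem eq_of_isPullback_pi (sq : IsPullback g' f' f g) (z₁ z₂ : X') (h1 : g' z₁ = g' z₂)
    (h2 : f' z₁ = f' z₂) (h : (f.residueFieldMap (g' z₂)).hom.IsPurelyInseparable) : z₁ = z₂ := by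
  let e := sq.flip.isoPullback
  have hfst : e.hom ≫ pullback.fst g f = f' := sq.flip.isoPullback_hom_fst
  have hsnd : e.hom ≫ pullback.snd g f = g' := sq.flip.isoPullback_hom_snd
  have hfst' : ∀ z, pullback.fst g f (e.hom z) = f' z := fun z => by
    rw [← Scheme.Hom.comp_apply, hfst]
  have hsnd' : ∀ z, pullback.snd g f (e.hom z) = g' z := fun z => by
    rw [← Scheme.Hom.comp_apply, hsnd]
  have key : e.hom z₁ = e.hom z₂ := by
    apply eq_of_fst_eq_of_snd_eq
    · rw [hfst', hfst', h2]
    · rw [hsnd', hsnd', h1]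
    · rw [hsnd']; exact h
  exact e.hom.homeomorph.injective key

theorem converse {X Y : Scheme.{u}} (f : X ⟶ Y) [IsIntegralHom f] (hf : RadPt.IsBirational f)
    (y : Y) (hrad : RadPt.IsRadicialAt f y)
    (hX : ∀ x : X, f x = y → CAlg2.IsGeomUnibranch (X.presheaf.stalk x)) :
    CAlg2.IsGeomUnibranch (Y.presheaf.stalk y) := by
  apply GeomUnibranchScheme.isGeomUnibranch_of_forall_encard_eq_one
  intro U g u hg hgu
  haveI := hg
  rw [encard_eq_one_iff]
  obtain ⟨ξ, hξ, hξu⟩ := LocDomain.exists_maxPts_specializes u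
  refine ⟨ξ, ⟨hξ, hξu⟩, ?_⟩
  rintro ξ' ⟨hξ', hξ'u⟩
  let Q : Scheme.{u} := pullback f g
  let q₁ : Q ⟶ X := pullback.fst f g
  let q₂ : Q ⟶ U := pullback.snd f g
  have sq : IsPullback q₁ q₂ f g := IsPullback.of_hasPullback f g
  haveI : Flat g := inferInstance
  have hbir : RadPt.IsBirational q₂ := isBirational_of_isPullback sq hf
  haveI : IsIntegralHom q₂ := inferInstanceAs (IsIntegralHom (pullback.snd f g))
  haveI : Etale q₁ := inferInstanceAs (Etale (pullback.fst f g))
  have hclosed : IsClosedMap q₂ := q₂.isClosedMap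
  have lift : ∀ ξ ∈ maxPtsTop U, ξ ⤳ u →
      ∃ ζ ∈ maxPtsTop Q, ∃ t : Q, ζ ⤳ t ∧ q₂ t = u ∧ q₂ ζ = ξ := by
    intro ξ hξ hs
    obtain ⟨hbij, -⟩ := hbir
    rw [genericPoints_eq_maxPtsTop, genericPoints_eq_maxPtsTop] at hbij
    obtain ⟨ζ, hζ, rfl⟩ := hbij.surjOn hξ
    have h1 : u ∈ closure (q₂ '' {ζ}) := by
      rw [Set.image_singleton]; exact specializes_iff_mem_closure.mp hs
    obtain ⟨t, ht, htu⟩ := hclosed.closure_image_subset {ζ} h1
    exact ⟨ζ, hζ, t, specializes_iff_mem_closure.mpr ht, htu, rfl⟩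
  obtain ⟨ζ, hζ, t, hζt, htu, rfl⟩ := lift ξ hξ hξu
  obtain ⟨ζ', hζ', t', hζ't', ht'u, rfl⟩ := lift ξ' hξ' hξ'u
  have hw : ∀ s : Q, f (q₁ s) = g (q₂ s) := fun s => by
    rw [← Scheme.Hom.comp_apply, sq.w, Scheme.Hom.comp_apply]
  have hft : f (q₁ t) = y := by rw [hw, htu, hgu]
  have hft' : f (q₁ t') = y := by rw [hw, ht'u, hgu]
  have hq₁ : q₁ t' = q₁ t := hrad.1 _ _ hft' hft
  have htt : t' = t := eq_of_isPullback_pi sq t' t hq₁ (ht'u.trans htu.symm) (hrad.2 _ hft)
  subst htt
  have henc := GeomUnibranchScheme.encard_eq_one_of_isGeomUnibranch q₁ t' (hX _ hft')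
  rw [encard_eq_one_iff] at henc
  obtain ⟨ζ₀, -, hζ₀⟩ := henc
  rw [hζ₀ ζ ⟨hζ, hζt⟩, hζ₀ ζ' ⟨hζ', hζ't'⟩]

end Groth.Agent.H70.IntBirConverse
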