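import Mathlib
import Groth.Prelude.Def_Red2
import Groth.Prelude.Def_ActBC
import Groth.Agent.H43.LSDefs

/-! (LS-INT) for helper43's S16621 squad: a connected locally Noetherian scheme whose local rings
are domains is integral. -/

set_option autoImplicit false
universe u
open CategoryTheory Limits AlgebraicGeometry TopologicalSpace

namespace Groth.Agent.H70.LS_INT

section Top

variable {S : Scheme.{u}}

/-- The generic point of the spectrum of a domain stalk, as a point of `S`. -/
theorem exists_gen (x : S) [IsDomain (S.presheaf.stalk x)] :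
    ∃ g : S, g ⤳ x ∧ ∀ y : S, y ⤳ x → g ⤳ y := by
  let b : PrimeSpectrum (S.presheaf.stalk x) := ⟨⊥, Ideal.isPrime_bot⟩
  refine ⟨(S.fromSpecStalk x).base b, ?_, ?_⟩
  · have h : (S.fromSpecStalk x).base b ∈ Set.range (S.fromSpecStalk x).base := ⟨b, rfl⟩
    rw [Scheme.range_fromSpecStalk] at h
    exact h
  · intro y hy
    have h : y ∈ Set.range (S.fromSpecStalk x).base := by
      rw [Scheme.range_fromSpecStalk]; exact hy
    obtain ⟨q, rfl⟩ := h
    have hbq : b ⤳ q := (PrimeSpectrum.le_iff_specializes b q).mp bot_le
    exact hbq.map (S.fromSpecStalk x).base.hom.continuous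

/-- Every irreducible closed set through `x` lies in the closure of `g`. -/
theorem subset_closure_gen (x g : S) (hg : ∀ y : S, y ⤳ x → g ⤳ y) (Z : Set S)
    (hZ : IsIrreducible Z) (hZc : IsClosed Z) (hx : x ∈ Z) : Z ⊆ closure {g} := by
  obtain ⟨η, hη⟩ := QuasiSober.sober hZ hZc
  have h1 : η ⤳ x := by
    rw [specializes_iff_mem_closure, hη.def]; exact hx
  have h2 : g ⤳ η := hg η h1
  rw [← hη.def]
  exact closure_minimal (Set.singleton_subset_iff.mpr (specializes_iff_mem_closure.mp h2))
    isClosed_closure

end Top

theorem isIntegral_of_normal {S : Scheme.{u}} [ConnectedSpace S] [IsLocallyNoetherian S]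
    (hnorm : ∀ x : S, IsDomain (S.presheaf.stalk x) ∧ IsIntegrallyClosed (S.presheaf.stalk x)) :
    IsIntegral S := by
  haveI : ∀ x : S, IsDomain (S.presheaf.stalk x) := fun x => (hnorm x).1
  haveI : ∀ x : S, _root_.IsReduced (S.presheaf.stalk x) := fun x => inferInstance
  haveI : IsReduced S := isReduced_of_isReduced_stalk S
  choose g hgx hg using fun x : S => exists_gen x
  -- the component through `x`
  have hC : ∀ x : S, x ∈ closure {g x} := fun x => specializes_iff_mem_closure.mp (hgx x)
  have hCeq : ∀ x y : S, y ∈ closure {g x} → closure {g y} = closure {g x} := by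
    intro x y hy
    apply Set.Subset.antisymm
    · -- g x ⤳ y, so g y ... : closure {g x} is irreducible closed containing y
      have := subset_closure_gen y (g y) (hg y) (closure {g x}) isIrreducible_singleton.closure
        isClosed_closure hy
      -- this : closure {g x} ⊆ closure {g y}; need the reverse: use x ∈ closure {g y}
      have hx' : x ∈ closure {g y} := this (hC x)
      exact subset_closure_gen x (g x) (hg x) (closure {g y}) isIrreducible_singleton.closure
        isClosed_closure hx'
    · exact subset_closure_gen y (g y) (hg y) (closure {g x}) isIrreducible_singleton.closure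
        isClosed_closure hy
  -- each component is a neighbourhood of its points
  have hnhds : ∀ x : S, closure {g x} ∈ nhds x := by
    intro x
    obtain ⟨_, ⟨W, hW, rfl⟩, hxW, -⟩ :=
      S.isBasis_affineOpens.exists_subset_of_mem_open (Set.mem_univ x) isOpen_univ
    haveI : IsNoetherianRing Γ(S, W) := IsLocallyNoetherian.component_noetherian ⟨W, hW⟩
    haveI : NoetherianSpace W := noetherianSpace_of_isAffineOpen W hW
    let x' : W := ⟨x, hxW⟩
    have hfin : (irreducibleComponents W).Finite := NoetherianSpace.finite_irreducibleComponents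
    -- every irreducible component of `W` through `x'` lies in the preimage of `closure {g x}`
    have hsub : ∀ Z ∈ irreducibleComponents W, x' ∈ Z →
        Z ⊆ (Subtype.val : W → S) ⁻¹' closure {g x} := by
      intro Z hZ hxZ
      have hirr : IsIrreducible Z := hZ.1
      have himg : IsIrreducible ((Subtype.val : W → S) '' Z) :=
        hirr.image _ continuous_subtype_val.continuousOn
      have := subset_closure_gen x (g x) (hg x) (closure ((Subtype.val : W → S) '' Z))
        himg.closure isClosed_closure (subset_closure ⟨x', hxZ, rfl⟩)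
      intro z hz
      exact this (subset_closure ⟨z, hz, rfl⟩)
    -- the open set
    let O : Set W := (⋃ Z ∈ {Z ∈ irreducibleComponents W | x' ∉ Z}, Z)ᶜ
    have hOopen : IsOpen O := by
      apply isOpen_compl_iff.mpr
      apply Set.Finite.isClosed_biUnion (hfin.subset (fun Z hZ => hZ.1))
      intro Z hZ
      exact isClosed_of_mem_irreducibleComponents Z hZ.1
    have hxO : x' ∈ O := by
      intro hmem
      obtain ⟨Z, hZ, hxZ⟩ := Set.mem_iUnion₂.mp hmem
      exact hZ.2 hxZ
    have hOsub : O ⊆ (Subtype.val : W → S) ⁻¹' closure {g x} := by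
      intro z hz
      have hzc : z ∈ irreducibleComponent z := mem_irreducibleComponent
      have hcomp : irreducibleComponent z ∈ irreducibleComponents W :=
        irreducibleComponent_mem_irreducibleComponents z
      by_cases hxz : x' ∈ irreducibleComponent z
      · exact hsub _ hcomp hxz hzc
      · exfalso
        apply hz
        exact Set.mem_iUnion₂.mpr ⟨irreducibleComponent z, ⟨hcomp, hxz⟩, hzc⟩
    have hOS : IsOpen ((Subtype.val : W → S) '' O) := W.2.isOpenMap_subtype_val O hOopen
    refine Filter.mem_of_superset (hOS.mem_nhds ⟨x', hxO, rfl⟩) ?_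
    rintro _ ⟨z, hz, rfl⟩
    exact hOsub hz
  -- so components are open
  have hopen : ∀ x : S, IsOpen (closure {g x}) := by
    intro x
    rw [isOpen_iff_mem_nhds]
    intro y hy
    rw [← hCeq x y hy]
    exact hnhds y
  obtain ⟨x₀⟩ : Nonempty S := inferInstance
  have hclopen : IsClopen (closure {g x₀}) := ⟨isClosed_closure, hopen x₀⟩
  have huniv : closure {g x₀} = Set.univ := by
    rcases isClopen_iff.mp hclopen with h | h
    · exact absurd (h ▸ hC x₀ : x₀ ∈ (∅ : Set S)) (Set.notMem_empty _)
    · exact h
  haveI : IrreducibleSpace S := by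
    rw [irreducibleSpace_def, Set.top_eq_univ, ← huniv]
    exact isIrreducible_singleton.closure
  exact isIntegral_of_irreducibleSpace_of_isReduced S

end Groth.Agent.H70.LS_INT
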