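import Mathlib
import Groth.Prelude.Def_Red2
import Groth.Prelude.Def_ActBC
import Groth.Agent.H43.LSDefs

/-! (LS-LISO) for helper43's S16621 squad: being an isomorphism is local on the base. -/

set_option autoImplicit false
universe u
open CategoryTheory Limits MonoidalCategory CartesianMonoidalCategory MonObj GrpObj AlgebraicGeometry
open Groth.Agent.H43.LS

namespace Groth.Agent.H70.LS_LISO

theorem isIso_of_local {S : Scheme.{u}} {X Y : Over S} (φ : X ⟶ Y) {κ : Type u} (U : κ → S.Opens)
    (hU : ∀ s : S, ∃ i, s ∈ U i) (h : ∀ i, IsIso ((Over.pullback (U i).ι).map φ)) : IsIso φ := by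
  suffices hl : IsIso φ.left by
    haveI : IsIso ((Over.forget S).map φ) := hl
    exact isIso_of_reflects_iso φ (Over.forget S)
  have hsup : ⨆ i, U i = ⊤ := by
    rw [eq_top_iff]
    intro s _
    obtain ⟨i, hi⟩ := hU s
    exact TopologicalSpace.Opens.mem_iSup.mpr ⟨i, hi⟩
  let 𝒰 : Y.left.OpenCover := (S.openCoverOfIsOpenCover U hsup).pullback₁ Y.hom
  have hP : MorphismProperty.isomorphisms Scheme.{u} φ.left := by
    apply IsZariskiLocalAtTarget.of_openCover (P := MorphismProperty.isomorphisms Scheme.{u}) 𝒰
    intro i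
    show IsIso (pullback.snd φ.left (pullback.fst Y.hom (U i).ι))
    haveI := h i
    set m := ((Over.pullback (U i).ι).map φ).left with hm
    haveI : IsIso m := inferInstanceAs (IsIso ((Over.forget _).map ((Over.pullback (U i).ι).map φ)))
    have hfst : m ≫ pullback.fst Y.hom (U i).ι = pullback.fst X.hom (U i).ι ≫ φ.left := by
      rw [hm]; exact pullback.lift_fst _ _ _
    have hsnd : m ≫ pullback.snd Y.hom (U i).ι = pullback.snd X.hom (U i).ι := by
      rw [hm]; exact pullback.lift_snd _ _ _
    have houter : IsPullback (m ≫ pullback.snd Y.hom (U i).ι) (pullback.fst X.hom (U i).ι)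
        (U i).ι (φ.left ≫ Y.hom) := by
      rw [hsnd, Over.w φ]
      exact (IsPullback.of_hasPullback X.hom (U i).ι).flip
    have hleft : IsPullback m (pullback.fst X.hom (U i).ι) (pullback.fst Y.hom (U i).ι) φ.left :=
      IsPullback.of_right houter hfst (IsPullback.of_hasPullback Y.hom (U i).ι).flip
    have hpb := hleft.flip
    have hs : pullback.snd φ.left (pullback.fst Y.hom (U i).ι) = hpb.isoPullback.inv ≫ m := by
      rw [Iso.eq_inv_comp]
      exact hpb.isoPullback_hom_snd
    rw [hs]
    infer_instance
  exact hP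

end Groth.Agent.H70.LS_LISO
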