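import Mathlib
import Groth.Prelude.Def_CAlgX
import Groth.Agent.S2463
import Groth.Agent.H34.Fitting6

/-!
# Jacobian criterion for a quotient of a standard smooth algebra by an `H₁`-regular sequence

`A → P ↠ C`, `P` standard smooth of relative dimension `m + c` over `A`, kernel generated by an
`H₁`-regular sequence of length `c`.  Then `C` is smooth over `A` at a prime `q` iff
`Fitt_m(Ω[C/A]) ⊄ q`.
-/

set_option autoImplicit false
set_option linter.style.haveILetI false
universe u
open TensorProduct KaehlerDifferential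

namespace Groth.Agent.H70.LciJac

/-- For an `H₁`-regular sequence `g` generating `I`: if `∑ bₖ gₖ ∈ I²` then all `bₖ ∈ I`.
(copy of `H39.ConormalFree.coeff_mem_of_sum_mem_sq`, to keep imports light) -/
lemma coeff_mem_of_sum_mem_sq {R : Type u} [CommRing R] {c : ℕ} (g : Fin c → R)
    (hg : CAlgX.IsH1Regular g) (b : Fin c → R)
    (h : ∑ k, b k * g k ∈ Ideal.span (Set.range g) ^ 2) (k : Fin c) :
    b k ∈ Ideal.span (Set.range g) := by
  set I := Ideal.span (Set.range g) with hI
  have h' : ∑ k, b k * g k ∈ I • Submodule.span R (Set.range g) := by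
    rw [pow_two] at h
    exact h
  obtain ⟨a, ha, hab⟩ := (Submodule.mem_ideal_smul_span_iff_exists_sum I g _).mp h'
  have hfs := Finsupp.sum_fintype a (fun i c => c • g i) (fun i => zero_smul _ _)
  rw [hfs] at hab
  have hrel : ∑ i, (b i - a i) * g i = 0 := by
    have : ∑ i, (b i - a i) * g i = ∑ i, b i * g i - ∑ i, a i • g i := by
      rw [← Finset.sum_sub_distrib]
      exact Finset.sum_congr rfl fun i _ => by rw [smul_eq_mul]; ring
    rw [this, hab, sub_self]
  have hmem := hg (fun i => b i - a i) hrel
  have hle : Submodule.span R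
      {v : Fin c → R | ∃ i j : Fin c, v = Pi.single i (g j) - Pi.single j (g i)} ≤
      Submodule.pi Set.univ (fun _ : Fin c => I) := by
    rw [Submodule.span_le]
    rintro v ⟨i, j, rfl⟩ m -
    have hs : ∀ (i' j' : Fin c), Pi.single (M := fun _ => R) i' (g j') m ∈ I := by
      intro i' j'
      by_cases hm : m = i'
      · subst hm
        rw [Pi.single_eq_same]
        exact Ideal.subset_span ⟨j', rfl⟩
      · rw [Pi.single_eq_of_ne hm]
        exact I.zero_mem
    rw [Pi.sub_apply]
    exact I.sub_mem (hs i j) (hs j i)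
  have hk : b k - a k ∈ I := hle hmem k (Set.mem_univ k)
  have : b k = (b k - a k) + a k := by ring
  rw [this]
  exact I.add_mem hk (ha k)

section

variable {A P C : Type u} [CommRing A] [CommRing P] [CommRing C] [Algebra A P] [Algebra P C]
  [Algebra A C] [IsScalarTower A P C]

/-- the generators of the kernel, as elements of the kernel -/
def gen {c : ℕ} (g : Fin c → P) (hker : RingHom.ker (algebraMap P C) = Ideal.span (Set.range g))
    (k : Fin c) : RingHom.ker (algebraMap P C) :=
  ⟨g k, by rw [hker]; exact Ideal.subset_span ⟨k, rfl⟩⟩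

omit [Algebra A P] [Algebra A C] [IsScalarTower A P C] in
/-- Every element of the cotangent space of the kernel is a combination of the generators. -/
lemma exists_eq_sum_cot {c : ℕ} (g : Fin c → P)
    (hker : RingHom.ker (algebraMap P C) = Ideal.span (Set.range g))
    (t : (RingHom.ker (algebraMap P C)).Cotangent) :
    ∃ b : Fin c → P, t = ∑ k, b k • (RingHom.ker (algebraMap P C)).toCotangent (gen g hker k) := by
  obtain ⟨⟨x, hx⟩, rfl⟩ := Ideal.toCotangent_surjective _ t
  have hx' : x ∈ Submodule.span P (Set.range g) := by rw [hker] at hx; exact hx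
  obtain ⟨b, hb⟩ := (Submodule.mem_span_range_iff_exists_fun P).mp hx'
  refine ⟨b, ?_⟩
  have : (⟨x, hx⟩ : RingHom.ker (algebraMap P C)) = ∑ k, b k • gen g hker k := by
    apply Subtype.ext
    show x = _
    rw [← hb]
    simp [gen]
  rw [this, map_sum]
  exact Finset.sum_congr rfl fun k _ => map_smul _ _ _

end

section Main

variable {A P C : Type u} [CommRing A] [CommRing P] [CommRing C] [Algebra A P] [Algebra P C]
  [Algebra A C] [IsScalarTower A P C] (q : Ideal C) [q.IsPrime]

/-- the vectors `1 ⊗ (1 ⊗ d gₖ)` in `κ(q) ⊗[C] (C ⊗[P] Ω[P/A])` -/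
noncomputable def u {c : ℕ} (g : Fin c → P) (k : Fin c) :
    q.ResidueField ⊗[C] (C ⊗[P] Ω[P⁄A]) :=
  (1 : q.ResidueField) ⊗ₜ[C] ((1 : C) ⊗ₜ[P] D A P (g k))

omit [Algebra A P] [Algebra A C] [IsScalarTower A P C] in
lemma exists_eq_sum_tmul {c : ℕ} (g : Fin c → P)
    (hker : RingHom.ker (algebraMap P C) = Ideal.span (Set.range g))
    (z : q.ResidueField ⊗[P] (RingHom.ker (algebraMap P C)).Cotangent) :
    ∃ a : Fin c → q.ResidueField,
      z = ∑ k, a k ⊗ₜ[P] (RingHom.ker (algebraMap P C)).toCotangent (gen g hker k) := by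
  induction z using TensorProduct.induction_on with
  | zero => exact ⟨0, by simp⟩
  | tmul x t =>
    obtain ⟨b, rfl⟩ := exists_eq_sum_cot g hker t
    refine ⟨fun k => b k • x, ?_⟩
    rw [tmul_sum]
    exact Finset.sum_congr rfl fun k _ => by rw [tmul_smul, smul_tmul']
  | add z₁ z₂ h₁ h₂ =>
    obtain ⟨a₁, rfl⟩ := h₁
    obtain ⟨a₂, rfl⟩ := h₂
    refine ⟨a₁ + a₂, ?_⟩
    rw [← Finset.sum_add_distrib]
    exact Finset.sum_congr rfl fun k _ => by rw [Pi.add_apply, add_tmul]

omit [Algebra A C] [IsScalarTower A P C] in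
/-- image of `∑ aₖ ⊗ [gₖ]` in `κ ⊗[C] (C ⊗[P] Ω)` -/
lemma map_lTensor_sum {c : ℕ} (g : Fin c → P)
    (hker : RingHom.ker (algebraMap P C) = Ideal.span (Set.range g))
    (a : Fin c → q.ResidueField) :
    TensorProduct.mapOfCompatibleSMul C P q.ResidueField q.ResidueField (C ⊗[P] Ω[P⁄A])
      ((kerCotangentToTensor A P C).lTensor q.ResidueField
        (∑ k, a k ⊗ₜ[P] (RingHom.ker (algebraMap P C)).toCotangent (gen g hker k))) =
      ∑ k, a k • u (A := A) q g k := by
  rw [map_sum, map_sum]
  refine Finset.sum_congr rfl fun k _ => ?_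
  rw [LinearMap.lTensor_tmul, kerCotangentToTensor_toCotangent,
    TensorProduct.mapOfCompatibleSMul_tmul, u, TensorProduct.smul_tmul', smul_eq_mul, mul_one]
  rfl

omit [Algebra A C] [IsScalarTower A P C] in
theorem injective_lTensor_of_linearIndependent {c : ℕ} (g : Fin c → P)
    (hker : RingHom.ker (algebraMap P C) = Ideal.span (Set.range g))
    (hli : LinearIndependent q.ResidueField (u (A := A) q g)) :
    Function.Injective ((kerCotangentToTensor A P C).lTensor q.ResidueField) := by
  rw [injective_iff_map_eq_zero]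
  intro z hz
  obtain ⟨a, rfl⟩ := exists_eq_sum_tmul q g hker z
  have h2 := map_lTensor_sum (A := A) q g hker a
  rw [hz, map_zero] at h2
  have ha := Fintype.linearIndependent_iff.mp hli a h2.symm
  exact Finset.sum_eq_zero fun k _ => by rw [ha k, zero_tmul]

omit [Algebra A P] [Algebra A C] [IsScalarTower A P C] in
lemma exists_functional {c : ℕ} (g : Fin c → P) (hg : CAlgX.IsH1Regular g)
    (hker : RingHom.ker (algebraMap P C) = Ideal.span (Set.range g)) (k : Fin c) :
    ∃ ℓ : q.ResidueField ⊗[P] (RingHom.ker (algebraMap P C)).Cotangent →ₗ[P] q.ResidueField,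
      ∀ (a : q.ResidueField) (j : Fin c),
        ℓ (a ⊗ₜ[P] (RingHom.ker (algebraMap P C)).toCotangent (gen g hker j)) =
          if j = k then a else 0 := by
  classical
  let Ψ : (Fin c → P) →ₗ[P] (RingHom.ker (algebraMap P C)).Cotangent :=
    Fintype.linearCombination P (fun j => (RingHom.ker (algebraMap P C)).toCotangent (gen g hker j))
  have hΨ : Function.Surjective Ψ := by
    intro t
    obtain ⟨b, rfl⟩ := exists_eq_sum_cot g hker t
    exact ⟨b, by simp [Ψ, Fintype.linearCombination_apply]⟩
  let πk : (Fin c → P) →ₗ[P] q.ResidueField :=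
    (Algebra.linearMap P q.ResidueField) ∘ₗ (LinearMap.proj k)
  have hle : LinearMap.ker Ψ ≤ LinearMap.ker πk := by
    intro b hb
    rw [LinearMap.mem_ker] at hb ⊢
    have hmem : ∑ j, b j * g j ∈ RingHom.ker (algebraMap P C) := (RingHom.ker (algebraMap P C)).sum_mem fun j _ => (RingHom.ker (algebraMap P C)).mul_mem_left _ (gen g hker j).2
    have hΨb : Ψ b = (RingHom.ker (algebraMap P C)).toCotangent ⟨∑ j, b j * g j, hmem⟩ := by
      have : (⟨∑ j, b j * g j, hmem⟩ : RingHom.ker (algebraMap P C)) = ∑ j, b j • gen g hker j := by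
        apply Subtype.ext
        simp [gen]
      rw [this, map_sum]
      simp only [Ψ, Fintype.linearCombination_apply]
      exact Finset.sum_congr rfl fun j _ => (map_smul _ _ _).symm
    rw [hΨb, Ideal.toCotangent_eq_zero] at hb
    have h2 := coeff_mem_of_sum_mem_sq g hg b (by rw [← hker]; exact hb) k
    rw [← hker] at h2
    show algebraMap P q.ResidueField (b k) = 0
    rw [IsScalarTower.algebraMap_apply P C q.ResidueField, RingHom.mem_ker.mp h2, map_zero]
  let lk : (RingHom.ker (algebraMap P C)).Cotangent →ₗ[P] q.ResidueField :=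
    ((LinearMap.ker Ψ).liftQ πk hle) ∘ₗ (Ψ.quotKerEquivOfSurjective hΨ).symm.toLinearMap
  have hl : ∀ b, lk (Ψ b) = πk b := by
    intro b
    show (LinearMap.ker Ψ).liftQ πk hle ((Ψ.quotKerEquivOfSurjective hΨ).symm (Ψ b)) = _
    rw [← LinearMap.quotKerEquivOfSurjective_apply_mk Ψ hΨ b, LinearEquiv.symm_apply_apply,
      Submodule.liftQ_apply]
  refine ⟨TensorProduct.lift ((LinearMap.mul P q.ResidueField).compl₂ lk), fun a j => ?_⟩
  rw [TensorProduct.lift.tmul]
  show a * lk ((RingHom.ker (algebraMap P C)).toCotangent (gen g hker j)) = _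
  have hj : (RingHom.ker (algebraMap P C)).toCotangent (gen g hker j) = Ψ (Pi.single j 1) := by
    simp [Ψ, Fintype.linearCombination_apply, Pi.single_apply]
  rw [hj, hl]
  show a * algebraMap P q.ResidueField ((Pi.single j 1 : Fin c → P) k) = _
  rw [Pi.single_apply]
  by_cases hjk : j = k
  · subst hjk; simp
  · rw [if_neg (Ne.symm hjk), if_neg hjk, map_zero, mul_zero]

omit [Algebra A C] [IsScalarTower A P C] in
theorem linearIndependent_of_injective_lTensor {c : ℕ} (g : Fin c → P)
    (hg : CAlgX.IsH1Regular g) (hsurj : Function.Surjective (algebraMap P C))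
    (hker : RingHom.ker (algebraMap P C) = Ideal.span (Set.range g))
    (hinj : Function.Injective ((kerCotangentToTensor A P C).lTensor q.ResidueField)) :
    LinearIndependent q.ResidueField (u (A := A) q g) := by
  classical
  rw [Fintype.linearIndependent_iff]
  intro a ha k
  haveI : TensorProduct.CompatibleSMul P C q.ResidueField (C ⊗[P] Ω[P⁄A]) :=
    .of_algebraMap_surjective _ _ hsurj
  have hνinj : Function.Injective
      (TensorProduct.mapOfCompatibleSMul C P q.ResidueField q.ResidueField (C ⊗[P] Ω[P⁄A])) :=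
    (TensorProduct.equivOfCompatibleSMul C P q.ResidueField q.ResidueField
      (C ⊗[P] Ω[P⁄A])).injective
  have hz : (∑ k, a k ⊗ₜ[P] (RingHom.ker (algebraMap P C)).toCotangent (gen g hker k) :
      q.ResidueField ⊗[P] (RingHom.ker (algebraMap P C)).Cotangent) = 0 := by
    apply hinj
    rw [map_zero]
    apply hνinj
    rw [map_zero, map_lTensor_sum (A := A) q g hker a, ha]
  obtain ⟨ℓ, hℓ⟩ := exists_functional q g hg hker k
  have h3 := congrArg ℓ hz
  rw [map_zero, map_sum] at h3
  simp only [hℓ] at h3
  rwa [Finset.sum_ite_eq' Finset.univ k a, if_pos (Finset.mem_univ k)] at h3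

/-- Kähler differentials of a standard smooth algebra of relative dimension `n` are free of rank
`n` (copy of `H70.SmoothDiff.nonempty_kaehler_equiv`, to keep imports light). -/
theorem nonempty_kaehler_equiv' {R S : Type u} [CommRing R] [CommRing S] [Algebra R S] (n : ℕ)
    [Algebra.IsStandardSmoothOfRelativeDimension n R S] :
    Nonempty (Ω[S⁄R] ≃ₗ[S] (Fin n → S)) := by
  classical
  obtain ⟨ι, σ, _, _, P, e⟩ :=
    Algebra.IsStandardSmoothOfRelativeDimension.out (R := R) (S := S) (n := n)
  let e₀ : ((Set.range P.map)ᶜ : Set ι) ≃ Fin n :=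
    Finite.equivFinOfCardEq (by rw [Nat.card_coe_set_eq, Set.ncard_compl,
        Set.ncard_range_of_injective P.map_inj, ← e, Algebra.Presentation.dimension])
  haveI : Finite ((Set.range P.map)ᶜ : Set ι) := Finite.of_equiv _ e₀.symm
  exact ⟨P.basisKaehler.equivFun ≪≫ₗ LinearEquiv.funCongrLeft S S e₀.symm⟩

/-- exactness of `C^c → C ⊗[P] Ω[P/A] → Ω[C/A]` -/
lemma exact_linearCombination {c : ℕ} (g : Fin c → P)
    (hsurj : Function.Surjective (algebraMap P C))
    (hker : RingHom.ker (algebraMap P C) = Ideal.span (Set.range g)) :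
    Function.Exact
      (Fintype.linearCombination C (fun k => ((1 : C) ⊗ₜ[P] D A P (g k) : C ⊗[P] Ω[P⁄A])))
      (mapBaseChange A P C) := by
  intro x
  constructor
  · intro hx
    obtain ⟨t, rfl⟩ := (exact_kerCotangentToTensor_mapBaseChange A P C hsurj x).mp hx
    obtain ⟨b, rfl⟩ := exists_eq_sum_cot g hker t
    refine ⟨fun k => algebraMap P C (b k), ?_⟩
    rw [Fintype.linearCombination_apply, map_sum]
    refine Finset.sum_congr rfl fun k _ => ?_
    rw [map_smul, kerCotangentToTensor_toCotangent, algebraMap_smul]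
    rfl
  · rintro ⟨b, rfl⟩
    rw [Fintype.linearCombination_apply, map_sum]
    refine Finset.sum_eq_zero fun k _ => ?_
    rw [map_smul, mapBaseChange_tmul, one_smul, map_D, (RingHom.mem_ker.mp (gen g hker k).2 :
      algebraMap P C (g k) = 0), map_zero, smul_zero]

theorem finrank_add_finrank_span (n c : ℕ) [Algebra.IsStandardSmoothOfRelativeDimension n A P]
    (g : Fin c → P) (hsurj : Function.Surjective (algebraMap P C))
    (hker : RingHom.ker (algebraMap P C) = Ideal.span (Set.range g)) :
    Module.finrank q.ResidueField (q.ResidueField ⊗[C] Ω[C⁄A]) +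
      (Set.range (u (A := A) q g)).finrank q.ResidueField = n := by
  classical
  haveI : Nontrivial C := (algebraMap C q.ResidueField).domain_nontrivial
  haveI : Nontrivial P := (algebraMap P C).domain_nontrivial
  obtain ⟨φ⟩ := nonempty_kaehler_equiv' (R := A) (S := P) n
  haveI : Module.Free P Ω[P⁄A] := Module.Free.of_equiv φ.symm
  haveI : Module.Finite P Ω[P⁄A] := Module.Finite.equiv φ.symm
  have hn : Module.finrank P Ω[P⁄A] = n := by rw [φ.finrank_eq, Module.finrank_fin_fun]
  have hN : Module.finrank q.ResidueField (q.ResidueField ⊗[C] (C ⊗[P] Ω[P⁄A])) = n := by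
    rw [Module.finrank_baseChange, Module.finrank_baseChange, hn]
  set y : Fin c → C ⊗[P] Ω[P⁄A] := fun k => (1 : C) ⊗ₜ[P] D A P (g k) with hy
  have hex := exact_linearCombination (A := A) g hsurj hker
  have hsm := mapBaseChange_surjective A P C hsurj
  set H := (Fintype.linearCombination C y).baseChange q.ResidueField with hH
  set M := (mapBaseChange A P C).baseChange q.ResidueField with hM
  have hEx : Function.Exact H M := by
    rw [hH, hM, LinearMap.baseChange_eq_ltensor, LinearMap.baseChange_eq_ltensor]
    exact lTensor_exact q.ResidueField hex hsm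
  have hMs : Function.Surjective M := by
    rw [hM, LinearMap.baseChange_eq_ltensor]
    exact LinearMap.lTensor_surjective q.ResidueField hsm
  have h1 := M.finrank_range_add_finrank_ker
  rw [hN, LinearMap.range_eq_top.mpr hMs, finrank_top, LinearMap.exact_iff.mp hEx] at h1
  have hrange : LinearMap.range H = Submodule.span q.ResidueField (Set.range (u (A := A) q g)) := by
    let b := (Pi.basisFun C (Fin c)).baseChange q.ResidueField
    rw [LinearMap.range_eq_map, ← b.span_eq, Submodule.map_span, ← Set.range_comp]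
    congr 2
    funext k
    show H (b k) = u q g k
    rw [Module.Basis.baseChange_apply, hH, LinearMap.baseChange_tmul, Pi.basisFun_apply,
      Fintype.linearCombination_apply_single, one_smul]
    rfl
  rw [hrange] at h1
  exact h1

/-- **Jacobian criterion.** `A → P ↠ C`, `P` standard smooth of relative dimension `m + c`, kernel
generated by an `H₁`-regular sequence of length `c`: `C` is smooth over `A` at `q` iff the `m`-th
Fitting ideal of `Ω[C/A]` is not contained in `q`. -/
theorem isSmoothAt_iff_not_fitt_le (m c : ℕ)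
    [Algebra.IsStandardSmoothOfRelativeDimension (m + c) A P]
    (g : Fin c → P) (hg : CAlgX.IsH1Regular g) (hsurj : Function.Surjective (algebraMap P C))
    (hker : RingHom.ker (algebraMap P C) = Ideal.span (Set.range g)) :
    Algebra.IsSmoothAt A q ↔ ¬ Fitt.ideal C Ω[C⁄A] m ≤ q := by
  classical
  haveI : Algebra.IsStandardSmooth A P :=
    Algebra.IsStandardSmoothOfRelativeDimension.isStandardSmooth (m + c)
  haveI : Algebra.FormallySmooth A P := inferInstance
  haveI : Algebra.FiniteType A P := inferInstance
  haveI : Algebra.FiniteType A C :=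
    Algebra.FiniteType.of_surjective (IsScalarTower.toAlgHom A P C) hsurj
  haveI : Module.Finite C Ω[C⁄A] := inferInstance
  haveI : Module.Finite P (RingHom.ker (algebraMap P C)) := by
    rw [Module.Finite.iff_fg, hker]
    exact Submodule.fg_span (Set.finite_range g)
  haveI : Module.Finite P (RingHom.ker (algebraMap P C)).Cotangent :=
    Module.Finite.of_surjective _ (Ideal.toCotangent_surjective _)
  rw [Groth.Agent.H34.Fit.not_fittIdeal_le_iff_finrank_le Ω[C⁄A] m q]
  have hsum := finrank_add_finrank_span (A := A) q (m + c) c g hsurj hker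
  have hle := finrank_range_le_card (R := q.ResidueField) (u (A := A) q g)
  rw [Fintype.card_fin] at hle
  have h1 : Algebra.FormallySmooth A (Localization.AtPrime q) ↔
      Function.Injective ((kerCotangentToTensor A P C).lTensor q.ResidueField) :=
    (Groth.Agent.S2463.result (A := A) hsurj q).out 0 1
  show Algebra.FormallySmooth A (Localization.AtPrime q) ↔ _
  rw [h1]
  constructor
  · intro hinj
    have hli := linearIndependent_of_injective_lTensor (A := A) q g hg hsurj hker hinj
    have h2 := linearIndependent_iff_card_eq_finrank_span.mp hli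
    rw [Fintype.card_fin] at h2
    omega
  · intro hfr
    apply injective_lTensor_of_linearIndependent (A := A) q g hker
    rw [linearIndependent_iff_card_eq_finrank_span, Fintype.card_fin]
    omega

end Main



end Groth.Agent.H70.LciJac
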