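import Mathlib
import Groth.Agent.H70.NormalFibreEtale

/-!
# Open immersions into schemes with normal fibres
-/

set_option autoImplicit false
set_option linter.style.haveILetI false
universe u
open AlgebraicGeometry CategoryTheory CategoryTheory.Limits TopologicalSpace Topology IsLocalRing

namespace Groth.Agent.H70.NormalFibreOpenImm

open Groth.Agent.H70.LocalDimEtale

theorem main {X Y S : Scheme.{u}} (g : Y ⟶ S) (h : X ⟶ S)
    [LocallyOfFinitePresentation g] [LocallyOfFinitePresentation h] [Flat h]
    (hnorm : ∀ y : Y, IsDomain ((g.fiber (g.base y)).presheaf.stalk (g.asFiber y)) ∧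
      IsIntegrallyClosed ((g.fiber (g.base y)).presheaf.stalk (g.asFiber y)))
    (f : X ⟶ Y) (w : f ≫ g = h) :
    IsOpenImmersion f ↔
      (Mono f ∧ ∀ x : X, FlatMor.fibreDimAt h x = FlatMor.fibreDimAt g (f.base x)) := by
  constructor
  · intro hf
    refine ⟨inferInstance, fun x => ?_⟩
    exact (fibreDimAt_eq_of_etale_square g h f (𝟙 S) (by rw [Category.comp_id, w]) x).symm
  · rintro ⟨hm, hdim⟩
    haveI : FormallyUnramified f := inferInstance
    have hx : ∀ x : X, ∃ U : X.Opens, x ∈ U ∧ Etale (U.ι ≫ f) := by
      intro x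
      refine (Groth.Agent.H70.NormalFibreEtale.main g h f w x (Flat.stalkMap h x)
        (hnorm (f.base x))).mpr ⟨⟨⊤, trivial, inferInstance⟩, hdim x⟩
    choose U hxU hU using hx
    haveI : Etale f := by
      rw [IsZariskiLocalAtSource.iff_of_iSup_eq_top (P := @Etale) U]
      · exact hU
      · rw [eq_top_iff]
        intro x _
        exact Opens.mem_iSup.mpr ⟨x, hxU x⟩
    exact IsOpenImmersion.of_flat_of_mono f

end Groth.Agent.H70.NormalFibreOpenImm
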