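import Mathlib
import Groth.Agent.H8.FreeMod
import Groth.Agent.H39.PullTrack

set_option autoImplicit false
universe u
open CategoryTheory CategoryTheory.Limits AlgebraicGeometry

namespace Groth.Agent.H70.OmegaRankP4

open Groth.Agent.H8 in
/-- Sections of `O_X^d` over `W` are spanned by the standard basis sections. -/
theorem free_decomp {X : Scheme.{u}} (d : ℕ) (W : X.Opens) (y : Γ(FlatMod.freeMod X d, W)) :
    y = ∑ i, (show Γ(X, W) from (freeπ X d i).app W y) •
      (freeι X d i).app W (show Γ(Coh.structureModule X, W) from (1 : Γ(X, W))) := by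
  have h1 : y = ∑ i, (freeι X d i).app W ((freeπ X d i).app W y) :=
    ((sectionsFreeEquiv X d W).left_inv y).symm
  conv_lhs => rw [h1]
  refine Finset.sum_congr rfl fun i _ => ?_
  rw [← Scheme.Modules.Hom.app_smul]
  congr 1
  show (freeπ X d i).app W y = (show Γ(X, W) from (freeπ X d i).app W y) * (1 : Γ(X, W))
  rw [mul_one]

open Groth.Agent.H8 Groth.Agent.H39 in
/-- (P4) A free module `P ≅ O_X^d` has `d` global sections whose restrictions span the sections
over every open. -/
theorem exists_global_spanning {X : Scheme.{u}} {P : X.Modules} {d : ℕ}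
    (φ : P ≅ FlatMod.freeMod X d) :
    ∃ e : Fin d → Γ(P, ⊤), ∀ W : X.Opens,
      Submodule.span Γ(X, W)
        (Set.range fun i => P.presheaf.map (homOfLE (le_top : W ≤ ⊤)).op (e i)) = ⊤ := by
  refine ⟨fun i => φ.inv.app ⊤ ((freeι X d i).app ⊤
    (show Γ(Coh.structureModule X, ⊤) from (1 : Γ(X, ⊤)))), fun W => ?_⟩
  have hres : ∀ i, P.presheaf.map (homOfLE (le_top : W ≤ ⊤)).op (φ.inv.app ⊤ ((freeι X d i).app ⊤
      (show Γ(Coh.structureModule X, ⊤) from (1 : Γ(X, ⊤))))) =
      φ.inv.app W ((freeι X d i).app W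
        (show Γ(Coh.structureModule X, W) from (1 : Γ(X, W)))) := by
    intro i
    rw [← PullTrack.app_res φ.inv (le_top : W ≤ ⊤), ← PullTrack.app_res (freeι X d i) (le_top : W ≤ ⊤)]
    congr 2
    exact map_one (X.presheaf.map (homOfLE (le_top : W ≤ ⊤)).op).hom
  rw [eq_top_iff]
  intro x _
  have hx : x = φ.inv.app W (φ.hom.app W x) := by
    have := congrArg (fun ψ : P ⟶ P => ψ.app W x) φ.hom_inv_id
    exact this.symm
  rw [hx, free_decomp d W (φ.hom.app W x), map_sum]
  refine Submodule.sum_mem _ fun i _ => ?_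
  rw [Scheme.Modules.Hom.app_smul]
  refine Submodule.smul_mem _ _ (Submodule.subset_span ⟨i, ?_⟩)
  exact hres i

end Groth.Agent.H70.OmegaRankP4
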