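import Mathlib
import Groth.Prelude.Def_Pi1
import Groth.Agent.H38.GeomRedField
import Groth.Agent.H38.GeomRedDescent
import Groth.Agent.H63.GenericSmooth
import Groth.Agent.H49.SmoothFibre

set_option autoImplicit false
universe u
open CategoryTheory CategoryTheory.Limits AlgebraicGeometry

namespace Groth.Agent.H70.OmegaWedgeQ1

/-- (Q1) An integral scheme locally of finite type over a field `k` whose base change to an
algebraic closure is normal has a nonempty open subscheme smooth over `k`. -/
theorem exists_nonempty_smooth_open (k : Type u) [Field k] (X : Scheme.{u})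
    (pX : X ⟶ Spec (CommRingCat.of k)) [LocallyOfFiniteType pX] [IsIntegral X]
    (hgn : ∀ (K : Type u) [Field K] [Algebra k K] [IsAlgClosure k K],
      Pi1.IsNormalScheme (pullback pX (Spec.map (CommRingCat.ofHom (algebraMap k K))))) :
    ∃ V : X.Opens, (V : Set X).Nonempty ∧ Smooth (V.ι ≫ pX) := by
  -- base change to the algebraic closure is reduced
  have hn := hgn (AlgebraicClosure k)
  haveI hred : IsReduced (pullback pX (Spec.map (CommRingCat.ofHom
      (algebraMap k (AlgebraicClosure k))))) := by
    haveI : ∀ x, _root_.IsReduced ((pullback pX (Spec.map (CommRingCat.ofHom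
        (algebraMap k (AlgebraicClosure k))))).presheaf.stalk x) := fun x => by
      haveI := (hn x).1
      infer_instance
    exact isReduced_of_isReduced_stalk _
  haveI hgr' : GeometricallyReduced (pullback.snd pX (Spec.map (CommRingCat.ofHom
      (algebraMap k (AlgebraicClosure k))))) :=
    Groth.Agent.H38.GeomRedField.geomReduced_of_perfectField _
  haveI : Surjective (Spec.map (CommRingCat.ofHom (algebraMap k (AlgebraicClosure k)))) := by
    refine ⟨fun x => ?_⟩
    haveI : Subsingleton ↥(Spec (CommRingCat.of k)) :=
      inferInstanceAs (Subsingleton (PrimeSpectrum k))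
    haveI : Nonempty ↥(Spec (CommRingCat.of (AlgebraicClosure k))) :=
      inferInstanceAs (Nonempty (PrimeSpectrum (AlgebraicClosure k)))
    exact ⟨Classical.arbitrary _, Subsingleton.elim _ _⟩
  haveI hgr : GeometricallyReduced pX :=
    Groth.Agent.H38.GeomRedDescent.geometricallyReduced_of_isPullback_of_surjective
      (IsPullback.of_hasPullback pX (Spec.map (CommRingCat.ofHom
        (algebraMap k (AlgebraicClosure k))))) hgr'
  haveI : LocallyOfFinitePresentation pX := inferInstance
  have hξ : genericPoint X ∈ pX.smoothLocus :=
    Groth.Agent.H63.GenericSmooth.mem_smoothLocus_of_isField_stalk pX (genericPoint X)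
      (Field.toIsField X.functionField)
  refine ⟨pX.smoothLocus, ⟨_, hξ⟩, ?_⟩
  exact Groth.Agent.H49.SmoothFibre.smooth_comp_of_le_smoothLocus pX.smoothLocus.ι pX
    (fun z => z.2)

end Groth.Agent.H70.OmegaWedgeQ1
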