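import Mathlib
import Groth.Agent.H70.IntBirScheme
import Groth.Agent.H7.PullbackPoint

/-!
# Radicial at a point: fibre criterion and base change
-/

set_option autoImplicit false
set_option linter.style.haveILetI false
universe u
open AlgebraicGeometry CategoryTheory CategoryTheory.Limits TopologicalSpace IsLocalRing

namespace Groth.Agent.H70.RadicialFibre

open Groth.Agent.H70.IntBirScheme

theorem bijective_residueFieldMap_of_surjectiveOnStalks {A B : Scheme.{u}} (g : A ⟶ B)
    [SurjectiveOnStalks g] (t : A) : Function.Bijective (g.residueFieldMap t).hom := by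
  refine ⟨RingHom.injective _, ?_⟩
  have h1 := Scheme.residue_residueFieldMap g t
  have h2 : Function.Surjective (g.stalkMap t ≫ A.residue t).hom := by
    rw [CommRingCat.hom_comp, RingHom.coe_comp]
    exact (Scheme.residue_surjective _ t).comp (g.stalkMap_surjective t)
  rw [← h1] at h2
  rw [CommRingCat.hom_comp, RingHom.coe_comp] at h2
  exact Function.Surjective.of_comp h2

variable {X Y : Scheme.{u}}

theorem isRadicialAt_iff_universallyInjective_fiber (f : X ⟶ Y) (y : Y) :
    RadPt.IsRadicialAt f y ↔ UniversallyInjective (f.fiberToSpecResidueField y) := by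
  have key : UniversallyInjective (f.fiberToSpecResidueField y) ↔
      (Function.Injective (f.fiberToSpecResidueField y) ∧
        ∀ w, ((f.fiberToSpecResidueField y).residueFieldMap w).hom.IsPurelyInseparable) :=
    (tfae_universallyInjective (f.fiberToSpecResidueField y)).out 0 2
  rw [key]
  have hfac := f.fiber_fac y
  have hmem : ∀ w : f.fiber y, f (f.fiberι y w) = y := fun w => by
    have : f.fiberι y w ∈ Set.range (f.fiberι y) := ⟨w, rfl⟩
    rw [f.range_fiberι y] at this
    exact this
  have hex : ∀ x : X, f x = y → ∃ w : f.fiber y, f.fiberι y w = x := fun x hx => by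
    have : x ∈ Set.range (f.fiberι y) := by rw [f.range_fiberι y]; exact hx
    exact this
  have hinjι : Function.Injective (f.fiberι y) := (f.fiberι y).isEmbedding.injective
  have hc : ∀ w : f.fiber y, Function.Bijective
      ((Y.fromSpecResidueField y).residueFieldMap (f.fiberToSpecResidueField y w)).hom :=
    fun w => bijective_residueFieldMap_of_surjectiveOnStalks _ _
  have hb : ∀ w : f.fiber y, Function.Bijective ((f.fiberι y).residueFieldMap w).hom :=
    fun w => Groth.Agent.H7.bijective_residueFieldMap_fst (f := f)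
      (g := Y.fromSpecResidueField y) w (hc w)
  constructor
  · rintro ⟨ha, hpi⟩
    refine ⟨fun w w' _ => hinjι (ha _ _ (hmem w) (hmem w')), fun w => ?_⟩
    exact isPurelyInseparable_of_square' hfac w (hb w) (hpi _ (hmem w))
  · rintro ⟨hinj, hpi⟩
    refine ⟨?_, ?_⟩
    · intro x x' hx hx'
      obtain ⟨w, rfl⟩ := hex x hx
      obtain ⟨w', rfl⟩ := hex x' hx'
      have : Subsingleton ↥(Spec (Y.residueField y)) :=
        inferInstanceAs (Subsingleton (PrimeSpectrum (Y.residueField y)))
      rw [hinj (Subsingleton.elim (f.fiberToSpecResidueField y w) (f.fiberToSpecResidueField y w'))]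
    · intro x hx
      obtain ⟨w, rfl⟩ := hex x hx
      exact isPurelyInseparable_of_square hfac w (hc w) (hpi w)

variable {X' Y' : Scheme.{u}} {f : X ⟶ Y} {h : Y' ⟶ Y} {f' : X' ⟶ Y'} {h' : X' ⟶ X}

theorem exists_isPullback_fiber (sq : IsPullback h' f' f h) (y' : Y') :
    ∃ F : f'.fiber y' ⟶ f.fiber (h y'),
      IsPullback F (f'.fiberToSpecResidueField y') (f.fiberToSpecResidueField (h y'))
        (Spec.map (h.residueFieldMap y')) := by
  have right : IsPullback (f.fiberι (h y')) (f.fiberToSpecResidueField (h y')) f
      (Y.fromSpecResidueField (h y')) := IsPullback.of_hasPullback _ _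
  have left' : IsPullback (f'.fiberι y') (f'.fiberToSpecResidueField y') f'
      (Y'.fromSpecResidueField y') := IsPullback.of_hasPullback _ _
  have big := left'.paste_horiz sq
  have hres : Y'.fromSpecResidueField y' ≫ h =
      Spec.map (h.residueFieldMap y') ≫ Y.fromSpecResidueField (h y') :=
    (Scheme.Hom.SpecMap_residueFieldMap_fromSpecResidueField h y').symm
  rw [hres] at big
  let F := right.lift (f'.fiberι y' ≫ h')
    (f'.fiberToSpecResidueField y' ≫ Spec.map (h.residueFieldMap y')) (by rw [big.w, Category.assoc])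
  have hF1 : F ≫ f.fiberι (h y') = f'.fiberι y' ≫ h' := right.lift_fst _ _ _
  have hF2 : F ≫ f.fiberToSpecResidueField (h y') =
      f'.fiberToSpecResidueField y' ≫ Spec.map (h.residueFieldMap y') := right.lift_snd _ _ _
  refine ⟨F, IsPullback.of_right ?_ hF2 right⟩
  rw [hF1]
  exact big

theorem surjective_flat_quasiCompact_SpecMap_field {K L : CommRingCat.{u}} (hK : IsField K)
    (hL : IsField L) (c : K ⟶ L) :
    (@Surjective ⊓ @Flat ⊓ @QuasiCompact : MorphismProperty Scheme.{u}) (Spec.map c) := by
  letI := hK.toField
  letI := hL.toField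
  refine ⟨⟨?_, ?_⟩, inferInstance⟩
  · refine ⟨fun a => ?_⟩
    have : Subsingleton ↥(Spec K) := inferInstanceAs (Subsingleton (PrimeSpectrum K))
    have : Nonempty ↥(Spec L) := inferInstanceAs (Nonempty (PrimeSpectrum L))
    obtain ⟨b⟩ := this
    exact ⟨b, Subsingleton.elim _ _⟩
  · show Flat (Spec.map c)
    rw [Flat.SpecMap_iff]
    letI := c.hom.toAlgebra
    show Module.Flat K L
    infer_instance

theorem isRadicialAt_iff_of_isPullback (sq : IsPullback h' f' f h) (y' : Y') :
    RadPt.IsRadicialAt f (h y') ↔ RadPt.IsRadicialAt f' y' := by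
  rw [isRadicialAt_iff_universallyInjective_fiber, isRadicialAt_iff_universallyInjective_fiber]
  obtain ⟨F, hF⟩ := exists_isPullback_fiber sq y'
  have hc := surjective_flat_quasiCompact_SpecMap_field (Field.toIsField _) (Field.toIsField _)
    (h.residueFieldMap y')
  exact (MorphismProperty.iff_of_isPullback (P := @UniversallyInjective)
    (Q := @Surjective ⊓ @Flat ⊓ @QuasiCompact) hF.flip hc).symm

end Groth.Agent.H70.RadicialFibre
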