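import Mathlib
import Groth.Agent.S0341
import Groth.Agent.S0342
import Groth.Agent.S2082
import Groth.Agent.S4991
import Groth.Agent.H71.FlatRegular
import Groth.Agent.H29.FiberStalkAt
import Groth.Agent.H49.SmoothFibre
import Groth.Agent.H70.FibreJac
import Groth.Agent.H8.FreeMod
import Groth.Agent.H39.DerFin

/-!
# Flatness over a regular base from a regular fibre and the dimension formula
-/

set_option autoImplicit false
set_option linter.style.haveILetI false
universe u
open AlgebraicGeometry CategoryTheory CategoryTheory.Limits IsLocalRing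

namespace Groth.Agent.H70.RegBaseFlat

/-- `R` regular local, `B` Noetherian local, `B/m_R B` regular and the dimension formula: then `B`
is regular. -/
theorem regular_of_regular_fibre_of_dim {R B : Type u} [CommRing R] [CommRing B]
    [IsRegularLocalRing R] [IsLocalRing B] [IsNoetherianRing B] [Algebra R B]
    [IsLocalHom (algebraMap R B)]
    [IsRegularLocalRing (B ⧸ (maximalIdeal R).map (algebraMap R B))]
    (hdim : ringKrullDim B = ringKrullDim R +
      ringKrullDim (B ⧸ (maximalIdeal R).map (algebraMap R B))) : IsRegularLocalRing B := by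
  apply IsRegularLocalRing.of_spanFinrank_maximalIdeal_le
  have hIle : (maximalIdeal R).map (algebraMap R B) ≤ maximalIdeal B :=
    IsLocalRing.map_maximalIdeal_le (algebraMap R B)
  have h0 := Groth.Agent.H71.FR.spanFinrank_maximalIdeal_le_add B _ hIle
  have h1 : ((maximalIdeal R).map (algebraMap R B)).spanFinrank ≤
      (maximalIdeal R).spanFinrank :=
    Ideal.spanFinrank_map_le_of_fg _ (IsNoetherian.noetherian _)
  rw [hdim, ← (isRegularLocalRing_iff R).mp inferInstance,
    ← (isRegularLocalRing_iff (B ⧸ (maximalIdeal R).map (algebraMap R B))).mp inferInstance]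
  exact_mod_cast h0.trans (Nat.add_le_add_right h1 _)

/-- Flatness over a regular local base from a regular closed fibre and the dimension formula. -/
theorem flat_of_regular_fibre_of_dim {R B : Type u} [CommRing R] [CommRing B]
    [IsRegularLocalRing R] [IsLocalRing B] [IsNoetherianRing B] [Algebra R B]
    [IsLocalHom (algebraMap R B)]
    [IsRegularLocalRing (B ⧸ (maximalIdeal R).map (algebraMap R B))]
    (hdim : ringKrullDim B = ringKrullDim R +
      ringKrullDim (B ⧸ (maximalIdeal R).map (algebraMap R B))) : Module.Flat R B := by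
  haveI := regular_of_regular_fibre_of_dim hdim
  haveI := Groth.Agent.S0342.result B
  haveI := Groth.Agent.S0341.result B
  exact Groth.Agent.S2082.result hdim

/-- Scheme-level: regular base stalk, regular fibre stalk and the dimension formula give flatness
of the stalk map. -/
theorem flat_stalkMap_of_regular {X S : Scheme.{u}} (f : X ⟶ S) [IsLocallyNoetherian S]
    [LocallyOfFiniteType f] (x : X)
    (hreg : IsRegularLocalRing (S.presheaf.stalk (f x)))
    (hfib : IsRegularLocalRing ((f.fiber (f x)).presheaf.stalk (f.asFiber x)))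
    (hdim : ringKrullDim (X.presheaf.stalk x) =
      ringKrullDim ((f.fiber (f x)).presheaf.stalk (f.asFiber x)) +
        ringKrullDim (S.presheaf.stalk (f x))) :
    (f.stalkMap x).hom.Flat := by
  haveI : IsLocallyNoetherian X := LocallyOfFiniteType.isLocallyNoetherian f
  letI : Algebra (S.presheaf.stalk (f x)) (X.presheaf.stalk x) := (f.stalkMap x).hom.toAlgebra
  haveI : IsLocalHom (algebraMap (S.presheaf.stalk (f x)) (X.presheaf.stalk x)) :=
    inferInstanceAs (IsLocalHom (f.stalkMap x).hom)
  obtain ⟨e⟩ := Groth.Agent.H29.FiberStalkAt.nonempty_fiberStalkEquiv f x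
  haveI : IsRegularLocalRing (X.presheaf.stalk x ⧸
      (maximalIdeal (S.presheaf.stalk (f x))).map
        (algebraMap (S.presheaf.stalk (f x)) (X.presheaf.stalk x))) :=
    IsRegularLocalRing.of_ringEquiv e.symm
  have hd : ringKrullDim (X.presheaf.stalk x) = ringKrullDim (S.presheaf.stalk (f x)) +
      ringKrullDim (X.presheaf.stalk x ⧸ (maximalIdeal (S.presheaf.stalk (f x))).map
        (algebraMap (S.presheaf.stalk (f x)) (X.presheaf.stalk x))) := by
    rw [hdim, add_comm]
    congr 1
    exact (ringKrullDim_eq_of_ringEquiv e).symm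
  exact flat_of_regular_fibre_of_dim hd

/-- A point of the smooth locus of a scheme locally of finite type over a field has a regular
local ring. -/
theorem regular_stalk_of_mem_smoothLocus (K : Type u) [Field K] {F : Scheme.{u}}
    (p : F ⟶ Spec (CommRingCat.of K)) [LocallyOfFinitePresentation p] (z : F)
    (hz : z ∈ p.smoothLocus) : IsRegularLocalRing (F.presheaf.stalk z) := by
  haveI : LocallyOfFiniteType p := inferInstance
  have hsm : Smooth (p.smoothLocus.ι ≫ p) :=
    Groth.Agent.H49.SmoothFibre.smooth_comp_of_le_smoothLocus p.smoothLocus.ι p (fun w => w.2)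
  rw [Groth.Agent.S4991.result p z ⟨p.smoothLocus, hz, hsm⟩]
  have hpt : p.base z = IsLocalRing.closedPoint K := Subsingleton.elim _ _
  rw [hpt]
  exact IsRegularLocalRing.of_ringEquiv
    (stalkClosedPointIso (CommRingCat.of K)).commRingCatIsoToRingEquiv.symm

/-- If a sheaf of differentials is free near `x` of rank the fibre dimension at `x`, the fibre is
smooth at `x`. -/
theorem asFiber_mem_smoothLocus_of_free {X Y : Scheme.{u}} (f : X ⟶ Y)
    [LocallyOfFinitePresentation f] (Ω' : X.Modules) (d : OmegaSh.Der f Ω')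
    (hd : OmegaSh.IsUniversal d) (x : X)
    [LocallyOfFinitePresentation (f.fiberToSpecResidueField (f x))]
    (U : X.Opens) (n : ℕ) (hxU : x ∈ U)
    (eΩ : Ω'.restrict U.ι ≅ FlatMod.freeMod (↑U) n)
    (hdim : FlatMor.fibreDimAt f x = (n : WithBot ℕ∞)) :
    f.asFiber x ∈ (f.fiberToSpecResidueField (f x)).smoothLocus := by
  haveI := Groth.Agent.H39.DerFin.isQuasicoherent_of_isUniversal f hd
  obtain ⟨_, ⟨T, hT, rfl⟩, hsT, -⟩ :=
    Y.isBasis_affineOpens.exists_subset_of_mem_open (Set.mem_univ (f x)) isOpen_univ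
  obtain ⟨_, ⟨W, hW, rfl⟩, hxW, hWsub⟩ :=
    X.isBasis_affineOpens.exists_subset_of_mem_open
      (show x ∈ ((f ⁻¹ᵁ T) ⊓ U : X.Opens) from ⟨hsT, hxU⟩) ((f ⁻¹ᵁ T) ⊓ U).2
  have hWT : W ≤ f ⁻¹ᵁ T := fun w hw => (hWsub hw).1
  have hWU : W ≤ U := fun w hw => (hWsub hw).2
  obtain ⟨φ⟩ := Groth.Agent.H8.nonempty_sections_equiv_of_le Ω' eΩ hWU
  obtain ⟨ψ⟩ := Groth.Agent.H39.DerFin.nonempty_sections_linearEquiv_kaehler f hd hT hW hWT
  exact Groth.Agent.H70.FibreJac.asFiber_mem_smoothLocus f x T hT W hW hWT hxW n
    ⟨ψ.symm ≪≫ₗ φ⟩ (le_of_eq hdim.symm)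

end Groth.Agent.H70.RegBaseFlat
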