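import Mathlib

/-!
# Regular immersions and smoothness: ring-level lemmas

* `inf_mul_le_of_regular`: an ideal-theoretic consequence of regularity of a sequence.
* `formallySmooth_of_regular`: if `C` is a local algebra essentially of finite presentation over `A`,
  `J` is generated by a regular sequence and `C ⧸ J` is formally smooth over `A`, then so is `C`.
-/

set_option autoImplicit false
set_option linter.style.haveILetI false
universe u

namespace Groth.Agent.H70.RegImmSmooth

open TensorProduct KaehlerDifferential IsLocalRing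

/-- If `ts` is (weakly) regular modulo `K` and lies in `n`, then `K ∩ n(K + (ts)) ⊆ nK`. -/
theorem inf_mul_le_of_regular {P : Type*} [CommRing P] (K n : Ideal P) (ts : List P)
    (hts : ∀ t ∈ ts, t ∈ n)
    (hreg : ∀ (i : ℕ) (hi : i < ts.length) (b : P),
      ts[i] * b ∈ K ⊔ Ideal.ofList (ts.take i) → b ∈ K ⊔ Ideal.ofList (ts.take i)) :
    ∀ i ≤ ts.length, K ⊓ (n * (K ⊔ Ideal.ofList (ts.take i))) ≤ n * K := by
  intro i
  induction i with
  | zero =>
    intro _
    simp only [List.take_zero, Ideal.ofList_nil, sup_bot_eq]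
    exact inf_le_right
  | succ i ih =>
    intro hi
    have hi' : i < ts.length := hi
    rintro k ⟨hkK, hk⟩
    have htake : Ideal.ofList (ts.take (i + 1)) =
        Ideal.ofList (ts.take i) ⊔ Ideal.span {ts[i]} := by
      rw [List.take_succ_eq_append_getElem hi', Ideal.ofList_append, Ideal.ofList_singleton]
    have hk' : k ∈ n * (K ⊔ Ideal.ofList (ts.take i)) ⊔ n * Ideal.span {ts[i]} := by
      have := hk
      simp only [SetLike.mem_coe] at this
      rw [htake, ← sup_assoc, Ideal.mul_sup] at this
      exact this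
    obtain ⟨y, hy, z, hz, rfl⟩ := Submodule.mem_sup.mp hk'
    obtain ⟨b, hb, rfl⟩ := Ideal.mem_mul_span_singleton.mp hz
    have hKi : K ≤ K ⊔ Ideal.ofList (ts.take i) := le_sup_left
    have hz' : ts[i] * b ∈ K ⊔ Ideal.ofList (ts.take i) := by
      have e : ts[i] * b = (y + b * ts[i]) - y := by ring
      rw [e]
      exact Ideal.sub_mem _ (hKi hkK) (Ideal.mul_le_right hy)
    have hbK := hreg i hi' b hz'
    have h2 : y + b * ts[i] ∈ n * (K ⊔ Ideal.ofList (ts.take i)) := by
      refine Ideal.add_mem _ hy ?_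
      rw [mul_comm b]
      exact Ideal.mul_mem_mul (hts _ (List.getElem_mem hi')) hbK
    exact ih (le_of_lt hi') ⟨hkK, h2⟩

/-- For a surjective `P → κ` with kernel `n`: `1 ⊗ m = 0` in `κ ⊗ M` iff `m ∈ nM`. -/
theorem one_tmul_eq_zero_iff {P κ : Type*} [CommRing P] [CommRing κ] [Algebra P κ]
    (hs : Function.Surjective (algebraMap P κ)) (M : Type*) [AddCommGroup M] [Module P M]
    (m : M) :
    (1 : κ) ⊗ₜ[P] m = 0 ↔ m ∈ (RingHom.ker (algebraMap P κ)) • (⊤ : Submodule P M) := by
  have hs' : Function.Surjective (Algebra.ofId P κ) := hs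
  have hn : RingHom.ker (Algebra.ofId P κ) = RingHom.ker (algebraMap P κ) := by
    ext x; simp [RingHom.mem_ker, Algebra.ofId_apply]
  rw [← hn]
  let e : (P ⧸ RingHom.ker (Algebra.ofId P κ)) ≃ₐ[P] κ :=
    Ideal.quotientKerAlgEquivOfSurjective hs'
  let E : κ ⊗[P] M ≃ₗ[P] M ⧸ (RingHom.ker (Algebra.ofId P κ) • ⊤ : Submodule P M) :=
    (TensorProduct.congr e.symm.toLinearEquiv (LinearEquiv.refl P M)) ≪≫ₗ
      TensorProduct.quotTensorEquivQuotSMul M (RingHom.ker (Algebra.ofId P κ))
  have hE : E (1 ⊗ₜ m) = Submodule.Quotient.mk m := by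
    simp only [E, LinearEquiv.trans_apply, TensorProduct.congr_tmul, LinearEquiv.refl_apply,
      AlgEquiv.toLinearEquiv_apply, map_one]
    rw [← map_one (Ideal.Quotient.mk _), TensorProduct.quotTensorEquivQuotSMul_mk_tmul, one_smul]
  rw [← E.map_eq_zero_iff, hE, Submodule.Quotient.mk_eq_zero]

/-- A localization of a finitely presented algebra is a quotient, by a finitely generated ideal, of
a formally smooth algebra with finite free differentials. -/
theorem exists_presentation (A B C : Type u) [CommRing A] [CommRing B] [CommRing C]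
    [Algebra A B] [Algebra B C] [Algebra A C] [IsScalarTower A B C]
    [Algebra.FinitePresentation A B] (M : Submonoid B) [IsLocalization M C] :
    ∃ (P : Type u) (_ : CommRing P) (_ : Algebra A P) (_ : Algebra P C)
      (_ : IsScalarTower A P C), Algebra.FormallySmooth A P ∧ Module.Free P Ω[P⁄A] ∧
        Module.Finite P Ω[P⁄A] ∧ Function.Surjective (algebraMap P C) ∧
        (RingHom.ker (algebraMap P C)).FG := by
  obtain ⟨n, f₀, hf₀⟩ := Algebra.FiniteType.iff_quotient_mvPolynomial''.mp
    (inferInstance : Algebra.FiniteType A B)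
  let M' := M.comap f₀
  let P' := Localization M'
  let fP : P' →ₐ[A] C := IsLocalization.liftAlgHom (M := M')
      (f := (IsScalarTower.toAlgHom A B C).comp f₀) fun x ↦ by
    simpa using IsLocalization.map_units (M := M) _ ⟨f₀ x.1, x.2⟩
  have hf₁ : Function.Surjective fP := by
    intro x
    obtain ⟨x, ⟨s, hs⟩, rfl⟩ := IsLocalization.exists_mk'_eq M x
    obtain ⟨x, rfl⟩ := hf₀ x
    obtain ⟨s, rfl⟩ := hf₀ s
    refine ⟨IsLocalization.mk' (M := M') _ x ⟨s, hs⟩, ?_⟩
    simp [fP, IsLocalization.lift_mk', Units.mul_inv_eq_iff_eq_mul, IsUnit.liftRight]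
  have hfP : (RingHom.ker fP).FG := by
    have := Algebra.FinitePresentation.ker_fG_of_surjective _ hf₀
    convert! this.map (algebraMap _ P')
    refine le_antisymm ?_ (Ideal.map_le_iff_le_comap.mpr fun x hx ↦ by simp_all [fP])
    intro x hx
    obtain ⟨x, s, rfl⟩ := IsLocalization.exists_mk'_eq M' x
    obtain ⟨a, ha, e⟩ : ∃ a ∈ M, a * f₀ x = 0 := by
      simpa [fP, IsLocalization.lift_mk', IsLocalization.map_eq_zero_iff M] using hx
    obtain ⟨a, rfl⟩ := hf₀ a
    rw [IsLocalization.mk'_mem_map_algebraMap_iff]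
    exact ⟨a, ha, by simpa⟩
  letI : Algebra P' C := fP.toRingHom.toAlgebra
  haveI : IsScalarTower A P' C := IsScalarTower.of_algebraMap_eq' fP.comp_algebraMap.symm
  haveI : Algebra.FormallyEtale (MvPolynomial (Fin n) A) P' := .of_isLocalization M'
  haveI : Algebra.FormallySmooth A P' := .comp _ (MvPolynomial (Fin n) A) _
  haveI : Module.Free P' Ω[P'⁄A] :=
    .of_equiv (KaehlerDifferential.tensorKaehlerEquivOfFormallyEtale A (MvPolynomial (Fin n) A) P')
  haveI : Module.Finite P' Ω[P'⁄A] := by
    have e := KaehlerDifferential.tensorKaehlerEquivOfFormallyEtale A (MvPolynomial (Fin n) A) P'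
    exact Module.Finite.of_surjective e.toLinearMap e.surjective
  exact ⟨P', inferInstance, inferInstance, inferInstance, inferInstance, inferInstance,
    inferInstance, inferInstance, hf₁, hfP⟩

theorem mem_smul_top_subtype {P : Type*} [CommRing P] (n N : Ideal P) (x : N) :
    x ∈ n • (⊤ : Submodule P N) ↔ (x : P) ∈ n * N := by
  have h : (n • (⊤ : Submodule P N)).map N.subtype = n * N := by
    rw [Submodule.map_smul'', Submodule.map_top, Submodule.range_subtype]
    rfl
  rw [← h]
  constructor
  · intro hx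
    exact ⟨x, hx, rfl⟩
  · rintro ⟨y, hy, hyx⟩
    have : y = x := Subtype.ext hyx
    exact this ▸ hy

set_option maxHeartbeats 800000 in
/-- If `C` is a local ring essentially of finite presentation over `A`, `rs` is a regular sequence
of `C` and `C ⧸ (rs)` is formally smooth over `A`, then `C` is formally smooth over `A`. -/
theorem formallySmooth_of_regular (A B C : Type u) [CommRing A] [CommRing B] [CommRing C]
    [Algebra A B] [Algebra B C] [Algebra A C] [IsScalarTower A B C]
    [Algebra.FinitePresentation A B] (M : Submonoid B) [IsLocalization M C] [IsLocalRing C]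
    (rs : List C) (hreg : RingTheory.Sequence.IsRegular C rs)
    [Algebra.FormallySmooth A (C ⧸ Ideal.ofList rs)] : Algebra.FormallySmooth A C := by
  obtain ⟨P, _, _, _, _, hsm, hfree, hfin, hsurj, hfg⟩ := exists_presentation A B C M
  obtain ⟨ts, hts⟩ := (List.map_surjective_iff.mpr hsurj) rs
  set J := Ideal.ofList rs with hJdef
  have hJ : J ≠ ⊤ := by
    intro h
    have := hreg.top_ne_smul
    rw [← hJdef, h, Ideal.smul_eq_mul, Ideal.top_mul] at this
    exact this rfl
  haveI : Nontrivial (C ⧸ J) := Ideal.Quotient.nontrivial_iff.mpr hJ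
  haveI : IsLocalRing (C ⧸ J) :=
    IsLocalRing.of_surjective' (Ideal.Quotient.mk J) Ideal.Quotient.mk_surjective
  let κ := ResidueField (C ⧸ J)
  let φ : P →+* C := algebraMap P C
  have hlen : ts.length = rs.length := by rw [← hts, List.length_map]
  set K := RingHom.ker (algebraMap P C) with hK
  -- membership in the ideals generated by initial segments
  have hcomap : ∀ (l : List P) (b : P), φ b ∈ Ideal.ofList (l.map φ) ↔ b ∈ K ⊔ Ideal.ofList l := by
    intro l b
    rw [← Ideal.map_ofList, ← Ideal.mem_comap, Ideal.comap_map_of_surjective φ hsurj, sup_comm,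
      ← RingHom.ker_eq_comap_bot]
  have hJle : J ≤ maximalIdeal C := le_maximalIdeal hJ
  have hκsurj : Function.Surjective (algebraMap P κ) := by
    rw [IsScalarTower.algebraMap_eq P (C ⧸ J) κ, IsScalarTower.algebraMap_eq P C (C ⧸ J)]
    exact (residue_surjective).comp (Ideal.Quotient.mk_surjective.comp hsurj)
  set n := RingHom.ker (algebraMap P κ) with hn
  have hmkJ : ∀ c : C, c ∈ J → algebraMap C κ c = 0 := by
    intro c hc
    rw [IsScalarTower.algebraMap_apply C (C ⧸ J) κ, Ideal.Quotient.algebraMap_eq,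
      Ideal.Quotient.eq_zero_iff_mem.mpr hc, map_zero]
  have htsn : ∀ t ∈ ts, t ∈ n := by
    intro t ht
    rw [hn, RingHom.mem_ker, IsScalarTower.algebraMap_apply P C κ]
    apply hmkJ
    have : φ t ∈ rs := by rw [← hts]; exact List.mem_map_of_mem ht
    exact Ideal.subset_span this
  have hregP : ∀ (i : ℕ) (hi : i < ts.length) (b : P),
      ts[i] * b ∈ K ⊔ Ideal.ofList (ts.take i) → b ∈ K ⊔ Ideal.ofList (ts.take i) := by
    intro i hi b hb
    have hi' : i < rs.length := hlen ▸ hi
    have h1 := hreg.toIsWeaklyRegular.regular_mod_prev i hi'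
    rw [← hcomap] at hb ⊢
    have htk : (ts.take i).map φ = rs.take i := by
      rw [List.map_take]
      exact congrArg _ hts
    rw [htk] at hb ⊢
    have hrsi : rs[i] = φ ts[i] := by
      have : ∀ (l : List C) (hl : List.map φ ts = l) (h : i < l.length), l[i] = φ ts[i] := by
        intro l hl h
        subst hl
        exact List.getElem_map _
      exact this rs hts hi'
    rw [map_mul, ← hrsi] at hb
    have h2 : rs[i] • (Submodule.Quotient.mk (φ b) :
        C ⧸ (Ideal.ofList (rs.take i) • ⊤ : Submodule C C)) = 0 := by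
      rw [← Submodule.Quotient.mk_smul, Submodule.Quotient.mk_eq_zero]
      simp only [smul_eq_mul, Ideal.mul_top]
      exact hb
    have h3 := (isSMulRegular_iff_right_eq_zero_of_smul.mp h1) _ h2
    rw [Submodule.Quotient.mk_eq_zero] at h3
    simpa only [smul_eq_mul, Ideal.mul_top] using h3
  have hA1 := inf_mul_le_of_regular K n ts htsn hregP ts.length le_rfl
  rw [List.take_length] at hA1
  -- the kernel of `P → C ⧸ J`
  have hKD : RingHom.ker (algebraMap P (C ⧸ J)) = K ⊔ Ideal.ofList ts := by
    ext b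
    rw [RingHom.mem_ker, IsScalarTower.algebraMap_apply P C (C ⧸ J), Ideal.Quotient.algebraMap_eq,
      Ideal.Quotient.eq_zero_iff_mem, ← hcomap, hts]
  have hle : K ≤ RingHom.ker (algebraMap P (C ⧸ J)) := hKD ▸ le_sup_left
  have h₁' : Function.Surjective (algebraMap P (C ⧸ J)) := by
    rw [IsScalarTower.algebraMap_eq P C (C ⧸ J)]
    exact Ideal.Quotient.mk_surjective.comp hsurj
  have h₂' : (RingHom.ker (algebraMap P (C ⧸ J))).FG := by
    rw [hKD]
    exact Submodule.FG.sup hfg (Submodule.fg_span (List.finite_toSet ts))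
  have h₃' : maximalIdeal (C ⧸ J) ≤ RingHom.ker (algebraMap (C ⧸ J) κ) := by
    intro x hx
    rw [RingHom.mem_ker]
    exact (residue_eq_zero_iff x).mpr hx
  have h₃ : maximalIdeal C ≤ RingHom.ker (algebraMap C κ) := by
    intro x hx
    rw [RingHom.mem_ker, IsScalarTower.algebraMap_apply C (C ⧸ J) κ, Ideal.Quotient.algebraMap_eq]
    refine (residue_eq_zero_iff _).mpr ?_
    have hmax : ((maximalIdeal (C ⧸ J)).comap (Ideal.Quotient.mk J)).IsMaximal :=
      Ideal.comap_isMaximal_of_surjective _ Ideal.Quotient.mk_surjective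
    have := IsLocalRing.eq_maximalIdeal hmax
    have hx' : x ∈ (maximalIdeal (C ⧸ J)).comap (Ideal.Quotient.mk J) := this ▸ hx
    exact hx'
  have hcrit1 := Algebra.FormallySmooth.iff_injective_cotangentComplexBaseChange
    (R := A) (S := C ⧸ J) P κ h₁' h₂' h₃'
  have hcrit2 := Algebra.FormallySmooth.iff_injective_cotangentComplexBaseChange
    (R := A) (S := C) P κ hsurj hfg h₃
  rw [hcrit2]
  have hinjD := hcrit1.mp inferInstance
  let incl : ↥K →ₗ[P] ↥(RingHom.ker (algebraMap P (C ⧸ J))) := Submodule.inclusion hle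
  have hfact : cotangentComplexBaseChange A C P κ =
      (cotangentComplexBaseChange A (C ⧸ J) P κ) ∘ₗ (incl.baseChange κ) := by
    apply LinearMap.ext
    intro x
    induction x using TensorProduct.induction_on with
    | zero => simp
    | add x y hx hy => rw [map_add, map_add, hx, hy]
    | tmul a b =>
      rw [LinearMap.comp_apply, LinearMap.baseChange_tmul]
      rfl
  rw [hfact]
  refine hinjD.comp ?_
  rw [injective_iff_map_eq_zero]
  intro x hx
  obtain ⟨k, rfl⟩ := TensorProduct.mk_surjective P (↥K) κ hκsurj x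
  rw [TensorProduct.mk_apply] at hx ⊢
  rw [LinearMap.baseChange_tmul, one_tmul_eq_zero_iff hκsurj, mem_smul_top_subtype] at hx
  rw [one_tmul_eq_zero_iff hκsurj, mem_smul_top_subtype]
  apply hA1
  refine ⟨k.2, ?_⟩
  rw [← hKD]
  exact hx

end Groth.Agent.H70.RegImmSmooth
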