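import Mathlib
import Groth.Agent.H9.RegLocalSeq
import Groth.Agent.H57.RegFlat3

/-!
# Regular immersions and smoothness: flat local rings with regular fibres

If `C` and `C ⧸ J` are flat over the local ring `R` with regular closed fibres, then `J` is
generated by a regular sequence.
-/

set_option autoImplicit false
set_option linter.style.haveILetI false
universe u

namespace Groth.Agent.H70.RegImmSmooth2

open IsLocalRing RingTheory.Sequence

theorem exists_list_lift {α β : Type*} (f : α → β) (S : Set α) (l : List β)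
    (h : ∀ b ∈ l, ∃ a ∈ S, f a = b) : ∃ l' : List α, (∀ a ∈ l', a ∈ S) ∧ l'.map f = l := by
  induction l with
  | nil => exact ⟨[], by simp, rfl⟩
  | cons b l ih =>
    obtain ⟨a, ha, hab⟩ := h b (List.mem_cons_self)
    obtain ⟨l', hl', hmap⟩ := ih (fun b' hb' => h b' (List.mem_cons_of_mem _ hb'))
    refine ⟨a :: l', ?_, by rw [List.map_cons, hab, hmap]⟩
    intro x hx
    rcases List.mem_cons.mp hx with rfl | hx
    · exact ha
    · exact hl' x hx

set_option maxHeartbeats 800000 in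
theorem exists_isRegular_of_flat_of_regular_fibres (R C : Type u) [CommRing R] [CommRing C]
    [IsLocalRing R] [IsLocalRing C] [IsNoetherianRing C] [Algebra R C]
    [IsLocalHom (algebraMap R C)] (J : Ideal C) [Module.Flat R C] [Module.Flat R (C ⧸ J)]
    (h1 : IsRegularLocalRing (C ⧸ (maximalIdeal R).map (algebraMap R C)))
    (h2 : IsRegularLocalRing ((C ⧸ J) ⧸ (maximalIdeal R).map (algebraMap R (C ⧸ J)))) :
    ∃ rs : List C, IsRegular C rs ∧ Ideal.ofList rs = J := by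
  set 𝔪 := (maximalIdeal R).map (algebraMap R C) with h𝔪
  have h𝔪le : 𝔪 ≤ maximalIdeal C :=
    ((IsLocalRing.local_hom_TFAE (algebraMap R C)).out 0 2).mp ‹_›
  have hJ : J ≠ ⊤ := by
    intro h
    haveI := h2.toIsLocalRing
    have : Nontrivial ((C ⧸ J) ⧸ (maximalIdeal R).map (algebraMap R (C ⧸ J))) := inferInstance
    have hs : Subsingleton (C ⧸ J) := Ideal.Quotient.subsingleton_iff.mpr h
    exact not_subsingleton _ (inferInstance :
      Subsingleton ((C ⧸ J) ⧸ (maximalIdeal R).map (algebraMap R (C ⧸ J))))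
  set J' := J.map (Ideal.Quotient.mk 𝔪) with hJ'
  have hmapeq : (maximalIdeal R).map (algebraMap R (C ⧸ J)) = 𝔪.map (Ideal.Quotient.mk J) := by
    rw [h𝔪, Ideal.map_map]
    rfl
  let e : (C ⧸ 𝔪) ⧸ J' ≃+* (C ⧸ J) ⧸ 𝔪.map (Ideal.Quotient.mk J) :=
    DoubleQuot.quotQuotEquivComm 𝔪 J
  haveI hreg' : IsRegularLocalRing ((C ⧸ 𝔪) ⧸ J') := by
    rw [hmapeq] at h2
    exact IsRegularLocalRing.of_ringEquiv e.symm
  haveI := h1
  have hJ'top : J' ≠ ⊤ := by
    intro h
    have h1' : Nontrivial ((C ⧸ 𝔪) ⧸ J') := inferInstance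
    exact (Ideal.Quotient.nontrivial_iff.mp h1') h
  obtain ⟨rs', hrs', hJrs'⟩ :=
    (Groth.Agent.H9.exists_isRegular_iff_isRegularLocalRing (C ⧸ 𝔪) J' hJ'top).mpr h1
  -- lift to `J`
  obtain ⟨rs, hrsJ, hmap⟩ := exists_list_lift (Ideal.Quotient.mk 𝔪) (J : Set C) rs' (by
    intro b hb
    have hbJ : b ∈ J' := hJrs' ▸ Ideal.subset_span hb
    obtain ⟨a, ha, hab⟩ := (Ideal.mem_map_iff_of_surjective _ Ideal.Quotient.mk_surjective).mp hbJ
    exact ⟨a, ha, hab⟩)
  have hle : Ideal.ofList rs ≤ J := Ideal.span_le.mpr (fun x hx => hrsJ x hx)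
  -- regularity on the fibre, as a `C`-module
  have hw1 : IsWeaklyRegular (C ⧸ 𝔪) rs := by
    refine (isWeaklyRegular_map_algebraMap_iff (C ⧸ 𝔪) (C ⧸ 𝔪) rs).mp ?_
    have : rs.map (algebraMap C (C ⧸ 𝔪)) = rs' := hmap
    rw [this]
    exact hrs'.toIsWeaklyRegular
  have hw2 : IsWeaklyRegular (C ⧸ (𝔪 • ⊤ : Submodule C C)) rs := by
    have e1 : (C ⧸ 𝔪) ≃ₗ[C] (C ⧸ (𝔪 • ⊤ : Submodule C C)) :=
      Submodule.quotEquivOfEq _ _ (by simp)
    exact (e1.isWeaklyRegular_congr rs).mp hw1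
  obtain ⟨hw, hflat⟩ := Groth.Agent.H57.isWeaklyRegular_and_flat_of_fibre (A := R) (B := C)
    rs C hw2
  refine ⟨rs, (Groth.Agent.H9.isRegular_ring_iff rs).mpr ⟨hw, fun h => hJ (top_le_iff.mp (h ▸ hle))⟩,
    le_antisymm hle ?_⟩
  have h𝔞 : (maximalIdeal R).map (algebraMap R C) ≤ Ideal.jacobson ⊥ := by
    rw [IsLocalRing.jacobson_eq_maximalIdeal ⊥ bot_ne_top]
    exact h𝔪le
  refine Groth.Agent.H57.le_of_flat_quotient_of_le_sup (A := R) (B := C) C (maximalIdeal R) h𝔞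
    (Ideal.ofList rs) J hle ?_
  intro x hx
  have hx1 : Ideal.Quotient.mk 𝔪 x ∈ J' := Ideal.mem_map_of_mem _ hx
  rw [hJrs', ← hmap, ← Ideal.map_ofList, ← Ideal.mem_comap,
    Ideal.comap_map_of_surjective _ Ideal.Quotient.mk_surjective, ← RingHom.ker_eq_comap_bot,
    Ideal.mk_ker] at hx1
  simpa [Ideal.smul_eq_mul, Ideal.mul_top] using hx1

end Groth.Agent.H70.RegImmSmooth2
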