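import Mathlib

/-!
# Formal smoothness of the local ring map induced by a ring map smooth after inverting an element
-/

set_option autoImplicit false
set_option linter.style.haveILetI false
universe u
open IsLocalRing

namespace Groth.Agent.H70.SardFSL

theorem formallySmooth_localRingHom {A B : Type u} [CommRing A] [CommRing B] (ψ : A →+* B) (b : B)
    (hsm : ((algebraMap B (Localization.Away b)).comp ψ).Smooth) (M : Ideal B) [M.IsPrime]
    (hb : b ∉ M) (N : Ideal A) [N.IsPrime] (hN : N = M.comap ψ) :
    (Localization.localRingHom N M ψ hN).FormallySmooth := by
  subst hN
  letI algAB : Algebra A B := ψ.toAlgebra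
  have hle : Submonoid.powers b ≤ M.primeCompl := by
    rw [Submonoid.powers_le]
    exact hb
  -- `A → B_b` is formally smooth
  haveI fsAb : Algebra.FormallySmooth A (Localization.Away b) := by
    have h1 : (algebraMap A (Localization.Away b)).Smooth := by
      have : algebraMap A (Localization.Away b) = (algebraMap B (Localization.Away b)).comp ψ :=
        IsScalarTower.algebraMap_eq A B (Localization.Away b)
      rw [this]; exact hsm
    have h2 : Algebra.Smooth A (Localization.Away b) := RingHom.smooth_algebraMap.mp h1
    exact h2.formallySmooth
  -- `B_M` as a localization of `B_b`
  letI algBbM : Algebra (Localization.Away b) (Localization.AtPrime M) :=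
    IsLocalization.localizationAlgebraOfSubmonoidLe (Localization.Away b) (Localization.AtPrime M)
      (Submonoid.powers b) M.primeCompl hle
  haveI st1 : IsScalarTower B (Localization.Away b) (Localization.AtPrime M) :=
    IsLocalization.localization_isScalarTower_of_submonoid_le (Localization.Away b)
      (Localization.AtPrime M) (Submonoid.powers b) M.primeCompl hle
  haveI loc : IsLocalization (M.primeCompl.map (algebraMap B (Localization.Away b)))
      (Localization.AtPrime M) :=
    IsLocalization.isLocalization_of_submonoid_le (Localization.Away b) (Localization.AtPrime M)
      (Submonoid.powers b) M.primeCompl hle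
  haveI fs2 : Algebra.FormallySmooth (Localization.Away b) (Localization.AtPrime M) :=
    Algebra.FormallySmooth.of_isLocalization (M.primeCompl.map (algebraMap B (Localization.Away b)))
  haveI st2 : IsScalarTower A (Localization.Away b) (Localization.AtPrime M) := by
    apply IsScalarTower.of_algebraMap_eq
    intro a
    rw [IsScalarTower.algebraMap_apply A B (Localization.AtPrime M),
      IsScalarTower.algebraMap_apply B (Localization.Away b) (Localization.AtPrime M),
      ← IsScalarTower.algebraMap_apply A B (Localization.Away b)]
  haveI fs3 : Algebra.FormallySmooth A (Localization.AtPrime M) :=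
    Algebra.FormallySmooth.comp A (Localization.Away b) (Localization.AtPrime M)
  -- descend to `A_N`
  letI algNM : Algebra (Localization.AtPrime (M.comap ψ)) (Localization.AtPrime M) :=
    (Localization.localRingHom (M.comap ψ) M ψ rfl).toAlgebra
  haveI st3 : IsScalarTower A (Localization.AtPrime (M.comap ψ)) (Localization.AtPrime M) := by
    apply IsScalarTower.of_algebraMap_eq
    intro a
    show _ = Localization.localRingHom (M.comap ψ) M ψ rfl (algebraMap A _ a)
    rw [Localization.localRingHom_to_map]
    exact IsScalarTower.algebraMap_apply A B (Localization.AtPrime M) a
  exact Algebra.FormallySmooth.localization_base (M.comap ψ).primeCompl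

end Groth.Agent.H70.SardFSL
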