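import Mathlib
import Groth.Agent.S10929

/-!
# Ring-level generic smoothness in characteristic zero (from the scheme-level statement)
-/

set_option autoImplicit false
set_option linter.style.haveILetI false
universe u
open AlgebraicGeometry CategoryTheory

namespace Groth.Agent.H70.SardGS

theorem exists_smooth_away {k A B : Type u} [Field k] [IsAlgClosed k] [CharZero k] [CommRing A]
    [CommRing B] [IsDomain A] [IsDomain B] [Algebra k A] [Algebra.FiniteType k A] (φ : A →+* B)
    (hφ : φ.FiniteType) (hinj : Function.Injective φ) :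
    ∃ b : B, b ≠ 0 ∧ ((algebraMap B (Localization.Away b)).comp φ).Smooth := by
  let f : Spec (CommRingCat.of B) ⟶ Spec (CommRingCat.of A) := Spec.map (CommRingCat.ofHom φ)
  let qY : Spec (CommRingCat.of A) ⟶ Spec (CommRingCat.of k) :=
    Spec.map (CommRingCat.ofHom (algebraMap k A))
  haveI : LocallyOfFiniteType qY := by
    rw [HasRingHomProperty.Spec_iff (P := @LocallyOfFiniteType)]
    exact RingHom.finiteType_algebraMap.mpr inferInstance
  haveI : LocallyOfFiniteType f := by
    rw [HasRingHomProperty.Spec_iff (P := @LocallyOfFiniteType)]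
    exact hφ
  haveI : IsDomain (CommRingCat.of A) := ‹IsDomain A›
  haveI : IsDomain (CommRingCat.of B) := ‹IsDomain B›
  have hdom : DenseRange f.base := by
    show DenseRange (PrimeSpectrum.comap φ)
    rw [PrimeSpectrum.denseRange_comap_iff_ker_le_nilRadical, (RingHom.injective_iff_ker_eq_bot φ).mp hinj]
    exact bot_le
  obtain ⟨U, ⟨p, hpU⟩, hsm⟩ := Groth.Agent.S10929.result k (f ≫ qY) qY f rfl hdom
  obtain ⟨_, ⟨_, ⟨b, rfl⟩, rfl⟩, hpb, hbU⟩ := PrimeSpectrum.isBasis_basic_opens.exists_subset_of_mem_open
    hpU U.isOpen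
  have hb0 : b ≠ 0 := by
    rintro rfl
    rw [PrimeSpectrum.basicOpen_zero] at hpb
    exact hpb
  refine ⟨b, hb0, ?_⟩
  let g : Spec (CommRingCat.of (Localization.Away b)) ⟶ Spec (CommRingCat.of B) :=
    Spec.map (CommRingCat.ofHom (algebraMap B (Localization.Away b)))
  haveI : IsOpenImmersion g := IsOpenImmersion.of_isLocalization b
  have hrange : Set.range g ⊆ Set.range U.ι := by
    rw [Scheme.Opens.range_ι]
    have : Set.range g = (PrimeSpectrum.basicOpen b : Set (PrimeSpectrum B)) :=
      PrimeSpectrum.localization_away_comap_range (Localization.Away b) b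
    rw [this]
    exact hbU
  let j := IsOpenImmersion.lift U.ι g hrange
  have hj : j ≫ U.ι = g := IsOpenImmersion.lift_fac _ _ _
  haveI : IsOpenImmersion (j ≫ U.ι) := hj ▸ inferInstance
  haveI : IsOpenImmersion j := IsOpenImmersion.of_comp j U.ι
  haveI := hsm
  have h1 : Smooth (g ≫ f) := by
    rw [← hj, Category.assoc]
    infer_instance
  have h2 : g ≫ f = Spec.map (CommRingCat.ofHom ((algebraMap B (Localization.Away b)).comp φ)) := by
    rw [CommRingCat.ofHom_comp, Spec.map_comp]
  rw [h2, HasRingHomProperty.Spec_iff (P := @Smooth)] at h1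
  exact h1

end Groth.Agent.H70.SardGS
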