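import Mathlib

/-!
# Residue fields at maximal ideals of finite type algebras over an algebraically closed field
-/

set_option autoImplicit false
set_option linter.style.haveILetI false
universe u
open IsLocalRing

namespace Groth.Agent.H70.SardRes

theorem residue_surjective_localRingHom {k A B : Type u} [Field k] [IsAlgClosed k] [CommRing A]
    [CommRing B] [Algebra k A] [Algebra.FiniteType k A] (ψ : A →+* B) (hψ : ψ.FiniteType)
    (M : Ideal B) [M.IsMaximal] (N : Ideal A) [N.IsPrime] (hN : N = M.comap ψ) :
    N.IsMaximal ∧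
      Function.Surjective (IsLocalRing.ResidueField.map (Localization.localRingHom N M ψ hN)) := by
  subst hN
  letI algAB : Algebra A B := ψ.toAlgebra
  letI algB : Algebra k B := (ψ.comp (algebraMap k A)).toAlgebra
  haveI : IsScalarTower k A B := IsScalarTower.of_algebraMap_eq' rfl
  haveI : Algebra.FiniteType A B := hψ
  haveI ftB : Algebra.FiniteType k B :=
    Algebra.FiniteType.trans (R := k) (S := A) (A := B) inferInstance inferInstance
  letI := Ideal.Quotient.field M
  haveI fin : Module.Finite k (B ⧸ M) := finite_of_finite_type_of_isJacobsonRing k (B ⧸ M)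
  have hbij : Function.Bijective (algebraMap k (B ⧸ M)) :=
    IsAlgClosed.algebraMap_bijective_of_isIntegral
  have key : ∀ b : B, ∃ c : k, b - algebraMap k B c ∈ M := by
    intro b
    obtain ⟨c, hc⟩ := hbij.2 (Ideal.Quotient.mk M b)
    refine ⟨c, ?_⟩
    rw [← Ideal.Quotient.eq_zero_iff_mem, map_sub, ← hc, sub_eq_zero]
    rfl
  have hkB : ∀ c : k, algebraMap k B c = ψ (algebraMap k A c) := fun c => rfl
  constructor
  · rw [Ideal.isMaximal_iff]
    refine ⟨(Ideal.ne_top_iff_one _).mp (Ideal.IsPrime.ne_top inferInstance), ?_⟩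
    intro J x hNJ hxN hxJ
    obtain ⟨c, hc⟩ := key (ψ x)
    have hmem : x - algebraMap k A c ∈ M.comap ψ := by
      rw [Ideal.mem_comap, map_sub, ← hkB]
      exact hc
    have hc0 : c ≠ 0 := by
      rintro rfl
      rw [map_zero, sub_zero] at hmem
      exact hxN hmem
    have h1 : algebraMap k A c ∈ J := by
      have := J.sub_mem hxJ (hNJ hmem)
      rwa [sub_sub_cancel] at this
    have hu : IsUnit (algebraMap k A c) := (IsUnit.mk0 c hc0).map (algebraMap k A)
    rw [← Ideal.eq_top_iff_one]
    exact Ideal.eq_top_of_isUnit_mem J h1 hu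
  · intro z
    obtain ⟨q, rfl⟩ := (Ideal.bijective_algebraMap_quotient_residueField M).2 z
    obtain ⟨c, rfl⟩ := hbij.2 q
    refine ⟨IsLocalRing.residue _ (algebraMap A (Localization.AtPrime (M.comap ψ))
      (algebraMap k A c)), ?_⟩
    rw [IsLocalRing.ResidueField.map_residue, Localization.localRingHom_to_map]
    rfl

end Groth.Agent.H70.SardRes
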