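import Mathlib
import Groth.Agent.H54.SchemeDim2
import Groth.Agent.H58.SardRC
import Groth.Agent.H58.SardPUSH
import Groth.Agent.H58.SardSURJ
import Groth.Agent.H70.SardFSL
import Groth.Agent.H70.SardRes
import Groth.Agent.H70.SardGS

/-!
# Ring-level core of the Sard-type dimension bound (Hartshorne III.10.6)
-/

set_option autoImplicit false
set_option linter.style.haveILetI false
universe u
open IsLocalRing AlgebraicGeometry

namespace Groth.Agent.H70.SardCore

open Groth.Agent.H58.SardRC Groth.Agent.H58.SardPUSH Groth.Agent.H58.SardSURJ Groth.Agent.H70.SardFSL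
  Groth.Agent.H70.SardRes Groth.Agent.H70.SardGS

/-- Ring-level core of the Sard-type dimension bound. -/
theorem core {k A B : Type u} [Field k] [IsAlgClosed k] [CharZero k] [CommRing A] [CommRing B]
    [Algebra k A] [Algebra.FiniteType k A] (φ : A →+* B) (hφ : φ.FiniteType) (P : Ideal B)
    [P.IsPrime] :
    ∃ b : B, b ∉ P ∧ ∀ (m : Ideal B) [m.IsMaximal] (n : Ideal A) [n.IsPrime] (hn : n = m.comap φ),
      P ≤ m → b ∉ m → ∀ (r : ℕ),
      (∃ s : Fin r → Localization.AtPrime m,
        (∀ i, s i ∈ maximalIdeal (Localization.AtPrime m)) ∧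
        ∀ a ∈ maximalIdeal (Localization.AtPrime n),
          Localization.localRingHom n m φ hn a ∈
            Ideal.span (Set.range s) ⊔ (maximalIdeal (Localization.AtPrime m)) ^ 2) →
      ringKrullDim (A ⧸ P.comap φ) ≤ r := by
  set Q : Ideal A := P.comap φ with hQ
  let ψ : A ⧸ Q →+* B ⧸ P := Ideal.quotientMap P φ le_rfl
  have hψinj : Function.Injective ψ := Ideal.quotientMap_injective
  have hψcomp : ψ.comp (Ideal.Quotient.mk Q) = (Ideal.Quotient.mk P).comp φ := by
    ext a; rfl
  have hψft : ψ.FiniteType := by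
    have h1 : ((Ideal.Quotient.mk P).comp φ).FiniteType :=
      (RingHom.FiniteType.of_surjective _ Ideal.Quotient.mk_surjective).comp hφ
    rw [← hψcomp] at h1
    exact RingHom.FiniteType.of_comp_finiteType h1
  obtain ⟨b', hb'0, hsm⟩ := exists_smooth_away (k := k) ψ hψft hψinj
  obtain ⟨b, rfl⟩ := Ideal.Quotient.mk_surjective b'
  have hbP : b ∉ P := fun h => hb'0 (Ideal.Quotient.eq_zero_iff_mem.mpr h)
  refine ⟨b, hbP, ?_⟩
  intro m _ n _ hn hPm hbm r H
  -- the primes downstairs
  set M : Ideal (B ⧸ P) := m.map (Ideal.Quotient.mk P) with hM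
  have hMcomap : M.comap (Ideal.Quotient.mk P) = m := by
    rw [hM, Ideal.comap_map_of_surjective _ Ideal.Quotient.mk_surjective,
      ← RingHom.ker_eq_comap_bot, Ideal.mk_ker, sup_eq_left.mpr hPm]
  haveI hMmax : M.IsMaximal := by
    apply Ideal.IsMaximal.map_of_surjective_of_ker_le Ideal.Quotient.mk_surjective
    rwa [Ideal.mk_ker]
  set N : Ideal (A ⧸ Q) := M.comap ψ with hN
  haveI : N.IsPrime := Ideal.comap_isPrime _ _
  have hNcomap : n = N.comap (Ideal.Quotient.mk Q) := by
    rw [hN, Ideal.comap_comap, hψcomp, ← Ideal.comap_comap, hMcomap, hn]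
  have hbM : Ideal.Quotient.mk P b ∉ M := by
    intro h
    have : b ∈ M.comap (Ideal.Quotient.mk P) := h
    rw [hMcomap] at this
    exact hbm this
  -- the square of localizations
  let α := Localization.localRingHom n m φ hn
  let β := Localization.localRingHom N M ψ rfl
  let π₁ := Localization.localRingHom n N (Ideal.Quotient.mk Q) hNcomap
  let π₂ := Localization.localRingHom m M (Ideal.Quotient.mk P) hMcomap.symm
  haveI : IsLocalHom π₂ := Localization.isLocalHom_localRingHom _ _ _ _
  haveI : IsLocalHom β := Localization.isLocalHom_localRingHom _ _ _ _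
  have hcomm : β.comp π₁ = π₂.comp α := by
    rw [← Localization.localRingHom_comp, ← Localization.localRingHom_comp]
    congr 1
  have hπ₁ : Function.Surjective π₁ :=
    localRingHom_surjective _ Ideal.Quotient.mk_surjective _ _ _
  obtain ⟨s', hs', H'⟩ := push_elementwise α β π₁ π₂ hπ₁ hcomm r H
  have hβsm : β.FormallySmooth := formallySmooth_localRingHom ψ _ hsm M hbM N rfl
  obtain ⟨hNmax, hres⟩ := residue_surjective_localRingHom (k := k) ψ hψft M N rfl
  haveI := hNmax
  haveI : IsNoetherianRing (A ⧸ Q) := Algebra.FiniteType.isNoetherianRing k (A ⧸ Q)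
  have hdim := ringKrullDim_le_of_formallySmooth_of_elementwise β hβsm hres r s' hs' H'
  rw [IsLocalization.AtPrime.ringKrullDim_eq_height N (Localization.AtPrime N),
    Groth.Agent.H54.height_eq_ringKrullDim_of_isMaximal k (A ⧸ Q) N] at hdim
  exact hdim

end Groth.Agent.H70.SardCore
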