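import Mathlib
import Groth.Agent.H54.SchemeDim2

/-!
# Dimension of a closed subset bounded by transcendence degrees of residue fields
-/

set_option autoImplicit false
set_option linter.style.haveILetI false
universe u
open AlgebraicGeometry

namespace Groth.Agent.H70.SardDim

open Groth.Agent.H54

theorem topologicalKrullDim_closed_le_of_forall_tdeg_le {k : Type u} [Field k] {Y : Scheme.{u}}
    (s : Y ⟶ Spec (CommRingCat.of k)) [LocallyOfFiniteType s] (T : Set Y) (hT : IsClosed T) (n : ℕ)
    (h : ∀ y ∈ T, Groth.Agent.H54.tdeg s y ≤ n) : topologicalKrullDim ↥T ≤ n := by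
  classical
  haveI : QuasiSober T := hT.isClosedEmbedding_subtypeVal.quasiSober
  let g : TopologicalSpace.IrreducibleCloseds T → ℕ :=
    fun Z => tdeg s (Z.isIrreducible.genericPoint).1
  have hgen : ∀ Z : TopologicalSpace.IrreducibleCloseds T,
      closure ({Z.isIrreducible.genericPoint} : Set T) = (Z : Set T) :=
    fun Z => Z.isIrreducible.closure_genericPoint Z.isClosed
  have hg : StrictMono g := by
    intro Z Z' hlt
    have hsub : (Z : Set T) ⊆ (Z' : Set T) := hlt.le
    have hmem : Z.isIrreducible.genericPoint ∈ (Z' : Set T) :=
      hsub ((hgen Z).subset (subset_closure rfl))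
    have hsp : Z'.isIrreducible.genericPoint ⤳ Z.isIrreducible.genericPoint :=
      specializes_iff_mem_closure.mpr ((hgen Z').symm.subset hmem)
    have hne : Z'.isIrreducible.genericPoint ≠ Z.isIrreducible.genericPoint := by
      intro heq
      apply hlt.ne
      apply TopologicalSpace.IrreducibleCloseds.ext
      exact (hgen Z).symm.trans
        ((congrArg (fun y => closure ({y} : Set T)) heq.symm).trans (hgen Z'))
    exact tdeg_lt_of_specializes s (hsp.map continuous_subtype_val)
      (fun h => hne (Subtype.ext h))
  unfold topologicalKrullDim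
  rw [Order.krullDim]
  apply iSup_le
  intro p
  have h1 := LTSeries.head_add_length_le_nat (p.map g hg)
  have h2 : g p.last ≤ n :=
    h (p.last.isIrreducible.genericPoint).1 (p.last.isIrreducible.genericPoint).2
  rw [LTSeries.last_map] at h1
  have h3 : p.length ≤ n := by
    have : (p.map g hg).length = p.length := rfl
    omega
  exact_mod_cast h3

end Groth.Agent.H70.SardDim
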