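import Mathlib

/-!
# A point with dense trace of a set, dominating a point of the closure of the image
-/

set_option autoImplicit false
universe u

namespace Groth.Agent.H70.SardTop

open TopologicalSpace

theorem exists_generic_dense {X Y : Type*} [TopologicalSpace X] [TopologicalSpace Y]
    [TopologicalSpace.NoetherianSpace X] [QuasiSober X] (f : X → Y) (hf : Continuous f)
    (A : Set X) (y : Y) (hy : y ∈ closure (f '' A)) :
    ∃ ξ : X, ξ ∈ closure (A ∩ closure {ξ}) ∧ y ∈ closure ({f ξ} : Set Y) := by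
  classical
  -- minimal closed `Z` with `y ∈ closure (f '' (A ∩ Z))`
  let 𝒮 : Set (Closeds X) := {Z | y ∈ closure (f '' (A ∩ (Z : Set X)))}
  have h𝒮 : 𝒮.Nonempty := ⟨⊤, by
    show y ∈ closure (f '' (A ∩ ((⊤ : Closeds X) : Set X)))
    rw [Closeds.coe_top, Set.inter_univ]
    exact hy⟩
  obtain ⟨Z, hZ𝒮, hZmin⟩ := (wellFounded_lt (α := Closeds X)).has_min 𝒮 h𝒮
  have hZmem : y ∈ closure (f '' (A ∩ (Z : Set X))) := hZ𝒮
  -- minimality in a convenient form
  have hmin : ∀ W : Set X, IsClosed W → W ⊆ (Z : Set X) → y ∈ closure (f '' (A ∩ W)) →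
      W = (Z : Set X) := by
    intro W hW hWZ hyW
    by_contra hne
    have hlt : (⟨W, hW⟩ : Closeds X) < Z := by
      refine lt_of_le_of_ne hWZ ?_
      intro h
      exact hne (congrArg (fun C : Closeds X => (C : Set X)) h)
    exact hZmin ⟨W, hW⟩ hyW hlt
  -- density
  have hdense : closure (A ∩ (Z : Set X)) = (Z : Set X) := by
    apply hmin _ isClosed_closure
    · exact closure_minimal Set.inter_subset_right Z.isClosed
    · refine closure_mono (Set.image_mono ?_) hZmem
      exact fun a ha => ⟨ha.1, subset_closure ha⟩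
  -- nonempty
  have hne : (Z : Set X).Nonempty := by
    by_contra h
    rw [Set.not_nonempty_iff_eq_empty] at h
    rw [h, Set.inter_empty, Set.image_empty, closure_empty] at hZmem
    exact hZmem
  -- irreducible
  have hirr : IsIrreducible (Z : Set X) := by
    refine ⟨hne, ?_⟩
    rw [isPreirreducible_iff_isClosed_union_isClosed]
    intro z₁ z₂ hz₁ hz₂ hsub
    have hcov : A ∩ (Z : Set X) = (A ∩ ((Z : Set X) ∩ z₁)) ∪ (A ∩ ((Z : Set X) ∩ z₂)) := by
      ext a
      constructor
      · rintro ⟨haA, haZ⟩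
        rcases hsub haZ with h | h
        · exact Or.inl ⟨haA, haZ, h⟩
        · exact Or.inr ⟨haA, haZ, h⟩
      · rintro (⟨haA, haZ, -⟩ | ⟨haA, haZ, -⟩) <;> exact ⟨haA, haZ⟩
    rw [hcov, Set.image_union, closure_union] at hZmem
    rcases hZmem with h | h
    · left
      have heq := hmin _ (Z.isClosed.inter hz₁) Set.inter_subset_left h
      intro a ha
      have ha' : a ∈ (Z : Set X) ∩ z₁ := by rw [heq]; exact ha
      exact ha'.2
    · right
      have heq := hmin _ (Z.isClosed.inter hz₂) Set.inter_subset_left h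
      intro a ha
      have ha' : a ∈ (Z : Set X) ∩ z₂ := by rw [heq]; exact ha
      exact ha'.2
  -- the generic point
  have hgen : closure ({hirr.genericPoint} : Set X) = (Z : Set X) :=
    hirr.closure_genericPoint Z.isClosed
  obtain ⟨ξ, hξ⟩ : ∃ ξ, ξ = hirr.genericPoint := ⟨_, rfl⟩
  rw [← hξ] at hgen
  refine ⟨ξ, ?_, ?_⟩
  · rw [hgen, hdense, ← hgen]
    exact subset_closure rfl
  · have h1 : f '' (A ∩ (Z : Set X)) ⊆ closure ({f ξ} : Set Y) := by
      rintro _ ⟨a, ⟨-, haZ⟩, rfl⟩
      have : a ∈ closure ({ξ} : Set X) := by rw [hgen]; exact haZ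
      have h2 := image_closure_subset_closure_image hf (Set.mem_image_of_mem f this)
      rwa [Set.image_singleton] at h2
    exact closure_minimal h1 isClosed_closure hZmem

end Groth.Agent.H70.SardTop
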