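import Mathlib
import Groth.Agent.H70.EtaleOfRank
import Groth.Agent.H70.FibreEtaleNbhd

/-!
# Standard smooth charts over a fixed affine open of the base
-/

set_option autoImplicit false
set_option linter.style.haveILetI false
universe u
open AlgebraicGeometry CategoryTheory CategoryTheory.Limits TopologicalSpace Topology
open scoped TensorProduct

namespace Groth.Agent.H70.SmoothCharts

open Groth.Agent.H70.FibreEtaleNbhd

/-- For a smooth morphism, any affine chart `(U, V)` can be shrunk on the source to a basic open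
`D(a) ∋ y` such that `Γ(S, U) → Γ(Y, D(a))` is standard smooth of some relative dimension. -/
theorem exists_basicOpen_standardSmooth {Y S : Scheme.{u}} (f : Y ⟶ S) [Smooth f]
    {U : S.Opens} (hU : IsAffineOpen U) {V : Y.Opens} (hV : IsAffineOpen V) (e : V ≤ f ⁻¹ᵁ U)
    (y : Y) (hy : y ∈ V) :
    ∃ (a : Γ(Y, V)) (_ : y ∈ Y.basicOpen a) (n : ℕ),
      (f.appLE U (Y.basicOpen a) ((Y.basicOpen_le a).trans e)).hom.IsStandardSmoothOfRelativeDimension
        n := by
  have hsm : (f.appLE U V e).hom.Smooth := f.smooth_appLE hU hV e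
  rw [RingHom.smooth_iff_locally_isStandardSmooth] at hsm
  obtain ⟨s, hs, hP⟩ := hsm
  let q := (hV.primeIdealOf ⟨y, hy⟩).asIdeal
  obtain ⟨t, hts, htq⟩ : ∃ t ∈ s, t ∉ q := by
    by_contra hcon
    push Not at hcon
    have : Ideal.span s ≤ q := Ideal.span_le.mpr hcon
    rw [hs] at this
    exact (hV.primeIdealOf ⟨y, hy⟩).isPrime.ne_top (top_le_iff.mp this)
  have hyt : y ∈ Y.basicOpen t := (mem_basicOpen_iff_notMem_primeIdealOf hV y hy t).mpr htq
  have hst := hP t hts
  have hloc := hV.isLocalization_basicOpen t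
  have hst' : (f.appLE U (Y.basicOpen t) ((Y.basicOpen_le t).trans e)).hom.IsStandardSmooth := by
    letI : Algebra Γ(Y, V) Γ(Y, Y.basicOpen t) := (Y.presheaf.map (homOfLE (Y.basicOpen_le t)).op).hom.toAlgebra
    convert!
      RingHom.isStandardSmooth_respectsIso.1 _
        (IsLocalization.algEquiv (.powers t) (Localization.Away t) Γ(Y, Y.basicOpen t)).toRingEquiv
        hst
    ext x
    simp only [RingHom.coe_comp, Function.comp_apply, RingEquiv.toRingHom_eq_coe,
      RingHom.coe_coe, AlgEquiv.coe_ringEquiv, IsLocalization.algEquiv_apply,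
      IsLocalization.map_eq, RingHom.id_apply]
    simp only [RingHom.algebraMap_toAlgebra, ← CommRingCat.comp_apply, Scheme.Hom.appLE_map]
  obtain ⟨n, hn⟩ : ∃ n, (f.appLE U (Y.basicOpen t)
      ((Y.basicOpen_le t).trans e)).hom.IsStandardSmoothOfRelativeDimension n := by
    letI := (f.appLE U (Y.basicOpen t) ((Y.basicOpen_le t).trans e)).hom.toAlgebra
    obtain ⟨_, _, _, _, ⟨P⟩⟩ := hst'
    exact ⟨_, _, _, _, ‹_›, P, rfl⟩
  exact ⟨t, hyt, n, hn⟩

open Groth.Agent.H70.SmoothFibreDimComp Groth.Agent.H70.SmoothDiff Groth.Agent.H70.EtaleOfRank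

/-- A standard smooth chart of relative dimension `n` gives a morphism smooth of relative
dimension `n` between the affine opens. -/
theorem smoothOfRelativeDimension_resLE {X Y : Scheme.{u}} (f : X ⟶ Y)
    {U : Y.Opens} (hU : IsAffineOpen U) {V : X.Opens} (hV : IsAffineOpen V) (e : V ≤ f ⁻¹ᵁ U)
    (n : ℕ) (hn : (f.appLE U V e).hom.IsStandardSmoothOfRelativeDimension n) :
    SmoothOfRelativeDimension n (f.resLE U V e) := by
  haveI : IsAffine U.toScheme := hU
  haveI : IsAffine V.toScheme := hV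
  rw [HasRingHomProperty.iff_of_isAffine (P := @SmoothOfRelativeDimension n)]
  apply RingHom.locally_of RingHom.isStandardSmoothOfRelativeDimension_respectsIso
  rw [Scheme.Hom.appTop, Scheme.Hom.resLE_app_top]
  have hri := RingHom.isStandardSmoothOfRelativeDimension_respectsIso (n := n)
  rw [CommRingCat.hom_comp, hri.cancel_left_isIso, CommRingCat.hom_comp,
    hri.cancel_right_isIso]
  exact hn

theorem fibreDimAt_of_chart {X Y : Scheme.{u}} (f : X ⟶ Y)
    {U : Y.Opens} (hU : IsAffineOpen U) {V : X.Opens} (hV : IsAffineOpen V) (e : V ≤ f ⁻¹ᵁ U)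
    (n : ℕ) (hn : (f.appLE U V e).hom.IsStandardSmoothOfRelativeDimension n) (x : X)
    (hx : x ∈ V) : FlatMor.fibreDimAt f x = (n : WithBot ℕ∞) := by
  haveI := smoothOfRelativeDimension_resLE f hU hV e n hn
  exact fibreDimAt_of_local f (f.resLE U V e) V.ι U.ι (Scheme.Hom.resLE_comp_ι f e) n
    ⟨x, hx⟩ x rfl

/-- A monomorphism between smooth `S`-schemes of the same local fibre dimensions is étale. -/
theorem etale_of_mono_of_fibreDim {X Y S : Scheme.{u}} (f : Y ⟶ S) (h : X ⟶ S) [Smooth f]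
    [Smooth h] (g : X ⟶ Y) (w : g ≫ f = h) [Mono g]
    (hdim : ∀ x : X, FlatMor.fibreDimAt f (g x) = FlatMor.fibreDimAt h x) : Etale g := by
  haveI : FormallyUnramified g := inferInstance
  haveI : MorphismProperty.RespectsRight @Etale @IsOpenImmersion :=
    ⟨fun i hi f hf => by haveI := hi; haveI := hf; infer_instance⟩
  rw [IsZariskiLocalAtSource.iff_exists_resLE (P := @Etale)]
  intro x
  obtain ⟨_, ⟨U, hU, rfl⟩, hxU, -⟩ :=
    S.isBasis_affineOpens.exists_subset_of_mem_open (Set.mem_univ (h x)) isOpen_univ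
  have hfg : ∀ z : X, f (g z) = h z := fun z => by rw [← w]; rfl
  have hgx : g x ∈ f ⁻¹ᵁ U := by
    show f (g x) ∈ U
    rw [hfg]; exact hxU
  obtain ⟨_, ⟨V, hV, rfl⟩, hyV, hVU⟩ :=
    Y.isBasis_affineOpens.exists_subset_of_mem_open hgx (f ⁻¹ᵁ U).2
  obtain ⟨a, hya, n', hn'⟩ := exists_basicOpen_standardSmooth f hU hV hVU (g x) hyV
  have hV' : IsAffineOpen (Y.basicOpen a) := hV.basicOpen a
  have hV'U : Y.basicOpen a ≤ f ⁻¹ᵁ U := (Y.basicOpen_le a).trans hVU
  obtain ⟨_, ⟨W, hW, rfl⟩, hxW, hWV⟩ :=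
    X.isBasis_affineOpens.exists_subset_of_mem_open (show x ∈ g ⁻¹ᵁ Y.basicOpen a from hya)
      (g ⁻¹ᵁ Y.basicOpen a).2
  have hWU : W ≤ h ⁻¹ᵁ U := by
    intro z hz
    show h z ∈ U
    rw [← hfg]
    exact hV'U (hWV hz)
  obtain ⟨b, hxb, n, hn⟩ := exists_basicOpen_standardSmooth h hU hW hWU x hxW
  have hW' : IsAffineOpen (X.basicOpen b) := hW.basicOpen b
  have hW'V' : X.basicOpen b ≤ g ⁻¹ᵁ Y.basicOpen a := (X.basicOpen_le b).trans hWV
  have hW'U : X.basicOpen b ≤ h ⁻¹ᵁ U := (X.basicOpen_le b).trans hWU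
  refine ⟨Y.basicOpen a, X.basicOpen b, hxb, hW'V', ?_⟩
  have e1 := fibreDimAt_of_chart f hU hV' hV'U n' hn' (g x) hya
  have e2 := fibreDimAt_of_chart h hU hW' hW'U n hn x hxb
  have hnn : n' = n := by
    have := hdim x
    rw [e1, e2] at this
    exact_mod_cast this
  subst hnn
  letI algA : Algebra Γ(S, U) Γ(Y, Y.basicOpen a) := (f.appLE U (Y.basicOpen a) hV'U).hom.toAlgebra
  letI algB : Algebra Γ(S, U) Γ(X, X.basicOpen b) := (h.appLE U (X.basicOpen b) hW'U).hom.toAlgebra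
  letI algAB : Algebra Γ(Y, Y.basicOpen a) Γ(X, X.basicOpen b) :=
    (g.appLE (Y.basicOpen a) (X.basicOpen b) hW'V').hom.toAlgebra
  haveI : IsScalarTower Γ(S, U) Γ(Y, Y.basicOpen a) Γ(X, X.basicOpen b) :=
    IsScalarTower.of_algebraMap_eq' (by
      show (h.appLE U (X.basicOpen b) hW'U).hom =
        (g.appLE (Y.basicOpen a) (X.basicOpen b) hW'V').hom.comp
          (f.appLE U (Y.basicOpen a) hV'U).hom
      rw [← CommRingCat.hom_comp, Scheme.Hom.appLE_comp_appLE]
      congr 1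
      subst w
      rfl)
  haveI : Algebra.IsStandardSmoothOfRelativeDimension n' Γ(S, U) Γ(Y, Y.basicOpen a) := hn'
  haveI : Algebra.IsStandardSmoothOfRelativeDimension n' Γ(S, U) Γ(X, X.basicOpen b) := hn
  haveI : Algebra.IsStandardSmooth Γ(S, U) Γ(Y, Y.basicOpen a) :=
    Algebra.IsStandardSmoothOfRelativeDimension.isStandardSmooth n'
  haveI : Algebra.IsStandardSmooth Γ(S, U) Γ(X, X.basicOpen b) :=
    Algebra.IsStandardSmoothOfRelativeDimension.isStandardSmooth n'
  haveI : Algebra.FormallyUnramified Γ(Y, Y.basicOpen a) Γ(X, X.basicOpen b) :=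
    HasRingHomProperty.appLE @FormallyUnramified g ‹_› ⟨_, hV'⟩ ⟨_, hW'⟩ hW'V'
  obtain ⟨eA⟩ := nonempty_kaehler_equiv (R := Γ(S, U)) (S := Γ(Y, Y.basicOpen a)) n'
  obtain ⟨eB⟩ := nonempty_kaehler_equiv (R := Γ(S, U)) (S := Γ(X, X.basicOpen b)) n'
  haveI hfe : Algebra.FormallyEtale Γ(Y, Y.basicOpen a) Γ(X, X.basicOpen b) :=
    formallyEtale_of_kaehler_rank n' eA eB
  haveI : Algebra.FinitePresentation Γ(Y, Y.basicOpen a) Γ(X, X.basicOpen b) :=
    Algebra.FinitePresentation.of_restrict_scalars_finitePresentation Γ(S, U) _ _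
  haveI : Algebra.Etale Γ(Y, Y.basicOpen a) Γ(X, X.basicOpen b) := ⟨hfe, inferInstance⟩
  haveI : IsAffine (Y.basicOpen a).toScheme := hV'
  haveI : IsAffine (X.basicOpen b).toScheme := hW'
  rw [HasRingHomProperty.iff_of_isAffine (P := @Etale)]
  exact (RingHom.Etale.respectsIso.arrow_mk_iso_iff
    (arrowResLEAppIso g (Y.basicOpen a) (X.basicOpen b) hW'V')).mpr
      (RingHom.etale_algebraMap.mpr inferInstance)

end Groth.Agent.H70.SmoothCharts
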