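import Mathlib
import Groth.Agent.H70.SmoothCharts
import Groth.Agent.H9.FibreFormula
import Groth.Agent.H29.FiberStalkAt

/-!
# Standard smooth charts at points of the smooth locus; generic smoothness in characteristic zero
-/

set_option autoImplicit false
set_option linter.style.haveILetI false
universe u
open AlgebraicGeometry CategoryTheory CategoryTheory.Limits TopologicalSpace Topology IsLocalRing

namespace Groth.Agent.H70.SmoothLocusChart

open Groth.Agent.H70.FibreEtaleNbhd Groth.Agent.H70.SmoothCharts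

/-- Variant of `exists_basicOpen_standardSmooth` assuming only smoothness of the chart. -/
theorem exists_basicOpen_standardSmooth_of_smooth {Y S : Scheme.{u}} (f : Y ⟶ S)
    {U : S.Opens} (hU : IsAffineOpen U) {V : Y.Opens} (hV : IsAffineOpen V) (e : V ≤ f ⁻¹ᵁ U)
    (hsm : (f.appLE U V e).hom.Smooth) (y : Y) (hy : y ∈ V) :
    ∃ (a : Γ(Y, V)) (_ : y ∈ Y.basicOpen a) (n : ℕ),
      (f.appLE U (Y.basicOpen a) ((Y.basicOpen_le a).trans e)).hom.IsStandardSmoothOfRelativeDimension
        n := by
  rw [RingHom.smooth_iff_locally_isStandardSmooth] at hsm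
  obtain ⟨s, hs, hP⟩ := hsm
  let q := (hV.primeIdealOf ⟨y, hy⟩).asIdeal
  obtain ⟨t, hts, htq⟩ : ∃ t ∈ s, t ∉ q := by
    by_contra hcon
    push Not at hcon
    have : Ideal.span s ≤ q := Ideal.span_le.mpr hcon
    rw [hs] at this
    exact (hV.primeIdealOf ⟨y, hy⟩).isPrime.ne_top (top_le_iff.mp this)
  have hyt : y ∈ Y.basicOpen t := (mem_basicOpen_iff_notMem_primeIdealOf hV y hy t).mpr htq
  have hst := hP t hts
  have hloc := hV.isLocalization_basicOpen t
  have hst' : (f.appLE U (Y.basicOpen t) ((Y.basicOpen_le t).trans e)).hom.IsStandardSmooth := by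
    letI : Algebra Γ(Y, V) Γ(Y, Y.basicOpen t) := (Y.presheaf.map (homOfLE (Y.basicOpen_le t)).op).hom.toAlgebra
    convert!
      RingHom.isStandardSmooth_respectsIso.1 _
        (IsLocalization.algEquiv (.powers t) (Localization.Away t) Γ(Y, Y.basicOpen t)).toRingEquiv
        hst
    ext x
    simp only [RingHom.coe_comp, Function.comp_apply, RingEquiv.toRingHom_eq_coe,
      RingHom.coe_coe, AlgEquiv.coe_ringEquiv, IsLocalization.algEquiv_apply,
      IsLocalization.map_eq, RingHom.id_apply]
    simp only [RingHom.algebraMap_toAlgebra, ← CommRingCat.comp_apply, Scheme.Hom.appLE_map]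
  obtain ⟨n, hn⟩ : ∃ n, (f.appLE U (Y.basicOpen t)
      ((Y.basicOpen_le t).trans e)).hom.IsStandardSmoothOfRelativeDimension n := by
    letI := (f.appLE U (Y.basicOpen t) ((Y.basicOpen_le t).trans e)).hom.toAlgebra
    obtain ⟨_, _, _, _, ⟨P⟩⟩ := hst'
    exact ⟨_, _, _, _, ‹_›, P, rfl⟩
  exact ⟨t, hyt, n, hn⟩


/-- At a point of the smooth locus there is an affine chart which is standard smooth of some
relative dimension. -/
theorem exists_chart_of_mem_smoothLocus {X Y : Scheme.{u}} (f : X ⟶ Y)
    [LocallyOfFinitePresentation f] (x : X) (hx : x ∈ f.smoothLocus) :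
    ∃ (U : Y.Opens) (_ : IsAffineOpen U) (V : X.Opens) (_ : IsAffineOpen V) (_ : x ∈ V)
      (e : V ≤ f ⁻¹ᵁ U) (n : ℕ), (f.appLE U V e).hom.IsStandardSmoothOfRelativeDimension n := by
  obtain ⟨U, hU, V, hV, hVU, hxV, H⟩ := exists_smooth_of_formallySmooth_stalk f x hx
  obtain ⟨a, hxa, n, hn⟩ := exists_basicOpen_standardSmooth_of_smooth f hU hV hVU H x hxV
  exact ⟨U, hU, X.basicOpen a, hV.basicOpen a, hxa, _, n, hn⟩

/-- Generic smoothness in characteristic zero. -/
theorem generic_smoothness
    (X Y : Scheme.{u}) [IsIntegral X] [IsIntegral Y] [IsNoetherian X] [IsNoetherian Y]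
    (π : X ⟶ Y) [LocallyOfFiniteType π] [QuasiCompact π]
    (hdom : π.base (genericPoint X) = genericPoint Y) [CharZero Y.functionField]
    (n : ℕ) (hn : @Algebra.trdeg (Y.presheaf.stalk (π.base (genericPoint X))) X.functionField _ _
      (π.stalkMap (genericPoint X)).hom.toAlgebra = n) :
    ∃ U : X.Opens, (U : Set X).Nonempty ∧ SmoothOfRelativeDimension n (U.ι ≫ π) := by
  let ξ := genericPoint X
  have key : ∀ y : Y, y = genericPoint Y →
      IsField (Y.presheaf.stalk y) ∧ CharZero (Y.presheaf.stalk y) := by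
    rintro _ rfl
    exact ⟨Field.toIsField Y.functionField, inferInstance⟩
  obtain ⟨hF, hC⟩ := key (π.base ξ) hdom
  letI : Field (Y.presheaf.stalk (π.base ξ)) := hF.toField
  haveI : CharZero (Y.presheaf.stalk (π.base ξ)) := hC
  letI : Field (X.presheaf.stalk ξ) := inferInstanceAs (Field X.functionField)
  letI alg : Algebra (Y.presheaf.stalk (π.base ξ)) (X.presheaf.stalk ξ) :=
    (π.stalkMap ξ).hom.toAlgebra
  have hξ : ξ ∈ π.smoothLocus := by
    rw [Scheme.Hom.mem_smoothLocus]
    show Algebra.FormallySmooth (Y.presheaf.stalk (π.base ξ)) (X.presheaf.stalk ξ)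
    haveI : Algebra.EssFiniteType (Y.presheaf.stalk (π.base ξ)) (X.presheaf.stalk ξ) := by
      rw [← RingHom.essFiniteType_algebraMap, RingHom.algebraMap_toAlgebra]
      exact LocallyOfFiniteType.stalkMap π ξ
    exact Algebra.FormallySmooth.of_perfectField
  obtain ⟨U, hU, V, hV, hxV, e, m, hm⟩ := exists_chart_of_mem_smoothLocus π ξ hξ
  have e1 : FlatMor.fibreDimAt π ξ = (m : WithBot ℕ∞) := fibreDimAt_of_chart π hU hV e m hm ξ hxV
  obtain ⟨n', b, hn', hb, hnb⟩ := Groth.Agent.H9.FibreFormula.fibre_formula π ξ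
  -- the local ring of the fibre at the generic point is a field
  have hb0 : b = 0 := by
    obtain ⟨eq⟩ := Groth.Agent.H29.FiberStalkAt.nonempty_fiberStalkEquiv π ξ
    set I := Ideal.map (π.stalkMap ξ).hom (maximalIdeal (Y.presheaf.stalk (π.base ξ))) with hI
    have hItop : I ≠ ⊤ := by
      intro htop
      haveI : Subsingleton (X.presheaf.stalk ξ ⧸ I) := by
        rw [htop]; exact Ideal.Quotient.subsingleton_iff.mpr rfl
      haveI : Subsingleton ((π.fiber (π.base ξ)).presheaf.stalk (π.asFiber ξ)) :=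
        eq.symm.injective.subsingleton
      exact not_subsingleton _ ‹_›
    have hIbot : I = ⊥ := (Ideal.eq_bot_or_top I).resolve_right hItop
    have h0 : ringKrullDim ((π.fiber (π.base ξ)).presheaf.stalk (π.asFiber ξ)) = 0 := by
      rw [← ringKrullDim_eq_of_ringEquiv eq,
        ringKrullDim_eq_of_ringEquiv ((Ideal.quotEquivOfEq hIbot).trans (RingEquiv.quotientBot _))]
      exact ringKrullDim_eq_zero_of_field _
    rw [h0] at hb
    exact_mod_cast hb.symm
  -- transcendence degrees
  have hnn : n' = n := by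
    have hsq := Groth.Agent.H70.EtaleSquare.trdeg_eq_of_square (π.stalkMap ξ).hom
      (X.residue ξ).hom (π.residueFieldMap ξ).hom (Y.residue (π.base ξ)).hom
      (by rw [← CommRingCat.hom_comp, ← CommRingCat.hom_comp, Scheme.residue_residueFieldMap])
      (RingHom.Finite.of_surjective _ (IsLocalRing.residue_surjective))
      (RingHom.Finite.of_surjective _ (IsLocalRing.residue_surjective))
    have h2 : ((n : ℕ) : Cardinal.{u}) = (n' : ℕ) := (hn.symm.trans hsq).trans hn'
    exact_mod_cast h2.symm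
  have hmn : m = n := by
    rw [hnb, hb0, hnn] at e1
    have : (n + 0 : ℕ) = m := by exact_mod_cast e1
    omega
  subst hmn
  refine ⟨V, ⟨ξ, hxV⟩, ?_⟩
  haveI := smoothOfRelativeDimension_resLE π hU hV e m hm
  rw [← Scheme.Hom.resLE_comp_ι π e]
  exact inferInstanceAs (SmoothOfRelativeDimension (m + 0) _)

end Groth.Agent.H70.SmoothLocusChart
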