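import Mathlib
import Groth.Agent.H70.FibDimComp
import Groth.Agent.H37.GrpdCalc3

/-!
# Additivity of the dimensions of the fibre local rings from additivity of the fibre dimensions

For `f : X ⟶ Y`, `g : Y ⟶ S` locally of finite type: if
`fibreDimAt (f ≫ g) x = fibreDimAt f x + fibreDimAt g (f x)` then the Krull dimensions of the local
rings of the fibres at `x` are additive as well (transcendence degrees are always additive).
For `S = Spec k` the fibre local rings are the local rings of the total spaces.
-/

set_option autoImplicit false
set_option linter.style.haveILetI false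
universe u
open AlgebraicGeometry CategoryTheory CategoryTheory.Limits IsLocalRing

namespace Groth.Agent.H70.StalkDimComp

open Groth.Agent.H9.FibreFormula Groth.Agent.H29.FiberStalkAt Groth.Agent.H70.FibDimComp

set_option maxHeartbeats 800000 in
theorem stalkDim_add_of_fibreDimAt_eq {X Y S : Scheme.{u}} (f : X ⟶ Y) (g : Y ⟶ S)
    [LocallyOfFiniteType f] [LocallyOfFiniteType g] (x : X)
    (h : FlatMor.fibreDimAt (f ≫ g) x =
      FlatMor.fibreDimAt f x + FlatMor.fibreDimAt g (f.base x)) :
    ringKrullDim (((f ≫ g).fiber ((f ≫ g).base x)).presheaf.stalk ((f ≫ g).asFiber x)) =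
      ringKrullDim ((f.fiber (f.base x)).presheaf.stalk (f.asFiber x)) +
        ringKrullDim ((g.fiber (g.base (f.base x))).presheaf.stalk (g.asFiber (f.base x))) := by
  obtain ⟨n1, b1, ht1, hd1, hf1⟩ := fibre_formula f x
  obtain ⟨n2, b2, ht2, hd2, hf2⟩ := fibre_formula g (f.base x)
  obtain ⟨n3, b3, ht3, hd3, hf3⟩ := fibre_formula (f ≫ g) x
  have hn : n3 = n2 + n1 := by
    letI a01 : Algebra (S.residueField (g.base (f.base x))) (Y.residueField (f.base x)) :=
      (g.residueFieldMap (f.base x)).hom.toAlgebra
    letI a12 : Algebra (Y.residueField (f.base x)) (X.residueField x) :=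
      (f.residueFieldMap x).hom.toAlgebra
    letI a02 : Algebra (S.residueField (g.base (f.base x))) (X.residueField x) :=
      ((f ≫ g).residueFieldMap x).hom.toAlgebra
    haveI : IsScalarTower (S.residueField (g.base (f.base x))) (Y.residueField (f.base x))
        (X.residueField x) := IsScalarTower.of_algebraMap_eq' (by
      show ((f ≫ g).residueFieldMap x).hom = _
      rw [Scheme.residueFieldMap_comp]
      rfl)
    have h := trdeg_add_eq (S.residueField (g.base (f.base x)))
      (Y.residueField (f.base x)) (A := X.residueField x)
    have ht3' : Algebra.trdeg (S.residueField (g.base (f.base x))) (X.residueField x) = n3 := ht3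
    have ht2' : Algebra.trdeg (S.residueField (g.base (f.base x))) (Y.residueField (f.base x)) =
        n2 := ht2
    have ht1' : Algebra.trdeg (Y.residueField (f.base x)) (X.residueField x) = n1 := ht1
    rw [ht3', ht2', ht1'] at h
    exact_mod_cast h.symm
  rw [hf1, hf2, hf3, hn] at h
  have h' : n2 + n1 + b3 = (n1 + b1) + (n2 + b2) := by exact_mod_cast h
  have hb : b3 = b1 + b2 := by omega
  rw [hd1, hd2, hd3, hb]
  push_cast
  rfl

/-- The stalk of the source of an open immersion is the stalk of the target. -/
theorem ringKrullDim_stalk_eq_of_isOpenImmersion {F X : Scheme.{u}} (j : F ⟶ X)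
    [IsOpenImmersion j] (z : F) (x : X) (h : j z = x) :
    ringKrullDim (F.presheaf.stalk z) = ringKrullDim (X.presheaf.stalk x) := by
  subst h
  exact (ringKrullDim_eq_of_ringEquiv (asIso (j.stalkMap z)).commRingCatIsoToRingEquiv).symm

/-- Over a field, the local ring of the fibre is the local ring of the scheme. -/
theorem fiberStalkDim_eq_of_field (k : Type u) [Field k] {X : Scheme.{u}}
    (q : X ⟶ Spec (CommRingCat.of k)) (x : X) :
    ringKrullDim ((q.fiber (q.base x)).presheaf.stalk (q.asFiber x)) =
      ringKrullDim (X.presheaf.stalk x) := by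
  haveI := Groth.Agent.H37.isIso_fromSpecResidueField_spec_field k (q x)
  haveI : IsIso (q.fiberι (q x)) := by
    show IsIso (pullback.fst q ((Spec (CommRingCat.of k)).fromSpecResidueField (q x)))
    exact pullback_fst_iso_of_right_iso _ _
  exact ringKrullDim_stalk_eq_of_isOpenImmersion (q.fiberι (q x)) (q.asFiber x) x
    (q.fiberι_asFiber x)

end Groth.Agent.H70.StalkDimComp
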